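import Cfsg.Agent.INV.SZ4.Pw

/-! Coordinates for `P`. -/

set_option autoImplicit false

namespace CL.SZ4

open Subgroup CL.MSS

universe u
variable {G : Type u} [Group G] [Finite G] {Λ : El G} {lam : G → F4} {P : Subgroup G} {τ : G → F4 × F4}
  {y : F4 → G}

/-- PROOF. `max`. -/
theorem Ps.norm (h : Ps Λ lam P τ) {g : G} (hR : ∀ r ∈ Λ.R, g * r = r * g)
    (hV : g ∈ normalizer (Λ.V : Set G)) : g ∈ normalizer (P : Set G) := by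
  refine mem_normalizer_fintype fun x hx => h.max _ ?_ (fun a c => ?_) fun r hr => ?_
  · obtain ⟨k, hk⟩ := pow_two_of_mem h.pg hx
    exact ⟨k, by rw [conj_pow, hk]; group⟩
  · obtain ⟨a', c', e⟩ := (mem_normalizer_iff''.1 hV _).1 (Λ.v_mem a c)
    have := cm_cj g (h.cV x hx a' c')
    rwa [← e, show g * (g⁻¹ * Λ.u a 0 c * g) * g⁻¹ = Λ.u a 0 c by group] at this
  · obtain ⟨a', c', e⟩ := (mem_normalizer_iff.1 hV _).1 (Λ.v_mem (lam r * (τ x).1) (lam r * (τ x).2))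
    refine ⟨a', c', ?_⟩
    conv_lhs => rw [← cj_of_comm (hR r hr)]
    rw [← e]
    calc _ = g * (x * r * x⁻¹) * g⁻¹ := by group
      _ = _ := by rw [h.act x hx r hr, cj_mul', cj_of_comm (hR r hr)]

namespace Cod

omit [Finite G] in
theorem ru (Λ : El G) {r : G} (hr : r ∈ Λ.R) (a b c : F4) : r * Λ.u a b c = Λ.u a b c * r :=
  Λ.comm (Λ.RK.le hr) (Λ.uL ..)

omit [Finite G] in
theorem tau_eq (h : Ps Λ lam P τ) {x r : G} (hx : x ∈ P) (hr : r ∈ Λ.R) (h1 : r ≠ 1) {a c : F4}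
    (e : x * r * x⁻¹ = r * Λ.u (lam r * a) 0 (lam r * c)) : τ x = (a, c) := by
  rw [h.act x hx r hr, mul_right_inj] at e
  have h0 : lam r ≠ 0 := fun e => h1 (h.lam_inj r hr e)
  exact Prod.ext (mul_left_cancel₀ h0 (Λ.u_inj e).1) (mul_left_cancel₀ h0 (Λ.u_inj e).2.2)

omit [Finite G] in
theorem exR (Λ : El G) : ∃ r ∈ Λ.R, r ≠ 1 := by
  by_contra hc
  push Not at hc
  exact Λ.R1 ((eq_bot_iff_forall _).2 hc)

omit [Finite G] in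
theorem tau_of (h : Ps Λ lam P τ) {x : G} (hx : x ∈ P) {a c : F4}
    (e : ∀ r ∈ Λ.R, x * r * x⁻¹ = r * Λ.u (lam r * a) 0 (lam r * c)) : τ x = (a, c) :=
  let ⟨r, hr, h1⟩ := exR Λ; tau_eq h hx hr h1 (e r hr)

omit [Finite G] in
theorem tau_mul (h : Ps Λ lam P τ) {x x' : G} (hx : x ∈ P) (hx' : x' ∈ P) : τ (x * x') = τ x + τ x' :=
  tau_of h (mul_mem hx hx') fun r hr => by
    rw [← cj_cj, h.act x' hx' r hr, cj_mul', h.act x hx r hr, cj_of_comm (h.cV x hx _ _), mul_assoc, Λ.v_mul,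
      ← mul_add, ← mul_add]

theorem add_self2 (p : F4 × F4) : p + p = 0 := Prod.ext (add_self _) (add_self _)

omit [Finite G] in
theorem tau_one (h : Ps Λ lam P τ) : τ 1 = 0 := by
  have := tau_mul h (one_mem P) (one_mem P)
  rwa [mul_one, add_self2] at this

omit [Finite G] in
theorem tau_inv (h : Ps Λ lam P τ) {x : G} (hx : x ∈ P) : τ x⁻¹ = τ x := by
  have := tau_mul h hx (inv_mem hx)
  rw [mul_inv_cancel, tau_one h] at this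
  rw [← add_zero (τ x), this, ← add_assoc, add_self2, zero_add]

omit [Finite G] in
theorem ker' (h : Ps Λ lam P τ) {x x' : G} (hx : x ∈ P) (hx' : x' ∈ P) (e : τ x = τ x') :
    ∃ r ∈ Λ.R, ∃ a c, x = r * Λ.u a 0 c * x' := by
  obtain ⟨r, hr, a, c, e⟩ := h.ker _ (mul_mem hx (inv_mem hx'))
    (by rw [tau_mul h hx (inv_mem hx'), tau_inv h hx', e, add_self2])
  exact ⟨r, hr, a, c, mul_inv_eq_iff_eq_mul.1 e⟩

omit [Finite G] in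
theorem sq_rux (h : Ps Λ lam P τ) {x r : G} (hx : x ∈ P) (hr : r ∈ Λ.R) (a c : F4) :
    r * Λ.u a 0 c * x * (r * Λ.u a 0 c * x) = Λ.u (lam r * (τ x).1) 0 (lam r * (τ x).2) * (x * x) := by
  calc _ = r * Λ.u a 0 c * (x * r * x⁻¹) * (x * Λ.u a 0 c * x⁻¹) * (x * x) := by group
    _ = _ := by
      rw [h.act x hx r hr, cj_of_comm (h.cV x hx _ _), Λ.mul_mul _ _ (Λ.RK.le hr) (Λ.uL ..), Λ.Rsq r hr, one_mul,
        Λ.v_comm a, mul_assoc _ (Λ.u a 0 c) (Λ.u a 0 c), Λ.v_sq, mul_one]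

theorem cj_mem (h : Ps Λ lam P τ) {m x : G} (hm : m ∈ Λ.L) (hV : m ∈ normalizer (Λ.V : Set G)) (hx : x ∈ P) :
    m * x * m⁻¹ ∈ P :=
  (mem_normalizer_iff.1 (h.norm (fun _ hr => (Λ.comm (Λ.RK.le hr) hm).symm) hV) _).1 hx

omit [Finite G] in
theorem cj_act {m x r v : G} (hm : m ∈ Λ.L) (hr : r ∈ Λ.R) (e : x * r * x⁻¹ = r * v) :
    m * x * m⁻¹ * r * (m * x * m⁻¹)⁻¹ = r * (m * v * m⁻¹) := by
  conv_lhs => rw [← Λ.conj_K (Λ.RK.le hr) hm]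
  rw [← Λ.conj_ka (Λ.RK.le hr) hm, ← e]; group

theorem q8 {Q : Type*} [Group Q] {ρ x y z : Q} (h : ρ * ρ = 1) (h1 : x * x = ρ) (h2 : y * y = ρ) (h3 : z * z = ρ)
    (h4 : x * y * (x * y) = ρ) (h5 : x * z * (x * z) = ρ) (h6 : y * z * (y * z) = ρ)
    (h7 : x * (y * z) * (x * (y * z)) = ρ) : ρ = 1 := by
  have key : ∀ {y : Q}, y * y = ρ → x * y * (x * y) = ρ → y * x = ρ * (x * y) := fun {y} e e' => by
    have i1 : x⁻¹ = ρ * x := inv_eq_of_mul_eq_one_left (by rw [mul_assoc, h1, h])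
    have i2 : y⁻¹ = ρ * y := inv_eq_of_mul_eq_one_left (by rw [mul_assoc, e, h])
    calc y * x = x⁻¹ * (x * y * (x * y)) * y⁻¹ := by group
      _ = ρ * x * (ρ * ρ) * y := by rw [e', i1, i2]; group
      _ = _ := by rw [h]; group
  have c2 : y * ρ = ρ * y := by rw [← h2]; group
  have k := key h6 h7
  rw [mul_assoc, key h3 h5, ← mul_assoc, c2, mul_assoc, ← mul_assoc y, key h2 h4, ← mul_assoc, ← mul_assoc, h,
    one_mul, mul_assoc] at k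
  exact (mul_eq_right.1 k.symm)

end Cod

open Cod Bas

/-- PROOF. `τ` is additive on `P` and determined by the action on one `r₀ ≠ 1`. `x² = r v` (`ker`); `ρ x = lam r`
depends only on `τ x`, and is constant, `= ρ₀`, on `τ x ≠ 0` (`conj_V`: `m ∈ L ⊓ N(V)` normalises `P`, fixes `R`,
and `τ (m x m⁻¹)` is the image of `τ x`). `R V / V` is central in `P / V`, the commutator `κ x x' ∈ R` (modulo `V`)
is biadditive and `ρ (x x') = ρ x + ρ x' + κ x x'`. With `τ x = (1, 0)`, `τ x' = (0, 1)`, `τ x'' = (0, w)`: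
`ρ₀ = κ x (x' x'') = κ x x' + κ x x'' = 0`. -/
theorem Ps.sq_mem (h : Ps Λ lam P τ) {x : G} (hx : x ∈ P) : x * x ∈ Λ.V := by
  obtain ⟨r₀, hr₀, h1⟩ := exR Λ
  have h0 : lam r₀ ≠ 0 := fun e => h1 (h.lam_inj _ hr₀ e)
  obtain ⟨x₀, hx₀, e₀⟩ := h.surj (0, (lam r₀)⁻¹)
  obtain ⟨ρ, hρ, a₀, c₀, e₁⟩ := h.ker _ (mul_mem hx₀ hx₀) (by rw [tau_mul h hx₀ hx₀, add_self2])
  have key : ∀ x ∈ P, τ x ≠ 0 → ρ * (x * x) ∈ Λ.V := fun x hx hτ => by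
    obtain ⟨m, hm, hV, e⟩ := Λ.conj_V (a := lam r₀ * (τ x).1) (c := lam r₀ * (τ x).2) (by
      by_contra hc
      push Not at hc
      exact hτ (Prod.ext ((mul_eq_zero.1 hc.1).resolve_left h0) ((mul_eq_zero.1 hc.2).resolve_left h0)))
    have k1 := cj_mem h hm hV hx₀
    have k2 := tau_eq h k1 hr₀ h1 (a := (τ x).1) (c := (τ x).2) (by
      rw [← e]
      exact cj_act hm hr₀ (by rw [h.act x₀ hx₀ r₀ hr₀, e₀, mul_zero, mul_inv_cancel₀ h0]))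
    obtain ⟨r, hr, a, c, rfl⟩ := ker' h hx k1 k2.symm
    rw [sq_rux h k1 hr, ← cj_mul', e₁, Λ.conj_ka (Λ.RK.le hρ) hm, ← mul_assoc, ru Λ hρ, mul_assoc,
      ← mul_assoc ρ, Λ.Rsq ρ hρ, one_mul]
    exact mul_mem (Λ.v_mem ..) ((mem_normalizer_iff.1 hV _).1 (Λ.v_mem ..))
  have : (Λ.V.subgroupOf P).Normal := ⟨fun v hv g => by
    obtain ⟨a, c, e⟩ := hv
    exact ⟨a, c, by rw [← cj_of_comm (h.cV g g.2 a c), ← e]; rfl⟩⟩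
  let π := QuotientGroup.mk' (Λ.V.subgroupOf P)
  have key' : ∀ x : P, τ x ≠ 0 → π x * π x = π ⟨ρ, h.RP hρ⟩ := fun x hτ => by
    rw [← map_mul]
    exact (QuotientGroup.eq.2 (by
      rw [mem_subgroupOf]
      simpa [inv_of_sq (Λ.Rsq ρ hρ)] using key x x.2 hτ)).symm
  obtain ⟨x₁, hx₁, e1⟩ := h.surj (1, 0)
  obtain ⟨x₂, hx₂, e2⟩ := h.surj (0, 1)
  obtain ⟨x₃, hx₃, e3⟩ := h.surj (0, F4.w)
  have k : π ⟨ρ, h.RP hρ⟩ = 1 := by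
    refine q8 (x := π ⟨x₁, hx₁⟩) (y := π ⟨x₂, hx₂⟩) (z := π ⟨x₃, hx₃⟩)
      (by rw [← map_mul, ← map_one π]; exact congrArg _ (Subtype.ext (Λ.Rsq ρ hρ)))
      (key' _ (by rw [e1]; decide)) (key' _ (by rw [e2]; decide)) (key' _ (by rw [e3]; decide)) ?_ ?_ ?_ ?_ <;>
    simp only [← map_mul π ⟨x₁, hx₁⟩, ← map_mul π ⟨x₂, hx₂⟩] <;> refine key' _ ?_ <;>
    simp only [coe_mul, tau_mul h, hx₁, hx₂, hx₃, mul_mem, e1, e2, e3] <;> decide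
  have hρV : ρ ∈ Λ.V := mem_subgroupOf.1 ((QuotientGroup.eq_one_iff _).1 k)
  by_cases hτ : τ x = 0
  · obtain ⟨r, hr, a, c, rfl⟩ := h.ker x hx hτ
    rw [(Λ.sq_iff (Λ.RK.le hr) (Λ.uL ..)).2 ⟨Λ.Rsq r hr, Λ.v_sq a c⟩]
    exact one_mem _
  · exact (mul_mem_cancel_left hρV).1 (key x hx hτ)

namespace Cod

theorem dlem (h : Ps Λ lam P τ) {W q : G} (hW : W ∈ P) (hq : q ∈ P) {a b e : F4} (h1 : τ W = (a, 0))
    (h2 : τ q = (0, a * b)) (h3 : ∀ a b c, q * Λ.u a b c = Λ.u a b c * q) (h4 : q * q = Λ.z e) :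
    ∃ r ∈ Λ.R, ∃ a' c', W * Λ.u 0 b 0 * W⁻¹ * (Λ.u 0 b 0)⁻¹ = r * Λ.u a' 0 c' * q ∧
      a' * b = lam r * (a * b) + e := by
  have k1 := cj_mem h (Λ.uL 0 b 0) (u_V Λ.toLz 0 b 0) hW
  have k2 : τ (Λ.u 0 b 0 * W * (Λ.u 0 b 0)⁻¹) = (a, a * b) := tau_of h k1 fun r hr => by
    rw [cj_act (Λ.uL ..) hr (h.act W hW r hr), h1, Λ.u_conj]
    exact congrArg _ (Λ.u_congr rfl rfl (by ring))
  obtain ⟨r, hr, a', c', k3⟩ := ker' h (mul_mem hW (inv_mem k1)) hq (by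
    rw [tau_mul h hW (inv_mem k1), tau_inv h k1, k2, h1, h2]
    exact Prod.ext (add_self a) (zero_add _))
  have k4 : W * Λ.u 0 b 0 * W⁻¹ * (Λ.u 0 b 0)⁻¹ = r * Λ.u a' 0 c' * q := by rw [← k3]; group
  refine ⟨r, hr, a', c', k4, Λ.z_inj ?_⟩
  have k5 := sq_rux h hq hr a' c'
  rw [h2, h4, mul_zero, Λ.z_mul] at k5
  have k6 : Λ.u 0 b 0 * (r * Λ.u a' 0 c' * q) * (Λ.u 0 b 0)⁻¹ = r * Λ.u a' 0 c' * q * Λ.z (a' * b) := by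
    rw [cj_mul', cj_of_comm (h3 ..).symm, Λ.conj_ka (Λ.RK.le hr) (Λ.uL ..), Λ.u_conj, mul_assoc _ q (Λ.z _), h3 0 0,
      ← mul_assoc, mul_assoc r (Λ.u a' 0 c'), Λ.u_mul_z, mul_zero, add_zero]
  have k7 : Λ.u 0 b 0 * Λ.u 0 b 0 = 1 := by rw [Λ.u_sq, zero_mul]; exact Λ.u_zero
  have k8 : r * Λ.u a' 0 c' * q * (r * Λ.u a' 0 c' * q * Λ.z (a' * b)) = 1 := by
    rw [← k6, ← k4, inv_of_sq k7]
    calc _ = W * Λ.u 0 b 0 * W⁻¹ * (Λ.u 0 b 0 * Λ.u 0 b 0) * W * Λ.u 0 b 0 * W⁻¹ * (Λ.u 0 b 0 * Λ.u 0 b 0) := by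
          group
      _ = W * (Λ.u 0 b 0 * Λ.u 0 b 0) * W⁻¹ := by
          conv_lhs => rw [k7]
          group
      _ = 1 := by rw [k7]; group
  rw [← mul_assoc, k5] at k8
  rw [← Λ.z_inv, ← eq_inv_of_mul_eq_one_left k8]

omit [Finite G] in
theorem V_cen {x : G} (hx : x ∈ Λ.V) (e : x * Λ.u 0 1 0 = Λ.u 0 1 0 * x) : ∃ c, x = Λ.z c := by
  obtain ⟨a, c, rfl⟩ := hx
  exact ⟨c, by rw [show a = 0 by simpa using Λ.u_comm_iff.1 e]⟩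

/-- the three conjugates under `h` -/
def tri (h p : G) : F4 → G
  | .o => 1
  | .l => p
  | .w => h * p * h⁻¹
  | .v => h * (h * p * h⁻¹) * h⁻¹

omit [Finite G] in
theorem hcomm {p : G} (e : ∀ a b c, p * Λ.u a b c = Λ.u a b c * p) (a b c : F4) :
    Λ.h * p * Λ.h⁻¹ * Λ.u a b c = Λ.u a b c * (Λ.h * p * Λ.h⁻¹) := by
  have := cm_cj Λ.h (e (F4.w * a) (F4.w * b) (F4.v * c))
  rwa [← hu', show Λ.h * (Λ.h⁻¹ * Λ.u a b c * Λ.h) * Λ.h⁻¹ = Λ.u a b c by group] at this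

omit [Finite G] in
theorem hact {p : G} {η : F4} (e : ∀ r ∈ Λ.R, p * r * p⁻¹ = r * Λ.z (lam r * η)) :
    ∀ r ∈ Λ.R, Λ.h * p * Λ.h⁻¹ * r * (Λ.h * p * Λ.h⁻¹)⁻¹ = r * Λ.z (lam r * (F4.w * η)) := fun r hr => by
  rw [cj_act Λ.hL hr (e r hr), Λ.hz, mul_left_comm]

omit [Finite G] in
theorem h3cj (x : G) : Λ.h * (Λ.h * (Λ.h * x * Λ.h⁻¹) * Λ.h⁻¹) * Λ.h⁻¹ = x := by
  rw [cj_cj, cj_cj, Λ.h3]; group

theorem exists_p (h : Ys Λ lam) (hP : Ps Λ lam P τ) : ∃ p ∈ P, (∀ a b c, p * Λ.u a b c = Λ.u a b c * p) ∧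
    (∀ r ∈ Λ.R, p * r * p⁻¹ = r * Λ.z (lam r * 1)) ∧
    p * (Λ.h * p * Λ.h⁻¹) * (Λ.h * (Λ.h * p * Λ.h⁻¹) * Λ.h⁻¹) = 1 := by
  obtain ⟨y, y1, y2, -, y4⟩ := h.ex 1
  have hy : y ∈ P := hP.max y y1 (fun a c => y2 a 0 c) fun r hr => ⟨_, _, y4 r hr⟩
  have hy1 := cj_mem hP Λ.hL (h_V Λ.toLz) hy
  have hy2 := cj_mem hP Λ.hL (h_V Λ.toLz) hy1
  have t0 : τ y = (0, 1) := tau_of hP hy fun r hr => by rw [y4 r hr, mul_zero]
  have t1 : τ _ = (0, F4.w * 1) := tau_of hP hy1 fun r hr => by rw [hact y4 r hr, mul_zero]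
  have t2 : τ _ = (0, F4.w * (F4.w * 1)) := tau_of hP hy2 fun r hr => by rw [hact (hact y4) r hr, mul_zero]
  obtain ⟨r, hr, a, c, e⟩ := hP.ker _ (mul_mem (mul_mem hy hy1) hy2) (by
    rw [tau_mul hP (mul_mem hy hy1) hy2, tau_mul hP hy hy1, t0, t1, t2]; decide)
  have pu : ∀ a b c, r * y * Λ.u a b c = Λ.u a b c * (r * y) := fun a b c => by
    rw [mul_assoc, y2, ← mul_assoc, ru Λ hr, mul_assoc]
  have hr' : Λ.h * r * Λ.h⁻¹ = r := Λ.conj_K (Λ.RK.le hr) Λ.hL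
  obtain ⟨c', e'⟩ := V_cen (Λ := Λ) (x := r * y * (Λ.h * (r * y) * Λ.h⁻¹) *
      (Λ.h * (Λ.h * (r * y) * Λ.h⁻¹) * Λ.h⁻¹)) (by
    rw [cj_mul' Λ.h r, cj_mul' Λ.h (Λ.h * r * Λ.h⁻¹), hr', hr']
    have : r * y * (r * (Λ.h * y * Λ.h⁻¹)) * (r * (Λ.h * (Λ.h * y * Λ.h⁻¹) * Λ.h⁻¹)) =
        r * (y * r * y⁻¹) * (y * (Λ.h * y * Λ.h⁻¹) * r * (y * (Λ.h * y * Λ.h⁻¹))⁻¹) *
        (y * (Λ.h * y * Λ.h⁻¹) * (Λ.h * (Λ.h * y * Λ.h⁻¹) * Λ.h⁻¹)) := by group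
    rw [this, e, hP.act _ (mul_mem hy hy1) r hr, y4 r hr, ← mul_assoc r r, Λ.Rsq r hr, one_mul, mul_assoc (Λ.u 0 0 _),
      Λ.mul_mul _ _ (Λ.RK.le hr) (Λ.uL ..), Λ.Rsq r hr, one_mul]
    exact mul_mem (Λ.v_mem ..) (mul_mem (Λ.v_mem ..) (Λ.v_mem ..)))
    (Commute.mul_left (Commute.mul_left (pu ..) (hcomm pu ..)) (hcomm (hcomm pu) ..))
  refine ⟨r * y, mul_mem (hP.RP hr) hy, pu, fun r' hr' => ?_, ?_⟩
  · rw [← cj_cj, y4 r' hr', cj_mul', cj_of_comm (comm_of_sq Λ.Rsq hr hr'), cj_of_comm (ru Λ hr ..)]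
  · have k := Λ.hz c'
    rw [← e', cj_mul', cj_mul', h3cj] at k
    have k2 : Λ.z (F4.w * c') = Λ.z c' := by
      calc _ = (r * y)⁻¹ * (Λ.z c' * (r * y)) := by rw [← k, ← e']; group
        _ = _ := by rw [← pu, inv_mul_cancel_left]
    have key : ∀ c : F4, F4.w * c = c → c = 0 := by decide
    rw [e', key _ (Λ.z_inj k2), Λ.z_eq_one]

end Cod

/-- PROOF. `P`, `τ` from `exists_Ps`. `y₀` from `ex 1` lies in `P` (`max`). `y₀ * h y₀ h⁻¹ * h² y₀ h⁻² = r z c`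
(`ker`; it centralises `U`). Put `p₀ = y₀ r`, `p₁ = h p₀ h⁻¹`, `p₂ = h p₁ h⁻¹`: `p₀ p₁ p₂ = z c'`, conjugating by `h`
gives `w c' = c'`, so `p₀ p₁ p₂ = 1`. `p₀² = z b₀` (`sq_mem`, `V ⊓ C(U) = Y`), `p₁² = z (w b₀)`, `p₂² = z (v b₀)`,
`[p₀, p₁] ∈ Y`, and `(p₀ p₁)² = p₂⁻²` shows that `p₀`, `p₁` commute. `b₀ = 0`: `W = n p₀ n⁻¹ ∈ P` has `τ = (1, 0)`,
`ξ b = u 0 b 0`, `d b = W⁻¹ (ξ b) W (ξ b)⁻¹ ∈ P` has `τ = (0, b)`, so `d b = r_b * u a_b 0 c_b * p b`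
(`p 1 = p₀`, `p w = p₁`, `p v = p₂`). `(d b)² = z (lam r_b * b + b₀ * b)`; `ξ b` inverts `d b` and
`ξ b (d b) (ξ b)⁻¹ = d b * z (a_b * b)`; so `a_b = lam r_b + b₀`. `d v = d 1 * ξ 1 (d w) (ξ 1)⁻¹` gives
`r_v = r_1 r_w`, `a_v = a_1 + a_w`, so `b₀ = 0`. Put `y 0 = 1`, `y b = p b`. -/
theorem Ys.exists_Yc (h : Ys Λ lam) : ∃ y, Yc Λ lam y := by
  obtain ⟨P, τ, hP⟩ := h.exists_Ps
  obtain ⟨p, hp, pu, pr, p3⟩ := exists_p h hP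
  have hp1 := cj_mem hP Λ.hL (h_V Λ.toLz) hp
  have hp2 := cj_mem hP Λ.hL (h_V Λ.toLz) hp1
  have pu1 := hcomm pu
  have pu2 := hcomm pu1
  have pr1 := hact pr
  have pr2 := hact pr1
  obtain ⟨b₀, s0⟩ := V_cen (hP.sq_mem hp) (by rw [mul_assoc, pu, ← mul_assoc, pu, mul_assoc])
  have s1 := Λ.hz b₀
  have s2 := Λ.hz (F4.w * b₀)
  rw [← s0, cj_mul'] at s1
  rw [← s1, cj_mul'] at s2
  have h3 := h3cj (Λ := Λ) p
  generalize hp1' : Λ.h * p * Λ.h⁻¹ = p1 at *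
  generalize hp2' : Λ.h * p1 * Λ.h⁻¹ = p2 at *
  have e1 : p * p1 = p2 * Λ.z (F4.w * (F4.w * b₀)) := by
    rw [eq_inv_of_mul_eq_one_left p3, ← Λ.z_inv, ← s2]; group
  have hW := cj_mem hP (Λ.nL false) (n_V Λ.toLz) hp
  have tW : τ _ = (1, 0) := tau_of hP hW fun r hr => by rw [cj_act (Λ.nL _) hr (pr r hr), Λ.n0, mul_zero]
  obtain ⟨r0, hr0, a0, c0, d0, f0⟩ := dlem hP hW hp (b := 1) tW
    (tau_of hP hp fun r hr => by rw [pr r hr, mul_zero, one_mul]) pu s0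
  obtain ⟨r1, hr1, a1, c1, d1, f1⟩ := dlem hP hW hp1 (b := F4.w) tW
    (tau_of hP hp1 fun r hr => by rw [pr1 r hr, mul_zero, one_mul, mul_one]) pu1 s1
  obtain ⟨r2, hr2, a2, c2, d2, f2⟩ := dlem hP hW hp2 (b := F4.v) tW
    (tau_of hP hp2 fun r hr => by rw [pr2 r hr, mul_zero]; rfl) pu2 s2
  have k1 : Λ.u 0 F4.v 0 = Λ.u 0 1 0 * Λ.u 0 F4.w 0 := by rw [Λ.u_mul]; rfl
  generalize Λ.n false * p * (Λ.n false)⁻¹ = W at *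
  have k2 : W * Λ.u 0 F4.v 0 * W⁻¹ * (Λ.u 0 F4.v 0)⁻¹ = W * Λ.u 0 1 0 * W⁻¹ * (Λ.u 0 1 0)⁻¹ *
      (Λ.u 0 1 0 * (W * Λ.u 0 F4.w 0 * W⁻¹ * (Λ.u 0 F4.w 0)⁻¹) * (Λ.u 0 1 0)⁻¹) := by rw [k1]; group
  rw [d0, d1, d2, cj_mul', cj_of_comm (pu1 ..).symm, Λ.conj_ka (Λ.RK.le hr1) (Λ.uL ..), Λ.u_conj] at k2
  have k3 : r0 * Λ.u a0 0 c0 * p * (r1 * Λ.u a1 0 (c1 + 0 * 0 + a1 * 1) * p1) =
      r0 * Λ.u a0 0 c0 * (p * r1 * p⁻¹ * (p * Λ.u a1 0 (c1 + 0 * 0 + a1 * 1) * p⁻¹)) * (p * p1) := by group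
  rw [k3, pr r1 hr1, cj_of_comm (pu ..), e1, pu2, ← mul_assoc, mul_left_inj, mul_assoc r1, Λ.v_mul,
    Λ.mul_mul _ _ (Λ.RK.le hr1) (Λ.uL ..), mul_assoc, Λ.v_mul, Λ.v_mul] at k2
  obtain ⟨k4, k5⟩ := Λ.ext (Λ.RK.le hr2) (Λ.RK.le (mul_mem hr0 hr1)) (Λ.uL ..) (Λ.uL ..) k2
  have k6 := (Λ.u_inj k5).1
  rw [k4, h.lam_mul _ hr0 _ hr1, k6] at f2
  have k7 : ∀ a0 a1 l0 l1 b : F4, a0 * 1 = l0 * (1 * 1) + b → a1 * F4.w = l1 * (1 * F4.w) + F4.w * b →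
      (a0 + (0 + a1) + 0) * F4.v = (l0 + l1) * (1 * F4.v) + F4.w * (F4.w * b) → b = 0 := by decide +kernel
  obtain rfl := k7 _ _ _ _ _ f0 f1 f2
  rw [mul_zero] at s1
  rw [mul_zero, mul_zero] at s2 e1
  rw [Λ.z_eq_one.2 rfl] at s0 s1 s2 e1
  rw [mul_one] at e1
  have e2 : p1 * p = p2 := by rw [← inv_of_sq s0, ← inv_of_sq s1, ← mul_inv_rev, e1, inv_of_sq s2]
  have e3 : p * p2 = p1 := by rw [← e1, ← mul_assoc, s0, one_mul]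
  have e4 : p2 * p = p1 := by rw [← e2, mul_assoc, s0, mul_one]
  have e5 : p1 * p2 = p := by rw [← e2, ← mul_assoc, s1, one_mul]
  have e6 : p2 * p1 = p := by rw [← e1, mul_assoc, s1, mul_one]
  have t1 : tri Λ.h p F4.w = p1 := hp1'
  have t2 : tri Λ.h p F4.v = p2 := by rw [← hp2', ← hp1']; rfl
  have tP : ∀ η, tri Λ.h p η ∈ P := fun η => by
    cases η
    exacts [one_mem _, hp, t1 ▸ hp1, t2 ▸ hp2]
  refine ⟨tri Λ.h p, fun a b => ?_, fun η => ?_, fun η => ?_, fun η => ?_, fun η => hP.cO _ (tP η)⟩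
  · cases a <;> cases b <;> change tri _ _ _ * tri _ _ _ = tri _ _ (F4.add _ _) <;>
      simp only [F4.add, t1, t2] <;> simp only [tri, one_mul, mul_one] <;> assumption
  · cases η
    exacts [fun a b c => by simp [tri], pu, t1 ▸ pu1, t2 ▸ pu2]
  · cases η
    exacts [by change Λ.h * 1 * Λ.h⁻¹ = 1; group, rfl, rfl, t2 ▸ h3]
  · cases η
    exacts [fun r hr => by rw [show F4.o = 0 from rfl, mul_zero, Λ.u_zero]; change 1 * r * 1⁻¹ = _; group,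
      pr, t1 ▸ pr1, t2 ▸ pr2]

theorem Yc.sw (h : Yc Λ lam y) : Yc Λ.sw lam y :=
  ⟨h.y_mul, fun η _ _ _ => h.yu η _ _ _, h.hy, fun η r hr => (h.yr η r hr).trans (congrArg _ (Λ.sw_z _).symm),
    h.yO⟩

/-- PROOF. `y η`, `w a = n (y a) n⁻¹ ∈ P` with `τ = (0, η)`, `(a, 0)`: `mem`. `c a η = w a * y η * (w a)⁻¹ * (y η)⁻¹`
lies in `V` (`sq_mem`), `= u (c₁ a η) 0 (c₂ a η)`, biadditive. `n² ∈ V`, so conjugation by `n` gives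
`c₂ a η = c₁ η a`. `h (w a) h⁻¹ = w (v a)` gives `c₁ (v a) (w η) = v c₁ a η`. `d = w a * ξ b * (w a)⁻¹ * (ξ b)⁻¹ ∈ P`
has `τ = (0, a b)`: `d = r * u a' 0 c' * y (a b)`. Conjugate `c a η` by `ξ b` (`ξ b` fixes `y η` and
`ξ b (w a) (ξ b)⁻¹ = d⁻¹ w a`): `c₁ a η * b = lam r * η`. So `c₁ a η = g a * η`, `lam r = g a * b`, `g` additive,
`g (v a) = w g a`, `g a = k a²`. `d² = z (lam r * a b)` and `ξ b` inverts `d`: `a' = a * lam r`. -/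
theorem Ps.exists_Sd (h : Ps Λ lam P τ) (hy : Yc Λ lam y) : ∃ k, Sd Λ lam y k P := by
  have y0 : y 0 = 1 := by simpa using hy.y_mul 0 0
  have y2 : ∀ η, y η * y η = 1 := fun η => by rw [hy.y_mul, add_self, y0]
  have yc : ∀ a b, y a * y b = y b * y a := fun a b => by rw [hy.y_mul, hy.y_mul, add_comm]
  have yP : ∀ η, y η ∈ P := fun η => h.max _ ⟨1, by simpa [pow_two] using y2 η⟩ (fun a c => hy.yu η a 0 c)
    fun r hr => ⟨_, _, hy.yr η r hr⟩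
  have ty : ∀ η, τ (y η) = (0, η) := fun η => tau_of h (yP η) fun r hr => by rw [hy.yr η r hr, mul_zero]
  have wP : ∀ a, Λ.w y a ∈ P := fun a => cj_mem h (Λ.nL false) (n_V Λ.toLz) (yP a)
  have tw : ∀ a, τ (Λ.w y a) = (a, 0) := fun a => tau_of h (wP a) fun r hr => by
    rw [Lz.w, cj_act (Λ.nL _) hr (hy.yr a r hr), Λ.n0, mul_zero]
  have w2 : ∀ a, Λ.w y a * Λ.w y a = 1 := fun a => sq_cj _ (y2 a)
  have hc : ∀ a η, ∃ c₁ c₂, Λ.w y a * y η * (Λ.w y a)⁻¹ = y η * Λ.u c₁ 0 c₂ := fun a η => by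
    obtain ⟨c₁, c₂, e⟩ := h.sq_mem (mul_mem (wP a) (yP η))
    refine ⟨c₁, c₂, ?_⟩
    rw [hy.yu, ← e, inv_of_sq (w2 a), mul_assoc, mul_assoc, mul_assoc, mul_assoc, y2, mul_one]
  choose c₁ c₂ hc using hc
  have hd := fun a b => dlem h (wP a) (yP (a * b)) (e := 0) (tw a) (ty _) (hy.yu _) (by rw [y2, Λ.z_eq_one.2 rfl])
  choose r hr a' c' hd hd' using hd
  have k1 : ∀ a b η, c₁ a η * b = lam (r a b) * η := fun a b η => by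
    have dP : r a b * Λ.u (a' a b) 0 (c' a b) * y (a * b) ∈ P := mul_mem (mul_mem (h.RP (hr a b)) (h.uP ..)) (yP _)
    have e3 : r a b * Λ.u (a' a b) 0 (c' a b) * y (a * b) * y η * (r a b * Λ.u (a' a b) 0 (c' a b) * y (a * b))⁻¹ =
        y η * Λ.z (lam (r a b) * η) := by
      rw [← cj_cj, cj_of_comm (yc ..), ← cj_cj, cj_of_comm (hy.yu ..).symm, hy.yu]
      calc _ = r a b * (y η * r a b * (y η)⁻¹) * y η := by rw [inv_of_sq (Λ.Rsq _ (hr a b))]; group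
        _ = _ := by rw [hy.yr η _ (hr a b), ← mul_assoc, Λ.Rsq _ (hr a b), one_mul]
    have e1 : Λ.w y a = r a b * Λ.u (a' a b) 0 (c' a b) * y (a * b) * (Λ.u 0 b 0 * Λ.w y a * (Λ.u 0 b 0)⁻¹) := by
      rw [← hd]; group
    have e2 : Λ.u 0 b 0 * Λ.w y a * (Λ.u 0 b 0)⁻¹ * y η * (Λ.u 0 b 0 * Λ.w y a * (Λ.u 0 b 0)⁻¹)⁻¹ =
        y η * Λ.u (c₁ a η) 0 (c₂ a η + 0 * 0 + c₁ a η * b) := by
      conv_lhs => rw [← cj_of_comm (hy.yu η 0 b 0).symm]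
      calc _ = Λ.u 0 b 0 * (Λ.w y a * y η * (Λ.w y a)⁻¹) * (Λ.u 0 b 0)⁻¹ := by group
        _ = _ := by rw [hc, cj_mul', cj_of_comm (hy.yu η 0 b 0).symm, Λ.u_conj]
    have e4 := hc a η
    rw [e1, ← cj_cj, e2, cj_mul', e3, cj_of_comm (h.cV _ dP ..), mul_assoc, mul_right_inj, Λ.z_mul_u] at e4
    have e5 := (Λ.u_inj e4).2.2
    linear_combination e5 - add_self (lam (r a b) * η)
  have n2 : ∀ η, Λ.n false * Λ.w y η * (Λ.n false)⁻¹ = y η := fun η => by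
    obtain ⟨a, b, c, e⟩ := Λ.cenL _ (mul_mem (Λ.nL false) (Λ.nL false)) 1 one_ne_zero
      (comm_of_cj (by rw [← cj_cj, Λ.n0, Λ.n0]))
    rw [Lz.w, cj_cj, e, cj_of_comm (hy.yu ..).symm]
  have k2 : ∀ a η, c₂ a η = c₁ η a := fun a η => by
    have e1 : Λ.n false * (Λ.w y a * y η * (Λ.w y a)⁻¹) * (Λ.n false)⁻¹ =
        Λ.w y η * Λ.u (c₂ a η) 0 (c₁ a η) := by rw [hc, cj_mul', Λ.n0]; rfl
    have e2 : y a * Λ.w y η * (y a)⁻¹ = Λ.w y η * Λ.u (c₂ a η) 0 (c₁ a η) := by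
      rw [← e1, ← n2 a, Lz.w.eq_1 _ y η]; group
    have a1 : Λ.w y η * y a = y a * Λ.w y η * Λ.u (c₁ η a) 0 (c₂ η a) := by
      rw [mul_inv_eq_iff_eq_mul.1 (hc η a), mul_assoc, ← h.cV _ (wP η), mul_assoc]
    have a2 : y a * Λ.w y η = Λ.w y η * y a * Λ.u (c₂ a η) 0 (c₁ a η) := by
      rw [mul_inv_eq_iff_eq_mul.1 e2, mul_assoc, ← hy.yu, mul_assoc]
    rw [a2, mul_assoc (_ * _), left_eq_mul, Λ.v_mul, Λ.u_eq_one] at a1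
    linear_combination a1.1 - add_self (c₁ η a)
  have k3 : ∀ a η, c₁ (F4.v * a) (F4.w * η) = F4.v * c₁ a η := fun a η => by
    have e1 : Λ.h * Λ.w y a * Λ.h⁻¹ = Λ.w y (F4.v * a) := by
      have e0 : Λ.h = Λ.n false * (Λ.h * Λ.h) * (Λ.n false)⁻¹ := by
        rw [cj_mul', Λ.nh, mul_assoc, ← mul_assoc Λ.h Λ.h Λ.h, Λ.h3, mul_one]
      rw [Lz.w, Lz.w, show F4.v * a = F4.w * (F4.w * a) by revert a; decide, ← hy.hy, ← hy.hy]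
      conv_lhs => rw [e0]
      group
    have e2 := hc (F4.v * a) (F4.w * η)
    have e3 : Λ.h * (Λ.w y a * y η * (Λ.w y a)⁻¹) * Λ.h⁻¹ = y (F4.w * η) * Λ.u (F4.v * c₁ a η) 0 (F4.w * c₂ a η) := by
      rw [hc, cj_mul', hy.hy, Λ.hu, mul_zero]
    rw [← e1, ← hy.hy, show Λ.h * Λ.w y a * Λ.h⁻¹ * (Λ.h * y η * Λ.h⁻¹) * (Λ.h * Λ.w y a * Λ.h⁻¹)⁻¹ =
      Λ.h * (Λ.w y a * y η * (Λ.w y a)⁻¹) * Λ.h⁻¹ by group, e3, hy.hy, mul_right_inj] at e2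
    exact (Λ.u_inj e2).1.symm
  have k4 : ∀ a η, c₁ a η = c₁ a 1 * η := fun a η => by
    rw [← mul_one (c₁ a η), k1, ← mul_one (c₁ a 1), k1, mul_one]
  have k5 : ∀ a, c₁ a 1 = c₁ 1 1 * a * a := fun a => by
    have e := fun a => (k4 (F4.v * a) (F4.w * 1)).symm.trans (k3 a 1)
    have key : ∀ g1 gw gv : F4, gv * (F4.w * 1) = F4.v * g1 →
        gw * (F4.w * 1) = F4.v * gv → gw = g1 * F4.w * F4.w ∧ gv = g1 * F4.v * F4.v := by decide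
    have key0 : ∀ g0 : F4, g0 * (F4.w * 1) = F4.v * g0 → g0 = 0 := by decide
    obtain ⟨e1, e2⟩ := key (c₁ 1 1) (c₁ F4.w 1) (c₁ F4.v 1) (e 1) (e F4.v)
    have e0 : c₁ 0 1 = c₁ 1 1 * 0 * 0 := by rw [mul_zero]; exact key0 _ (e 0)
    cases a
    exacts [e0, by rw [show F4.l = 1 from rfl, mul_one, mul_one], e1, e2]
  refine ⟨c₁ 1 1, h.pg, fun x => ⟨fun hx => ?_, ?_⟩, fun a η => ?_, fun a b => ?_, h.max⟩
  · obtain ⟨r, hr, a, c, e⟩ := ker' h hx (mul_mem (wP (τ x).1) (yP (τ x).2)) (by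
      rw [tau_mul h (wP _) (yP _), tw, ty]; simp)
    exact ⟨r, hr, (τ x).1, (τ x).2, a, c, by
      rw [mul_assoc, ← h.cV _ (mul_mem (wP _) (yP _)), ← mul_assoc, ← mul_assoc] at e; exact e⟩
  · rintro ⟨r, hr, a, c, a', c', rfl⟩
    exact mul_mem (mul_mem (mul_mem (h.RP hr) (wP _)) (yP _)) (h.uP ..)
  · rw [hc, k2, k4 a, k4 η, k5 a, k5 η]
    exact congrArg _ (Λ.u_congr rfl rfl (by ring))
  · by_cases hb : b = 0
    · subst hb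
      refine ⟨1, one_mem _, ?_, 0, by simp [Λ.u_zero, y0]⟩
      simpa using h.lam_mul 1 (one_mem _) 1 (one_mem _)
    · have e1 : lam (r a b) = c₁ 1 1 * a * a * b := by rw [← k5, k1, mul_one]
      have e2 : a' a b = c₁ 1 1 * a * a * a * b := mul_right_cancel₀ hb (by rw [hd', e1]; ring)
      refine ⟨r a b, hr a b, e1, c' a b + 0 + a' a b * b, ?_⟩
      rw [mul_inv_eq_iff_eq_mul.1 (hd a b), mul_assoc, hy.yu, ← mul_assoc, mul_assoc (r a b), Λ.u_mul, add_zero,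
        zero_add, e2]

theorem El.exists_Co (Λ : El G) : Nonempty (Co G) := by
  obtain ⟨lam, h⟩ := Λ.exists_Ys
  obtain ⟨y, hy⟩ := h.exists_Yc
  obtain ⟨P1, τ1, h1⟩ := h.exists_Ps
  obtain ⟨P2, τ2, h2⟩ := h.sw.exists_Ps
  obtain ⟨k1, s1⟩ := h1.exists_Sd hy
  obtain ⟨k2, s2⟩ := h2.exists_Sd hy.sw
  exact ⟨⟨Λ, lam, y, k1, k2, P1, P2, h.lam_mul, h.lam_inj, h.lam_one, hy.y_mul, hy.yu, hy.hy, hy.yr, hy.yO, s1, s2⟩⟩

end CL.SZ4
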