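import Cfsg.Agent.INV.SZ4.In

/-! The Sylow 2-subgroup of `K` is elementary abelian. -/

set_option autoImplicit false

namespace CL.SZ4

open Subgroup CL.MSS

universe u
variable {G : Type u} [Group G] [Finite G]

/-- `k z c` lies in another conjugate of `K` -/
def St.Pk (Γ : St G) (k : G) : Prop :=
  k ∈ Γ.K ∧ k * k = 1 ∧ k ≠ 1 ∧ ∃ c ≠ 0, ∃ g, g ∉ Γ.N ∧ k * Γ.z c ∈ (Γ.toLz.cj g).K

namespace Ele

open Bas RK NoA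

omit [Finite G] in
theorem cj_K_mul (Γ : Lz G) (g : G) {l : G} (hl : l ∈ Γ.N) : (Γ.cj (g * l)).K = (Γ.cj g).K := by
  rw [Γ.cj_K, Γ.cj_K, cj_mul, cj_eq_of_mem_normalizer (Γ.N_le_NK hl)]

omit [Finite G] in
theorem cj_N_mul (Γ : Lz G) (g : G) {l : G} (hl : l ∈ Γ.N) : (Γ.cj (g * l)).N = (Γ.cj g).N := by
  rw [Γ.cj_N, Γ.cj_N, cj_mul, cj_eq_of_mem hl]

theorem LK' (Γ : St G) (g : G) : ∀ s ∈ Γ.L, s ∈ (Γ.toLz.cj g).K → s * s = 1 → s = 1 := fun _ h1 h2 h3 =>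
  (Γ.cj g).noA h2 h3 (g := g) (conj_mem_cj h1)

omit [Finite G] in
theorem KK' (Γ : St G) {g : G} (hg : g ∉ Γ.N) : ∀ s ∈ Γ.K, s ∈ (Γ.toLz.cj g).K → s * s = 1 → s = 1 :=
  fun _ h1 h2 h3 => by
    by_contra h4
    exact hg (Γ.mem_N_of h1 h2 h3 h4)

omit [Finite G] in
theorem covU {Γ Δ : Lz G} (c1 : Δ.Cov Γ.V Δ.V) (c2 : Δ.Cov Γ.sw.V Δ.sw.V) : Δ.Cov Γ.U Δ.U := by
  have sΓ : Γ.sw.V ≤ Γ.U := Γ.sw.V_le_U.trans Γ.sw_U.le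
  have sΔ : Δ.sw.V ≤ Δ.U := Δ.sw.V_le_U.trans Δ.sw_U.le
  constructor
  · rintro _ ⟨a, b, c, rfl⟩
    obtain ⟨k, hk, x, hx, e⟩ := c2.1 _ (Γ.mem_V'.2 ⟨b, 0, rfl⟩)
    obtain ⟨k', hk', x', hx', e'⟩ := c1.1 _ (Γ.v_mem a c)
    exact ⟨k * k', mul_mem hk hk', x * x', mul_mem (sΔ hx) (Δ.V_le_U hx'), by
      rw [u_split, e, e', Δ.mul_mul _ _ hk' (Δ.U_le_L (sΔ hx))]⟩
  · rintro _ ⟨a, b, c, rfl⟩
    obtain ⟨d, hd, k, hk, e⟩ := c2.2 _ (Δ.mem_V'.2 ⟨b, 0, rfl⟩)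
    obtain ⟨d', hd', k', hk', e'⟩ := c1.2 _ (Δ.v_mem a c)
    exact ⟨d * d', mul_mem (sΓ hd) (Γ.V_le_U hd'), k * k', mul_mem hk hk', by
      rw [u_split, e, e', Δ.mul_mul _ _ hk' (Δ.uL ..)]⟩

omit [Finite G] in
theorem same {Γ Δ : Lz G} (c1 : Δ.Cov Γ.V Δ.V) (c2 : Δ.Cov Γ.sw.V Δ.V) : Γ.z 1 ∈ Δ.K := by
  obtain ⟨k, hk, _, ⟨a, c, rfl⟩, e⟩ := c1.1 _ (Γ.v_mem 1 0)
  obtain ⟨k', hk', _, ⟨a', c', rfl⟩, e'⟩ := c2.1 _ (Γ.mem_V'.2 ⟨1, 0, rfl⟩)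
  have := cm Δ hk hk' (Δ.uL a 0 c) (Δ.uL a' 0 c')
  rw [← e, ← e', u_cm, u_cm, mul_zero, mul_zero, mul_zero, add_zero, add_zero, one_mul, Δ.z_eq_one.2 rfl,
    mul_one] at this
  exact this ▸ mul_mem (mul_mem (mul_mem hk hk') (inv_mem hk)) (inv_mem hk')

/-- the `K`-components of the elements of `D` -/
def Kq (Δ : Lz G) (D : Subgroup G) : Subgroup G where
  carrier := {k | k ∈ Δ.K ∧ ∃ x ∈ Δ.L, k * x ∈ D}
  one_mem' := ⟨one_mem _, 1, one_mem _, by simp⟩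
  mul_mem' := by
    rintro k k' ⟨hk, x, hx, e⟩ ⟨hk', y, hy, e'⟩
    exact ⟨mul_mem hk hk', x * y, mul_mem hx hy, Δ.mul_mul k y hk' hx ▸ mul_mem e e'⟩
  inv_mem' := by
    rintro k ⟨hk, x, hx, e⟩
    exact ⟨inv_mem hk, x⁻¹, inv_mem hx, by rw [← mul_inv_rev, ← Δ.comm hk hx]; exact inv_mem e⟩

omit [Finite G] in
theorem pKq (Δ : Lz G) {D : Subgroup G} (h : IsPGroup 2 D) : IsPGroup 2 (Kq Δ D) :=
  isPGroup_iff_forall_mem.2 fun k ⟨hk, x, hx, e⟩ => by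
    obtain ⟨n, hn⟩ := pow_two_of_mem h e
    rw [Commute.mul_pow (Δ.comm hk hx), ← mul_one 1] at hn
    exact ⟨n, (Δ.ext (pow_mem hk _) (one_mem _) (pow_mem hx _) (one_mem _) hn).1⟩

end Ele

open Ele Bas RK NoA

/-- PROOF. `s = k z c ∈ K'`, `C(s) ≤ N'` contains `U` and `Q`. `U ⊓ K' = 1` (`noA`), `Q ⊓ K' = 1` (`mem_N_of`).
Take a frame `Γ' = Γ.cj (g l)` normalised by `Q ⊔ U`. `rk` for `D = V` and `D = Γ.sw.V` gives `Cov V V'`,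
`Cov Γ.sw.V W'` with different sides `V'`, `W'` (`u 1 0 0`, `u 0 1 0` do not commute modulo `K'`), hence
`Cov U U'`. `Q` centralises `U`, so centralises `U'` (modulo `K'`, hence exactly); `cenU`: `r = k' y'`. -/
theorem St.e0 (Γ : St G) {k g : G} {c : F4} (hk : k ∈ Γ.K) (k2 : k * k = 1) (k1 : k ≠ 1) (hc : c ≠ 0)
    (hg : g ∉ Γ.N) (hs : k * Γ.z c ∈ (Γ.toLz.cj g).K) {Q : Subgroup G} (hQ : IsPGroup 2 Q) (hK : Q ≤ Γ.K)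
    (hC : Q ≤ centralizer {k}) :
    ∃ l ∈ Γ.L, (Γ.toLz.cj (g * l)).Cov Γ.U (Γ.toLz.cj (g * l)).U ∧
      ∀ r ∈ Q, ∃ k' ∈ (Γ.toLz.cj g).K, ∃ d, r = k' * (Γ.toLz.cj (g * l)).z d := by
  have s2 : k * Γ.z c * (k * Γ.z c) = 1 := (Γ.sq_iff hk (Γ.uL ..)).2 ⟨k2, Γ.z_sq c⟩
  have s1 : k * Γ.z c ≠ 1 := fun e =>
    k1 (Γ.ext hk (one_mem _) (Γ.uL ..) (one_mem _) (e.trans (mul_one 1).symm)).1
  have UN : Γ.U ≤ (Γ.toLz.cj g).N := by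
    rintro _ ⟨a, b, d, rfl⟩
    exact (Γ.cj g).cen_le_N hs s2 s1 (Commute.mul_right (Γ.comm hk (Γ.uL ..)).symm (Γ.z_comm ..).symm)
  have QN : Q ≤ (Γ.toLz.cj g).N := fun r hr => (Γ.cj g).cen_le_N hs s2 s1
    (Commute.mul_right (mem_centralizer_singleton_iff.1 (hC hr)) (Γ.comm (hK hr) (Γ.uL ..)))
  obtain ⟨l, hl, hf⟩ := Γ.frame (isPGroup_cj g⁻¹ Γ.pU) (le_cj_iff.1 (Γ.toLz.cj_N g ▸ UN))
  have hf' : Γ.U ≤ normalizer ((Γ.toLz.cj (g * l)).U : Set G) := by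
    rw [Lz.cj_U, cj_mul, ← cj_normalizer, le_cj_iff, ← Γ.toLz.cj_U l]; exact hf
  have eK := cj_K_mul Γ.toLz g (Γ.L_le_N hl)
  have eN := cj_N_mul Γ.toLz g (Γ.L_le_N hl)
  refine ⟨l, hl, ?_⟩
  generalize Γ.toLz.cj (g * l) = Δ at *
  have cov : ∀ V ≤ Γ.U, (∀ x ∈ V, x * x = 1) → Nat.card V = 16 → Δ.Cov V Δ.V ∨ Δ.Cov V Δ.sw.V :=
    fun V hV h3 h4 => by
      refine ((Δ.rk ((hV.trans UN).trans eN.ge) (hV.trans hf') fun d hd => h3 d hd ▸ one_mem _).resolve_left ?_).2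
      rw [(eq_bot_iff_forall (V ⊓ Δ.K)).2 fun x hx => LK' Γ g x (Γ.U_le_L (hV hx.1)) (eK.le hx.2) (h3 x hx.1),
        h4, card_bot]
      omega
  have z1 : Γ.z 1 ∉ Δ.K := fun h => one_ne_zero (Γ.z_eq_one.1 (LK' Γ g _ (Γ.uL ..) (eK.le h) (Γ.z_sq 1)))
  have cU : Δ.Cov Γ.U Δ.U := by
    rcases cov _ Γ.V_le_U (fun x => Γ.sq_V) Γ.card_V with c1 | c1 <;>
    rcases cov _ (Γ.sw.V_le_U.trans Γ.sw_U.le) (fun x => Γ.sw.sq_V) Γ.sw.card_V with c2 | c2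
    · exact absurd (same c1 c2) z1
    · exact covU c1 c2
    · have := covU (Δ := Δ.sw) c1 (by rw [Lz.sw_sw_V]; exact c2)
      rw [Lz.sw_U] at this
      exact this
    · exact absurd (same (Δ := Δ.sw) c1 c2) z1
  refine ⟨cU, fun r hr => eK ▸ Δ.cenU (eN.ge (QN hr)) fun a b d => ?_⟩
  obtain ⟨x, hx, k', hk', e⟩ := cU.2 _ (Δ.u_mem a b d)
  refine cen_of Δ (eN.ge (QN hr)) hk' (Δ.uL ..) ?_
  rw [← e, Γ.conj_of_K (hK hr) (Γ.U_le_L hx), mul_inv_cancel]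
  exact one_mem _

theorem St.e1a (Γ : St G) {k : G} (h : Γ.Pk k) {Q : Subgroup G} (hQ : IsPGroup 2 Q) (hK : Q ≤ Γ.K)
    (hC : Q ≤ centralizer {k}) : ∀ r ∈ Q, r * r = 1 := fun r hr => by
  obtain ⟨hk, k2, k1, c, hc, g, hg, hs⟩ := h
  obtain ⟨l, hl, -, h2⟩ := Γ.e0 hk k2 k1 hc hg hs hQ hK hC
  obtain ⟨k', hk', d, e⟩ := h2 r hr
  obtain ⟨n, hn⟩ := pow_two_of_mem hQ (mul_mem hr hr)
  refine two_elt (KK' Γ hg) (hK (mul_mem hr hr)) ?_ hn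
  rw [e, (Γ.toLz.cj (g * l)).mul_mul _ _ ((cj_K_mul Γ.toLz g (Γ.L_le_N hl)).ge hk') (Lz.uL ..), Lz.z_sq, mul_one]
  exact mul_mem hk' hk'

/-- PROOF. By `e0`, `r = k' y'`, `r² = k'² ∈ K ⊓ K'` is a 2-element, so `r² = 1`. It remains to see `Y' = Y`.
Write `x = κ(x) x'` for `x ∈ U` (`κ : U → K'` is a homomorphism by `ext`, with image centralising `s = k z c` and
`κ(z c)`). `s' = s κ(z c) ∈ K'` is an involution (`≠ 1` by `noA`) and `s' * (z c)' = k ∈ K`, `(z c)' = z' d`,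
`d ≠ 0`: the hypotheses of `e0` hold for `Γ' = Γ.cj (g l)` (a `St`), `s'` and the conjugate `Γ = Γ'.cj (g l)⁻¹`.
By the first part the 2-group `κ(U)` has exponent 2, so `κ(z d) = κ(x²) = 1` for all `d`: `Y ≤ Y'`, `Y = Y'`. -/
theorem St.e1 (Γ : St G) {k : G} (h : Γ.Pk k) {Q : Subgroup G} (hQ : IsPGroup 2 Q) (hK : Q ≤ Γ.K)
    (hC : Q ≤ centralizer {k}) : ∀ r ∈ Q, r * r = 1 ∧ (r ≠ 1 → Γ.Pk r) := by
  refine fun r hr => ⟨Γ.e1a h hQ hK hC r hr, fun r1 => ?_⟩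
  have r2 := Γ.e1a h hQ hK hC r hr
  obtain ⟨hk, k2, k1, c, hc, g, hg, hs⟩ := h
  obtain ⟨l, hl, cU, h2⟩ := Γ.e0 hk k2 k1 hc hg hs hQ hK hC
  have eK := cj_K_mul Γ.toLz g (Γ.L_le_N hl)
  set Δ := Γ.toLz.cj (g * l) with hΔ
  have hs' := eK.ge hs
  obtain ⟨κ, hκ, x, hx, e⟩ := cU.1 _ (Γ.u_mem 0 0 c)
  have hx' := Δ.U_le_L hx
  obtain ⟨κ2, -⟩ := (Δ.sq_iff hκ hx').1 (e ▸ Γ.z_sq c)
  obtain ⟨d, rfl⟩ := cen_U Δ hx' fun a b d => by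
    obtain ⟨_, ⟨a', b', d', rfl⟩, k', hk', e'⟩ := cU.2 _ (Δ.u_mem a b d)
    exact ((Δ.comm_iff hκ hk' hx' (Δ.uL ..)).1 (by rw [← e, ← e']; exact Γ.z_comm ..)).2
  have c1 : ∀ κ' ∈ Kq Δ Γ.U, k * Γ.z c * κ' = κ' * (k * Γ.z c) ∧ κ * κ' = κ' * κ := by
    rintro κ' ⟨hκ', y, hy, a, b, d', e'⟩
    refine ⟨((Δ.comm_iff hs' hκ' (one_mem _) hy).1 ?_).1, ((Δ.comm_iff hκ hκ' hx' hy).1 ?_).1⟩
    · rw [e', mul_one]
      exact Commute.mul_left (Γ.comm hk (Γ.uL ..)) (Γ.z_comm ..)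
    · rw [← e, e']; exact Γ.z_comm ..
  have c2 := (c1 κ ⟨hκ, _, hx', 0, 0, c, e.symm⟩).1
  have e2 : k * Γ.z c * κ * Δ.z d = k := by rw [mul_assoc, ← e, mul_assoc, Γ.z_sq, mul_one]
  have pk : (Γ.cj (g * l)).Pk (k * Γ.z c * κ) := by
    refine ⟨mul_mem hs' hκ, ?_, fun e1 => ?_, d, fun e1 => ?_, (g * l)⁻¹, fun hN => hg ?_, ?_⟩
    · rw [mul_assoc, ← mul_assoc κ, ← c2, mul_assoc _ κ, κ2, mul_one]
      exact (Γ.sq_iff hk (Γ.uL ..)).2 ⟨k2, Γ.z_sq c⟩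
    · rw [e1, one_mul] at e2
      exact k1 (Γ.noA hk k2 (g := (g * l)⁻¹) (by rw [inv_inv]; exact mem_cj.1 (e2 ▸ hx')))
    · rw [e1, Δ.z_eq_one.2 rfl, mul_one] at e
      exact hc (Γ.z_eq_one.1 (LK' Γ g _ (Γ.uL ..) (eK.le (show Γ.u 0 0 c ∈ Δ.K from e ▸ hκ)) (Γ.z_sq c)))
    · have := Γ.toLz.mem_cj_N.1 hN
      rwa [inv_mul_cancel_right, inv_mem_iff, mul_mem_cancel_right (Γ.L_le_N hl)] at this
    · refine Δ.mem_cj_K.2 (Γ.toLz.mem_cj_K.2 ?_)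
      change _ * (_ * (k * Γ.z c * κ * Δ.z d) * _) * _ ∈ _
      rw [e2]
      convert hk using 1
      group
  have sq := (Γ.cj (g * l)).e1a pk (pKq Δ Γ.pU) (fun _ h => h.1) fun κ' h =>
    mem_centralizer_singleton_iff.2 (Commute.mul_left (c1 κ' h).1 (c1 κ' h).2).symm
  have YY : Γ.Y = Δ.Y := eq_of_le_of_card_ge (by
    rintro _ ⟨f, rfl⟩
    obtain ⟨κ', hκ', _, ⟨a, b, d', rfl⟩, e'⟩ := cU.1 _ (Γ.u_mem 1 f 0)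
    have := Γ.u_sq 1 f 0
    rw [one_mul, e', Δ.mul_mul _ _ hκ' (Δ.uL ..), sq κ' ⟨hκ', _, Δ.uL .., e' ▸ Γ.u_mem ..⟩, one_mul,
      Δ.u_sq] at this
    exact ⟨_, this.symm⟩) (by rw [Γ.card_Y, Δ.card_Y])
  obtain ⟨k', hk', f, e'⟩ := h2 r hr
  obtain ⟨f', e3⟩ := YY.ge (Δ.z_mem f)
  rw [e3] at e'
  refine ⟨hK hr, r2, r1, f', fun e1 => r1 (KK' Γ hg r (hK hr) ?_ r2), g, hg, ?_⟩
  · rwa [e', e1, Γ.z_eq_one.2 rfl, mul_one]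
  · rwa [e', mul_assoc, Γ.z_sq, mul_one]

theorem Ele.exists_O {R C : Subgroup G} (h : SylIn 2 R C) (hC : ∀ c ∈ C, ∀ r ∈ R, c * r = r * c) :
    ∃ O ≤ C, Odd (Nat.card O) ∧ ∀ c ∈ C, ∃ r ∈ R, ∃ o ∈ O, c = r * o := by
  have hN : normalizer ((h.toSylow : Subgroup C) : Set C) ≤ centralizer ((h.toSylow : Subgroup C) : Set C) :=
    fun c _ r hr => Subtype.ext (hC c c.2 r hr).symm
  refine ⟨(MonoidHom.transferSylow _ hN).ker.map C.subtype, map_subtype_le _, ?_, fun c hc => ?_⟩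
  · rw [card_map_of_injective C.subtype_injective, ← Nat.not_even_iff_odd, even_iff_two_dvd]
    exact MonoidHom.not_dvd_card_ker_transferSylow _ hN
  · obtain ⟨⟨o, r⟩, e⟩ := (MonoidHom.ker_transferSylow_isComplement' _ hN).2 ⟨c, hc⟩
    exact ⟨r.1, r.2, o.1, ⟨o.1, o.2, rfl⟩, (congrArg Subtype.val e).symm.trans (hC _ o.1.2 _ r.2)⟩

/-- PROOF. `k` from `exists_in`, `R₁` Sylow in `C_K(k)`, `R ≥ R₁` Sylow in `K`. If `R₁ < R` then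
`M = N_R(R₁) > R₁` has a central element `1 ≠ r₀ ∈ R₁`; `e1` for `r₀` shows that `M` has exponent 2, so
`M ≤ C_K(k)`, `M = R₁`. So `R = R₁` is elementary abelian, for every Sylow subgroup `R ∋ k`. With `e0` for `Q = R`:
`D = R ⊔ U ≤ K' U'` maps onto `U'` with kernel `R' = D ⊓ K'` of order `|R|`, so `R'` is Sylow in `K'`. For
`x' ∈ U'` there is `x = κ x' ∈ U`; the `K'`-components of the elements of `D` form a 2-subgroup of `K'`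
containing `R'`, hence equal to `R'`: `U' ≤ D`, `D = R' ⊔ U'`. `(g l)⁻¹ R' (g l) = κ₀ R κ₀⁻¹`, `κ₀ ∈ K`;
`x = g l κ₀` normalises `R ⊔ U`. `O`: Burnside's normal complement of the central Sylow subgroup `R` in `C_K(R)`
(`MonoidHom.ker_transferSylow_isComplement'`, or `Misc.burnside_pPrimeCore`). -/
theorem St.exists_El (Γ : St G) : Nonempty (El G) := by
  obtain ⟨k, hk, k2, k1, g, hg, hs⟩ := Γ.exists_in
  have pk : Γ.Pk k := ⟨hk, k2, k1, 1, one_ne_zero, g, hg, hs⟩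
  obtain ⟨R₁, h1, kR⟩ := exists_sylIn_ge (pg_zpowers (g := k) (n := 1) (by simpa [pow_two] using k2))
    (H := Γ.K ⊓ centralizer {k}) (zpowers_le.2 ⟨hk, mem_centralizer_singleton_iff.2 rfl⟩)
  replace kR := kR (mem_zpowers k)
  have R1 : R₁ ≠ ⊥ := fun e => k1 (mem_bot.1 (e ▸ kR))
  obtain ⟨R, hR, h2⟩ := exists_sylIn_ge h1.pgroup (h1.le.trans inf_le_left)
  have e1 := Γ.e1 pk h1.pgroup (h1.le.trans inf_le_left) (h1.le.trans inf_le_right)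
  obtain rfl : R₁ = R := by
    by_contra hne
    have h3 := lt_inf_normalizer_of_lt hR.pgroup (lt_of_le_of_ne h2 hne)
    have pM : IsPGroup 2 ↥(R ⊓ normalizer (R₁ : Set G)) := hR.pgroup.to_le inf_le_left
    obtain ⟨⟨r, hr⟩, r1⟩ := ne_bot_iff_exists_ne_one.1 (inf_centralizer_ne_bot pM h1.pgroup inf_le_right R1)
    have h4 := Γ.e1a ((e1 r hr.1).2 fun e => r1 (Subtype.ext e)) pM (inf_le_left.trans hR.le) fun x hx =>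
      mem_centralizer_singleton_iff.2 (hr.2 x hx)
    exact h3.ne' (h1.max _ pM h3.le fun x hx => ⟨hR.le hx.1,
      mem_centralizer_singleton_iff.2 (comm_of_sq h4 hx (h3.le kR))⟩)
  have Rsq : ∀ r ∈ R₁, r * r = 1 := fun r hr => (e1 r hr).1
  obtain ⟨l, hl, cU, h3⟩ := Γ.e0 hk k2 k1 one_ne_zero hg hs hR.pgroup hR.le (h1.le.trans inf_le_right)
  have eK := cj_K_mul Γ.toLz g (Γ.L_le_N hl)
  set Δ := Γ.toLz.cj (g * l) with hΔ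
  have cD : Δ.Cov (R₁ ⊔ Γ.U) Δ.U := by
    refine ⟨fun d hd => ?_, fun x hx => let ⟨d, hd, e⟩ := cU.2 x hx; ⟨d, mem_sup_right hd, e⟩⟩
    obtain ⟨r, hr, x, hx, rfl⟩ := (Γ.mem_sup hR.le Γ.U_le_L).1 hd
    obtain ⟨k', hk', d, rfl⟩ := h3 r hr
    obtain ⟨κ, hκ, y, hy, rfl⟩ := cU.1 x hx
    exact ⟨k' * κ, mul_mem (eK.ge hk') hκ, Δ.z d * y, mul_mem (Δ.u_mem ..) hy, Δ.mul_mul _ _ hκ (Δ.uL ..)⟩
  have pD := Γ.pS hR.le hR.pgroup Γ.U_le_L Γ.pU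
  have c1 := card_cov Δ cD Δ.U_le_L
  rw [Γ.card_sup hR.le Γ.U_le_L, Γ.card_U, Δ.card_U] at c1
  have s1 : SylIn 2 ((R₁ ⊔ Γ.U) ⊓ Δ.K) Δ.K := by
    have := hR.cj (g * l)
    rw [← Γ.toLz.cj_K] at this
    exact this.of_card_le (pD.to_le inf_le_left) inf_le_right (by rw [card_cj]; omega)
  have s2 : Kq Δ (R₁ ⊔ Γ.U) = (R₁ ⊔ Γ.U) ⊓ Δ.K := s1.max _ (pKq Δ pD)
    (fun x hx => ⟨hx.2, 1, one_mem _, by rw [mul_one]; exact hx.1⟩) fun x hx => hx.1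
  have s3 : ((R₁ ⊔ Γ.U) ⊓ Δ.K) ⊔ Δ.U = R₁ ⊔ Γ.U := by
    refine le_antisymm (sup_le inf_le_left fun x hx => ?_) fun d hd => ?_
    · obtain ⟨d, hd, κ, hκ, rfl⟩ := cD.2 x hx
      exact (mul_mem_cancel_left (mem_inf.1 (s2.le ⟨hκ, x, Δ.U_le_L hx, hd⟩)).1).1 hd
    · obtain ⟨κ, hκ, x, hx, rfl⟩ := cD.1 d hd
      exact mul_mem (mem_sup_left (s2.le ⟨hκ, x, Δ.U_le_L hx, hd⟩)) (mem_sup_right hx)
  have s4 := s1.cj (g * l)⁻¹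
  rw [hΔ, Γ.toLz.cj_K, inv_cj_cj, ← Γ.toLz.cj_K] at s4
  obtain ⟨κ, hκ, e⟩ := hR.exists_conj s4
  obtain ⟨O, O1, O2, O3⟩ := exists_O (hR.of_le (K := Γ.K ⊓ centralizer (R₁ : Set G))
    (fun r hr => ⟨hR.le hr, fun r' hr' => comm_of_sq Rsq hr' hr⟩) inf_le_left) fun c hc r hr => (hc.2 r hr).symm
  refine ⟨⟨Γ, R₁, O, hR, Rsq, R1, fun t ht t2 g h => Γ.noA ht t2 h, O2, O1.trans inf_le_left,
    fun o ho r hr => ((O1 ho).2 r hr).symm, fun c hc h => O3 c ⟨hc, fun r hr => (h r hr).symm⟩, g * l * κ, ?_,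
    fun h => hg ?_⟩⟩
  · rw [mem_normalizer_iff_cj, cj_sup, cj_mul, cj_mul _ κ, e, cj_inv_cj,
      cj_eq_of_mem_centralizer (centralizer_le Γ.U_le_L hκ), ← Γ.toLz.cj_U]
    exact s3
  · rwa [mul_mem_cancel_right (Γ.K_le_N hκ), mul_mem_cancel_right (Γ.L_le_N hl)] at h

end CL.SZ4
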