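import Cfsg.Agent.INV.SZ4.Tb
import Cfsg.Agent.INV.SZ4.GS
import Cfsg.Agent.INV.SZ4.Pw

/-! `N(Y) ≤ N(T)`. -/

set_option autoImplicit false

namespace CL.SZ4

open Subgroup CL.MSS Equiv

set_option maxRecDepth 100000

namespace SI

theorem card_fix : ∀ π : Perm (Fin 5), π * π = 1 → Perm.sign π = 1 → π ≠ 1 →
    Fintype.card {γ : V5 // ∑ i, γ i = 0 ∧ ∀ i, γ (π i) = γ i} ≤ 16 := by decide +kernel
theorem ex_swap : ∀ π : Perm (Fin 5), π * π = 1 → Perm.sign π = -1 →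
    ∃ ρ : Perm (Fin 5), Perm.sign ρ = 1 ∧ ∀ (m : F4) i, ![0, 0, m, m * F4.w, m * F4.v] (ρ⁻¹ (π i)) =
      ![0, 0, m, m * F4.w, m * F4.v] (ρ⁻¹ i) := by decide +kernel

end SI

universe u
variable {G : Type u} [Group G] [Finite G]

namespace Sz

variable (Λ : Sz G)

omit [Finite G] in
theorem mem_R_of {x : G} (hx : x ∈ Λ.K) (h : ∀ r ∈ Λ.R, x * r = r * x) (x2 : x * x = 1) : x ∈ Λ.R := by
  obtain ⟨r, hr, o, ho, rfl⟩ := Λ.cenR x hx h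
  rw [Commute.mul_mul_mul_comm (Λ.OR o ho r hr), Λ.Rsq r hr, one_mul] at x2
  rwa [Pw.O_two Λ.toEl ho (k := 1) (by rw [pow_one, sq, x2]), mul_one]

omit [Finite G] in
theorem KR_sq {k r : G} (hk : k ∈ Λ.K) (hr : r ∈ Λ.R) (r1 : r ≠ 1) (e : k * r = r * k) :
    k * k ∈ centralizer (Λ.R : Set G) := by
  have key : ∀ a b, Λ.r (a * a * b) * Λ.y (a * b) ∈ centralizer {k * k} := fun a b => by
    obtain ⟨k0, h0, a', c', e0⟩ := Λ.cenV (g := (Λ.w1 a)⁻¹ * k * (Λ.w1 a)⁻¹⁻¹)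
      (Λ.cen_le_N (Λ.RK' hr) (Λ.Rsq r hr) r1 (by
        have := cm_cj (Λ.w1 a)⁻¹ (show k * (Λ.w1 a * r * (Λ.w1 a)⁻¹) = Λ.w1 a * r * (Λ.w1 a)⁻¹ * k by
          rw [Λ.w1_r a hr, ← mul_assoc, e, mul_assoc, Λ.comm hk (Λ.uL ..), mul_assoc])
        rwa [cj_cj, inv_mul_cancel, one_mul, inv_one, mul_one] at this)) fun a' c => by
        have := cm_cj (Λ.w1 a)⁻¹ (Λ.comm hk (Λ.uL a' 0 c))
        rwa [cj_of_comm (Commute.inv_left (Λ.w1_v a a' c))] at this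
    have e1 := cm_cj (Λ.w1 a) (Λ.comm (mul_mem h0 h0) (Λ.uL 0 b 0))
    obtain ⟨r', hr', l', c, e2⟩ := Λ.s1.wu a b
    rw [← mul_one (k0 * k0), ← Λ.v_sq a' c', ← Λ.mul_mul k0 _ h0 (Λ.uL ..), ← e0, ← cj_mul' (Λ.w1 a)⁻¹, cj_cj,
      mul_inv_cancel, one_mul, inv_one, mul_one, e2, Λ.lam_eq hr' (Λ.rR (a * a * b)) (by rw [l', Λ.lam_r, Λ.e1, one_mul]),
      Λ.ru (Λ.rR _), mul_assoc (Λ.u ..), ← mul_assoc, Λ.comm (mul_mem hk hk) (Λ.uL ..), mul_assoc (Λ.u ..),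
      mul_assoc (Λ.u ..), mul_right_inj] at e1
    exact mem_centralizer_singleton_iff.2 e1.symm
  have k2 : ∀ {m m'}, Λ.r m * Λ.y 1 ∈ centralizer {k * k} → Λ.r m' * Λ.y 1 ∈ centralizer {k * k} →
      Λ.r (m + m') * (k * k) = k * k * Λ.r (m + m') := fun {m m'} h h' => by
    have := mul_mem h (inv_mem h')
    rw [mul_inv_rev, mul_assoc, mul_inv_cancel_left, inv_of_sq (Λ.Rsq _ (Λ.rR _)), Λ.r_mul] at this
    exact mem_centralizer_singleton_iff.1 this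
  intro r' hr'
  obtain ⟨m, rfl⟩ := Λ.mem_R.1 hr'
  rcases (by decide : ∀ c : F4, c = 1 + 1 ∨ c = F4.w + F4.v ∨ c = 1 + F4.w ∨ c = 1 + F4.v) m with
    rfl | rfl | rfl | rfl
  exacts [k2 (key 1 1) (key 1 1), k2 (key F4.w F4.v) (key F4.v F4.w), k2 (key 1 1) (key F4.w F4.v),
    k2 (key 1 1) (key F4.v F4.w)]

/-- PROOF. `X = C_K(r)`. For `k ∈ X` and `p ∈ P₁`: `p r p⁻¹ = r v` is centralised by `k`, so `p⁻¹ k p ∈ C(r) ≤ N`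
centralises `V`; `cenV`: `p⁻¹ k p = k' v'`, `p⁻¹ k² p = k'² ∈ K`. So `k²` centralises `p (u 0 b 0) p⁻¹`; with
`p = w1 a` (`s1.wu`, `k₁ = 1`) it centralises `r (a² b) * y (a b)`; `(a, b) = (1, 1), (w, v), (v, w)` give all of
`R`. So `X₀ = C_K(R) ≤ X` contains all squares, is normal with quotient of exponent 2, and contains the Sylow
subgroup `R`: `X = X₀`. -/
theorem KR {k r : G} (hk : k ∈ Λ.K) (hr : r ∈ Λ.R) (r1 : r ≠ 1) (e : k * r = r * k) :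
    ∀ r' ∈ Λ.R, k * r' = r' * k := by
  have nr : ∀ k ∈ Λ.K ⊓ centralizer {r}, k ∈ normalizer (Λ.R : Set G) := fun k hk =>
    mem_normalizer_fintype fun s hs => by
      have m : s ∈ Λ.K ⊓ centralizer {r} :=
        ⟨Λ.RK' hs, mem_centralizer_singleton_iff.2 (comm_of_sq Λ.Rsq hs hr)⟩
      have sq : ∀ x ∈ Λ.K ⊓ centralizer {r}, x * x ∈ centralizer (Λ.R : Set G) := fun x hx =>
        Λ.KR_sq hx.1 hr r1 (mem_centralizer_singleton_iff.1 hx.2)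
      refine Λ.mem_R_of (Λ.N_conj_K (Λ.K_le_N hk.1) m.1) (fun r' hr' => ?_) (sq_cj k (Λ.Rsq s hs))
      rw [show k * s * k⁻¹ = k * k * (k⁻¹ * s * (k⁻¹ * s)) * s⁻¹ by group]
      exact (mul_mem (mul_mem (sq k hk) (sq _ (mul_mem (inv_mem hk) m)))
        (inv_mem fun r' hr' => comm_of_sq Λ.Rsq hr' hs) r' hr').symm
  obtain ⟨m, j, hj⟩ := Pw.odd_pow k
  have hm : k ∈ Λ.K ⊓ centralizer {r} := ⟨hk, mem_centralizer_singleton_iff.2 e⟩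
  have h1 := Λ.RK.le_of_normalizes (pg_zpowers hj) (zpowers_le.2 (pow_mem hk _))
    (zpowers_le.2 (nr _ (pow_mem hm _))) (mem_zpowers _)
  have h2 : k ^ (2 * m + 1) ∈ centralizer (Λ.R : Set G) := fun r' hr' => comm_of_sq Λ.Rsq hr' h1
  rw [pow_succ, pow_mul, sq] at h2
  exact fun r' hr' => ((mul_mem_cancel_left (pow_mem (Λ.KR_sq hk hr r1 e) m)).1 h2 r' hr').symm

theorem TI0 {x r r' : G} (hx : x ∈ normalizer (Λ.Y : Set G)) (hr : r ∈ Λ.R) (r1 : r ≠ 1) (hr' : r' ∈ Λ.R)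
    (e : x * r * x⁻¹ = r') : x ∈ normalizer (Λ.T : Set G) := by
  have hN : x ∈ Λ.N := Λ.tight r (Λ.RK' hr) (Λ.Rsq r hr) r1 x (e ▸ Λ.RK' hr')
  have hU := Λ.norm_U hN hx
  have hR : x ∈ normalizer (Λ.R : Set G) := mem_normalizer_fintype fun s hs =>
    Λ.mem_R_of (Λ.N_conj_K hN (Λ.RK' hs)) (Λ.KR (Λ.N_conj_K hN (Λ.RK' hs)) hr' (e ▸ cj_ne x r1)
      (e ▸ cm_cj x (comm_of_sq Λ.Rsq hs hr))) (sq_cj x (Λ.Rsq s hs))
  refine mem_normalizer_fintype ?_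
  rintro _ ⟨s, hs, a, b, c, η, rfl⟩
  rw [Co.el, cj_mul', cj_mul']
  refine mul_mem (mul_mem (Λ.r_mem ((mem_normalizer_iff.1 hR s).1 hs))
    (Λ.U_le_T ((mem_normalizer_iff.1 hU _).1 (Λ.u_mem ..)))) ?_
  have act : ∀ s ∈ Λ.R, ∃ d, x * Λ.y η * x⁻¹ * s * (x * Λ.y η * x⁻¹)⁻¹ = s * Λ.z d := fun s hs => by
    have m := (mem_normalizer_iff.1 (inv_mem hR) s).1 hs
    obtain ⟨d, hd⟩ := (mem_normalizer_iff.1 hx _).1 (Λ.z_mem (Λ.lam (x⁻¹ * s * x⁻¹⁻¹) * η))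
    exact ⟨d, by
      rw [← hd, show x * Λ.y η * x⁻¹ * s * (x * Λ.y η * x⁻¹)⁻¹ =
        x * (Λ.y η * (x⁻¹ * s * x⁻¹⁻¹) * (Λ.y η)⁻¹) * x⁻¹ by group, Λ.yr η _ m]; group⟩
  obtain ⟨r0, h0, a, c, a', c', e0⟩ := (Λ.s1.mem _).1 (Λ.P1_iff.2 ⟨⟨1, by rw [pow_one, sq, sq_cj x (Λ.y_sq η)]⟩,
    fun a c => by
      obtain ⟨a', b', c', k⟩ := (mem_normalizer_iff.1 (inv_mem hU) _).1 (Λ.u_mem a 0 c)
      have := cm_cj x (Λ.yu η a' b' c')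
      rwa [← k, cj_cj, mul_inv_cancel, one_mul, inv_one, mul_one] at this, fun s hs => ⟨0, act s hs⟩⟩)
  obtain ⟨d, hd⟩ := act _ (Λ.rR 1)
  rw [e0, ← cj_cj, cj_of_comm (Λ.ru (Λ.rR 1) ..).symm, mul_assoc r0, ← cj_cj, Λ.wy_r a c (Λ.rR 1), cj_mul',
    cj_of_comm (comm_of_sq Λ.Rsq h0 (Λ.rR 1)), cj_of_comm (Λ.ru h0 ..), mul_right_inj, Λ.lam_r, one_mul] at hd
  obtain rfl : a = 0 := (Λ.u_inj hd).1
  rw [e0, show Λ.w Λ.y 0 = 1 by simpa using Λ.w1_mul 0 0, mul_one]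
  exact mul_mem (mul_mem (Λ.r_mem h0) (Λ.yT _)) (Λ.uT ..)

/-- PROOF. `r' ≠ 1` (`not_Ap`); multiplying `x` by some `y η ∈ T` we may take `c = 0`. Then `x ∈ N` (`tight`),
`x ∈ N(U)` (`norm_U`); `x R x⁻¹ ≤ C_K(r') = R O` (`KR`, `cenR`), so `x ∈ N(R)`. `m = x (y η) x⁻¹` is an involution
centralising `U` with `m r m⁻¹ ∈ r Y`: `m ∈ P₁` (`s1.max`), `m = r w1 a y c v` centralises `u 0 1 0`, so `a = 0`
(`w1_cl`, or compare the action on `R`), `m ∈ T`. -/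
theorem TI {x r r' : G} (hx : x ∈ normalizer (Λ.Y : Set G)) (hr : r ∈ Λ.R) (r1 : r ≠ 1) (hr' : r' ∈ Λ.R) {c : F4}
    (e : x * r * x⁻¹ = r' * Λ.z c) : x ∈ normalizer (Λ.T : Set G) := by
  have l0 : Λ.lam r' ≠ 0 := fun h => r1 (Λ.noA r (Λ.RK' hr) (Λ.Rsq r hr) x (by
    rw [e, Λ.lam_inj r' hr' h, one_mul]; exact Λ.uL ..))
  refine (mul_mem_cancel_left (le_normalizer (Λ.yT ((Λ.lam r')⁻¹ * c)))).1 (Λ.TI0 (mul_mem
    (Bas.norm_Y_of _ fun d => (cj_of_comm (Λ.yu ..)).symm ▸ Λ.z_mem d) hx) hr r1 hr' ?_)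
  rw [← cj_cj, e, cj_mul', Λ.yr _ _ hr', cj_of_comm (Λ.yu ..), mul_inv_cancel_left₀ l0, mul_assoc, Λ.z_sq, mul_one]

omit [Finite G] in
theorem Act.cenY {Λ : Sz G} {n : G} {π : Perm (Fin 5)} (h : Λ.Act n π false) : n ∈ centralizer (Λ.Y : Set G) := by
  rintro _ ⟨c, rfl⟩; exact (comm_of_cj (h.z c)).symm

theorem act_of_cen {g : G} (hT : g ∈ normalizer (Λ.T : Set G)) (h : g ∈ centralizer (Λ.Y : Set G)) :
    ∃ π, Λ.Act g π false := by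
  obtain ⟨π, σ, a⟩ := Λ.exists_act hT (h _ (Λ.z_mem 1)).symm
  cases σ
  · exact ⟨π, a⟩
  · exact absurd (Λ.z_inj ((a.z F4.w).symm.trans (cj_of_comm (h _ (Λ.z_mem _)).symm))) (by decide)

theorem Act.pow {Λ : Sz G} {n : G} {π : Perm (Fin 5)} (h : Λ.Act n π false) (k : ℕ) :
    Λ.Act (n ^ k) (π ^ k) false := by
  induction k with
  | zero => simpa using Λ.act_T (one_mem _)
  | succ k ih => simpa [pow_succ] using ih.mul h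

/-- PROOF. `K_vec` for `k` and for `g⁻¹ k g` (not `Ap`, so not some `ff i μ` by `Ap_iff`), then `TI`. -/
theorem TI' {g k : G} (hg : g ∈ centralizer (Λ.Y : Set G)) (hk : k ∈ Λ.T) (hk' : k ∈ g •ᶜ Λ.T) (h : Λ.Kp k) :
    g ∈ normalizer (Λ.T : Set G) := by
  have key : ∀ k ∈ Λ.T, Λ.Kp k → ∃ n π c, Λ.Act n π false ∧ n * k * n⁻¹ = Λ.r 1 * Λ.z c := fun k hk h => by
    have hY : k ∉ Λ.Y := by
      rintro ⟨c, rfl⟩
      obtain ⟨m, -, -, e⟩ := Λ.conj_V (a := 0) (.inr (mt Λ.z_eq_one.2 h.2.1))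
      exact Λ.not_Ap h (isConj_iff.2 ⟨m, e⟩)
    refine Λ.K_vec hk h.1 hY fun i μ e => Λ.not_Ap h ((Λ.Ap_iff hk hY).2 ⟨i, μ, ?_, e⟩)
    rintro rfl
    exact hY ((Λ.β_eq_zero hk).1 (e.trans (by funext j; simp [ff])))
  obtain ⟨n, π, c, a, e⟩ := key k hk h
  obtain ⟨n', π', c', a', e'⟩ := key _ (mem_cj.1 hk') (by simpa using h.cj g⁻¹)
  have m := mul_mem (mul_mem a'.cenY (inv_mem hg)) (inv_mem a.cenY)
  have := Λ.TI (centralizer_le_normalizer _ m) (Λ.rR 1) (mt Λ.r_eq_one.1 one_ne_zero) (Λ.rR 1) (c := c' + c) (by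
    rw [← Λ.z_mul, ← mul_assoc, ← e', ← cj_of_comm (m _ (Λ.z_mem c)).symm, eq_mul_inv_of_mul_eq e.symm, Λ.z_inv]
    group)
  exact inv_mem_iff.1 ((mul_mem_cancel_left a'.norm).1 ((mul_mem_cancel_right (inv_mem a.norm)).1 this))

omit [Finite G] in
theorem card_le {W : Subgroup G} (hW : W ≤ Λ.T) {p : V5 → Prop} (h : ∀ x ∈ W, p (Λ.β x)) :
    Nat.card W ≤ Nat.card {γ : V5 // ∑ i, γ i = 0 ∧ p γ} * 4 := by
  choose f f1 f2 using fun γ : {γ : V5 // ∑ i, γ i = 0 ∧ p γ} => Λ.β_surj γ.2.1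
  choose c hc using fun x : W => Λ.eq_of_β (f1 ⟨_, Λ.β_sum x, h x x.2⟩) (hW x.2) (f2 _)
  simpa [F4.card_eq] using Nat.card_le_card_of_injective (fun x : W => ((⟨_, Λ.β_sum x, h x x.2⟩ :
    {γ : V5 // ∑ i, γ i = 0 ∧ p γ}), c x)) fun x y e => Subtype.ext ((hc x).trans
      ((congrArg₂ (fun p q => f p * Λ.z q) (congrArg Prod.fst e) (congrArg Prod.snd e)).trans (hc y).symm))

/-- the elements of `T` fixed by `π` modulo `Y` -/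
def Fx (π : Perm (Fin 5)) : Subgroup G where
  carrier := {x | x ∈ Λ.T ∧ ∀ i, Λ.β x (π i) = Λ.β x i}
  one_mem' := ⟨one_mem _, fun i => by simp [β_one]⟩
  mul_mem' := fun {a b} ha hb => ⟨mul_mem ha.1 hb.1, fun i => by simp [Λ.β_mul ha.1 hb.1, ha.2 i, hb.2 i]⟩
  inv_mem' := fun {a} ha => ⟨inv_mem ha.1, by rw [Λ.β_inv ha.1]; exact ha.2⟩

omit [Finite G] in
theorem cm_T {d b : G} {π : Perm (Fin 5)} (h : Λ.Act d π false) (hb : b ∈ Λ.T) :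
    b * d * b⁻¹ * d⁻¹ ∈ Λ.T ∧ ∀ i, Λ.β (b * d * b⁻¹ * d⁻¹) (π i) = Λ.β b (π i) + Λ.β b i := by
  rw [show b * d * b⁻¹ * d⁻¹ = b * (d * b⁻¹ * d⁻¹) by group]
  exact ⟨mul_mem hb (h.conj_T (inv_mem hb)), fun i => by
    rw [Λ.β_mul hb (h.conj_T (inv_mem hb)), Pi.add_apply, h.act _ (inv_mem hb), Λ.β_inv hb]; rfl⟩

omit [Finite G] in
theorem cm_Y {d b : G} {π : Perm (Fin 5)} (h : Λ.Act d π false) (hb : b ∈ Λ.T) :
    b * d * b⁻¹ * d⁻¹ ∈ Λ.Y ↔ b ∈ Λ.Fx π := by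
  rw [← Λ.β_eq_zero (Λ.cm_T h hb).1]
  refine ⟨fun e => ⟨hb, fun i => ?_⟩, fun e => funext fun i => ?_⟩
  · have := (Λ.cm_T h hb).2 i
    rw [e, Pi.zero_apply] at this
    linear_combination -this - add_self (Λ.β b i)
  · obtain ⟨i, rfl⟩ := π.surjective i
    rw [(Λ.cm_T h hb).2, e.2, add_self]; rfl

theorem cnt_T {g : G} (hg : g ∈ centralizer (Λ.Y : Set G)) (hn : ¬ (g •ᶜ Λ.T) ⊓ normalizer (Λ.T : Set G) ≤ Λ.T) :
    ∃ d ∈ (g •ᶜ Λ.T) ⊓ normalizer (Λ.T : Set G), d ∉ Λ.T ∧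
      Nat.card ((g •ᶜ Λ.T) ⊓ normalizer (Λ.T : Set G) : Subgroup G) <
        {b | b ∈ Λ.T ∧ b * d * b⁻¹ * d⁻¹ ∈ g •ᶜ Λ.T}.ncard := by
  have TY : Λ.T ≤ centralizer (Λ.Y : Set G) := fun x hx => (Λ.act_T hx).cenY
  have gY : g •ᶜ Λ.T ≤ centralizer (Λ.Y : Set G) := cj_le_of_mem TY hg
  have Yg : Λ.Y ≤ g •ᶜ Λ.T := cj_eq_of_mem_centralizer hg ▸ cj_mono g Λ.Y_le_T
  have cm : ∀ a ∈ g •ᶜ Λ.T, ∀ b ∈ g •ᶜ Λ.T, a * b * a⁻¹ * b⁻¹ ∈ Λ.Y := fun a ha b hb => by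
    obtain ⟨a', ha', rfl⟩ := mem_cj'.1 ha
    obtain ⟨b', hb', rfl⟩ := mem_cj'.1 hb
    rw [← cj_eq_of_mem_centralizer hg]
    convert conj_mem_cj (g := g) ((Λ.cm_Y (Λ.act_T hb') ha').2 ⟨ha', fun _ => rfl⟩) using 1
    group
  have sq : ∀ {d π}, d ∈ g •ᶜ Λ.T → Λ.Act d π false → π * π = 1 := fun {d π} hd a => by
    obtain ⟨x, hx, rfl⟩ := mem_cj'.1 hd
    refine ((a.mul a).unique (Λ.act_T ?_)).1
    rw [← cj_mul', Λ.sq_β hx, cj_of_comm (hg _ (Λ.z_mem _)).symm]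
    exact Λ.uT ..
  have mT : ∀ {d}, d ∈ g •ᶜ Λ.T → Λ.Act d 1 false → d ∈ Λ.T := fun hd a =>
    let ⟨_, e⟩ := pow_two_of_mem (isPGroup_cj g Co.pT) hd; a.mem_T e
  have IW : ∀ {d π}, d ∈ g •ᶜ Λ.T → Λ.Act d π false → g •ᶜ Λ.T ⊓ Λ.T ≤ Λ.Fx π := fun hd a x hx =>
    (Λ.cm_Y a hx.2).1 (cm _ hx.1 _ hd)
  obtain ⟨Φ, hΦ⟩ := Λ.exists_hom
  let ψ := Φ.comp (inclusion (show (g •ᶜ Λ.T) ⊓ normalizer (Λ.T : Set G) ≤ normalizer (Λ.T : Set G) ⊓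
    centralizer {Λ.z 1} from fun x hx => ⟨hx.2, mem_centralizer_singleton_iff.2 (gY hx.1 _ (Λ.z_mem 1)).symm⟩))
  have hψ : ∀ d, Λ.Act d.1 (ψ d) false := fun d => by
    obtain ⟨π, a⟩ := Λ.act_of_cen d.2.2 (gY d.2.1)
    obtain ⟨σ, a'⟩ := hΦ (inclusion _ d)
    exact (a.unique a').1 ▸ a
  have pos : 0 < Nat.card ↥(g •ᶜ Λ.T ⊓ Λ.T) := Nat.card_pos
  have kc : ∀ {M : Type} [Group M] (χ : ↥((g •ᶜ Λ.T) ⊓ normalizer (Λ.T : Set G)) →* M),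
      (∀ d, χ d = 1 → ψ d = 1) → Nat.card ↥((g •ᶜ Λ.T) ⊓ normalizer (Λ.T : Set G)) ≤
        Nat.card ↥(g •ᶜ Λ.T ⊓ Λ.T) * Nat.card χ.range := fun χ h => by
    rw [← χ.ker.card_mul_index, index_ker]
    exact Nat.mul_le_mul_right _ (Nat.card_le_card_of_injective (fun d : χ.ker => (⟨d.1.1, d.1.2.1, mT d.1.2.1
      (h _ d.2 ▸ hψ d.1)⟩ : ↥(g •ᶜ Λ.T ⊓ Λ.T))) fun a b e => Subtype.ext (Subtype.ext (congrArg (·.1) e)))
  by_cases h : ∃ d, Perm.sign (ψ d) = 1 ∧ ψ d ≠ 1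
  · obtain ⟨d, s, h1⟩ := h
    refine ⟨d, d.2, fun m => h1 ((hψ d).unique (Λ.act_T m)).1, ?_⟩
    have k1 := CL.VM.cnt (Z := Λ.Y) (d := d) (le_inf Yg Λ.Y_le_T) (IW d.2.1 (hψ d)) (fun _ h => h.1)
      (fun a ha b hb => (Λ.cm_Y (Λ.act_T hb) ha).2 ⟨ha, fun _ => rfl⟩) d.2.2
      (centralizer_le_normalizer _ (gY d.2.1)) fun b hb => ⟨(Λ.cm_T (hψ d) hb).1, fun i => by
        obtain ⟨i, rfl⟩ := (ψ d).surjective i
        rw [(Λ.cm_T (hψ d) hb).2, (Λ.cm_T (hψ d) hb).2, ← Perm.mul_apply, sq d.2.1 (hψ d), add_comm]; rfl⟩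
    have k2 := Λ.card_le (W := Λ.Fx (ψ d)) (p := fun γ => ∀ i, γ (ψ d i) = γ i) (fun _ h => h.1) fun _ h => h.2
    have k3 := SI.card_fix _ (sq d.2.1 (hψ d)) s h1
    have k4 := kc ψ fun _ h => h
    have k5 : Nat.card ψ.range ≤ 8 := by
      obtain ⟨n, e⟩ := IsPGroup.iff_card.1 (((isPGroup_cj g Co.pT).to_le inf_le_left).of_surjective _
        ψ.rangeRestrict_surjective)
      have := card_subgroup_dvd_card ψ.range
      rw [e, Nat.card_perm, Nat.card_fin] at this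
      rw [e]
      by_contra k
      exact absurd ((pow_dvd_pow 2 (show 4 ≤ n by by_contra k'; interval_cases n <;> omega)).trans this) (by decide)
    have k6 := Set.ncard_le_ncard (s := {b | b ∈ Λ.T ∧ b * d * b⁻¹ * d⁻¹ ∈ g •ᶜ Λ.T ⊓ Λ.T})
      (t := {b | b ∈ Λ.T ∧ b * d * b⁻¹ * d⁻¹ ∈ g •ᶜ Λ.T}) fun b hb => ⟨hb.1, hb.2.1⟩
    rw [Λ.card_T] at k1
    rw [← Nat.card_eq_fintype_card] at k3
    nlinarith
  push Not at h
  obtain ⟨d, hd, dT⟩ := SetLike.not_le_iff_exists.1 hn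
  have a := hψ ⟨d, hd⟩
  obtain ⟨ρ, hρ, e⟩ := SI.ex_swap _ (sq hd.1 a) ((Int.units_eq_one_or _).resolve_left fun s =>
    dT (mT hd.1 (h _ s ▸ a)))
  obtain ⟨n, an, -⟩ := Λ.act_even hρ
  have k1 := kc (Perm.sign.comp ψ) fun d e => h d (by rwa [MonoidHom.comp_apply] at e)
  have k2 : Nat.card (Perm.sign.comp ψ).range ≤ 2 :=
    (Nat.card_le_card_of_injective _ Subtype.val_injective).trans (by simp)
  have mr : ∀ m, n * Λ.r m * n⁻¹ ∈ Λ.Fx (ψ ⟨d, hd⟩) := fun m => ⟨an.conj_T (Λ.r_mem (Λ.rR m)), fun i => by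
    have := fun j => an.act _ (Λ.r_mem (Λ.rR m)) (ρ⁻¹ j)
    simp only [Perm.inv_def, Equiv.apply_symm_apply, Λ.β_r] at this
    rw [this, this]
    exact e m i⟩
  have k3 := Nat.card_le_card_of_injective (β := Λ.Fx (ψ ⟨d, hd⟩))
    (fun p : ↥(g •ᶜ Λ.T ⊓ Λ.T) × F4 => ⟨_, mul_mem (IW hd.1 a p.1.2) (mr p.2)⟩) fun p q e => by
      have e : p.1 * (n * Λ.r p.2 * n⁻¹) = q.1 * (n * Λ.r q.2 * n⁻¹) := congrArg Subtype.val e
      have e1 : n * Λ.r (p.2 + q.2) * n⁻¹ = (p.1 : G)⁻¹ * q.1 := by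
        rw [← Λ.r_mul, cj_mul', eq_inv_mul_iff_mul_eq, ← mul_assoc, e, mul_assoc, sq_cj n (Λ.Rsq _ (Λ.rR _)), mul_one]
      have e2 : p.2 = q.2 := by
        by_contra k
        refine hn (inf_le_left.trans (cj_eq_of_mem_normalizer (Λ.TI' hg (mr (p.2 + q.2)).1
          (e1 ▸ (mul_mem (inv_mem p.1.2) q.1.2).1) (Lz.Kp.cj ⟨Λ.Rsq _ (Λ.rR _), fun k' => k ?_, 1, ?_⟩ n))).le)
        · linear_combination Λ.r_eq_one.1 k' - add_self q.2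
        · simpa using Λ.RK' (Λ.rR _)
      exact Prod.ext (Subtype.ext (mul_right_cancel (e2 ▸ e))) e2
  have k4 := Set.ncard_le_ncard (s := (Λ.Fx (ψ ⟨d, hd⟩) : Set G))
    (t := {b | b ∈ Λ.T ∧ b * d * b⁻¹ * d⁻¹ ∈ g •ᶜ Λ.T}) fun b hb => ⟨hb.1, Yg ((Λ.cm_Y a hb.1).2 hb)⟩
  rw [← Nat.card_coe_set_eq] at k4
  rw [Nat.card_prod, Nat.card_eq_fintype_card (α := F4), F4.card_eq] at k3
  exact ⟨d, hd, dT, by change Nat.card ↥(Λ.Fx _) ≤ _ at k4; nlinarith⟩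

/-- PROOF. `gs` with `H = C(Y)`, `Z = Y`, `A = T`, `e = r 1`, `e' = r w` (`four`: `TI`), `fix`: `Act.mem_T`; `nrm`:
`nrm5`, `t = w1 1`. `cnt`: `D = T^g ⊓ N(T)`, `I = T^g ⊓ T = D ⊓ ker`; the image of `D` in `S₅` has exponent 2, is a
2-group without elements of order 4, so has order at most 4 (a group of order 8 would be Sylow and contain a
4-cycle). If some `d ∈ D` acts as a double transposition `π`, then `W = {b ∈ T | β b fixed by π}` has order 64,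
`I ≤ W` (`[I, d] ≤ Y`), `[T, d] ≤ W`; `CL.VM.cnt` gives at least `16 |I|` elements `b`, and `|D| ≤ 4 |I|`.
Otherwise the image is generated by one transposition `π`, `|D| = 2 |I|`; `W` has order 256 and all its elements
count; conjugating by an even permutation `π = swap 0 1`, `R ≤ W`, `I ⊓ R = 1` (`TI'`), and `R` normalises `I`,
so `4 |I| ≤ 256`. -/
theorem cenY : centralizer (Λ.Y : Set G) ≤ normalizer (Λ.T : Set G) := by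
  have od : ∀ m ≠ 0, orderOf (Λ.r m) = 2 := fun m h =>
    orderOf_eq_prime (by rw [pow_two, Λ.Rsq _ (Λ.rR m)]) (mt Λ.r_eq_one.1 h)
  have ti : ∀ x ∈ centralizer (Λ.Y : Set G), ∀ m ≠ 0, x * Λ.r m = Λ.r m * x → x ∈ normalizer (Λ.T : Set G) :=
    fun x hx m h e => Λ.TI0 (centralizer_le_normalizer _ hx) (Λ.rR m) (mt Λ.r_eq_one.1 h) (Λ.rR m) (cj_of_comm e)
  have triv : ∀ {s π}, Λ.Act s π false → (∀ a ∈ Λ.T, s * a * s⁻¹ * a⁻¹ ∈ Λ.Y) → π = 1 := fun {s π} a h =>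
    (a.unique ⟨a.norm, fun x hx i => by
      obtain ⟨c, e⟩ := h x hx
      rw [eq_mul_of_mul_inv_eq e, Λ.β_mul (Λ.uT ..) hx, (Λ.β_eq_zero (Λ.uT ..)).2 (Λ.z_mem c), zero_add]; rfl,
      a.z⟩).1
  refine gs Co.pT (fun x hx => (Λ.act_T hx).cenY) Λ.Y_le_T (fun z hz g hg => (hg z hz).symm)
    (fun a ha => Λ.sq_β ha ▸ Λ.z_mem _) (fun g hg => Λ.cnt_T hg) (fun s hs hN ⟨k, e⟩ h => ?_)
    (fun K h1 h2 h3 n hn hN ⟨a, ha, k⟩ => ?_) (Λ.r_mem (Λ.rR 1)) (Λ.r_mem (Λ.rR F4.w)) (od _ (by decide))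
    (od _ (by decide)) (comm_of_sq Λ.Rsq (Λ.rR _) (Λ.rR _))
    (fun e => absurd ((Λ.lam_r 1).symm.trans ((congrArg Λ.lam e).trans (Λ.lam_r F4.w))) (by decide))
    fun x hx e => e.elim (ti x hx _ (by decide)) fun e => e.elim (ti x hx _ (by decide))
      (Λ.r_mul _ _ ▸ ti x hx _ (by decide))
  · obtain ⟨π, a⟩ := Λ.act_of_cen hN hs
    exact (triv a h ▸ a).mem_T e
  · obtain ⟨π, b⟩ := Λ.act_of_cen hN (h1 hn)
    refine ⟨_, Λ.nrm5 (fun n π a => h2 a.cenY) h3 hn b (fun e => k ?_) 1, Λ.w1_norm 1,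
      fun m => absurd ((Λ.act_w1 1).unique (Λ.act_T m)).1 (by decide), by
        rw [Λ.w1_mul, add_self, show Λ.w1 0 = 1 by simpa using Λ.w1_mul 0 0]; exact one_mem _⟩
    subst e
    refine (Λ.β_eq_zero (mul_mem (b.conj_T ha) (inv_mem ha))).1 (funext fun i => ?_)
    rw [Λ.β_mul (b.conj_T ha) (inv_mem ha), Λ.β_inv ha, Pi.add_apply, show Λ.β (n * a * n⁻¹) i = _ from b.act a ha i]
    exact add_self _

/-- PROOF. `M = g •ᶜ T ⊔ T` is a normal 2-subgroup of `C(Y)`. If some element of it has `π ≠ 1` then all `w1 a` and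
their conjugates lie in `M` (`nrm5`), so some element of `M` acts as a 3-cycle. Hence `M ≤ T` (`Act.mem_T`). -/
theorem normY : normalizer (Λ.Y : Set G) ≤ normalizer (Λ.T : Set G) := fun g hg => by
  have e : g •ᶜ centralizer (Λ.Y : Set G) = centralizer (Λ.Y : Set G) :=
    cj_eq_of_mem_normalizer (normalizer_le_normalizer_centralizer _ hg)
  have h1 : g •ᶜ Λ.T ≤ centralizer (Λ.Y : Set G) := e ▸ cj_mono g fun x hx => (Λ.act_T hx).cenY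
  have h2 : centralizer (Λ.Y : Set G) ≤ normalizer ((g •ᶜ Λ.T ⊔ Λ.T : Subgroup G) : Set G) :=
    le_normalizer_sup (by rw [← cj_normalizer, ← e]; exact cj_mono g Λ.cenY) Λ.cenY
  have h3 := isPGroup_sup_of_normalizes (isPGroup_cj g Co.pT) Co.pT (h1.trans Λ.cenY)
  refine mem_normalizer_of_cj_le fun x hx => ?_
  obtain ⟨π, a⟩ := Λ.act_of_cen (Λ.cenY (h1 hx)) (h1 hx)
  obtain ⟨k, hk⟩ := pow_two_of_mem (isPGroup_cj g Co.pT) hx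
  by_cases h : π = 1
  · exact (h ▸ a).mem_T hk
  have m := Λ.nrm5 (fun n π a => h2 a.cenY) le_sup_right (mem_sup_left hx) a h 1
  obtain ⟨j, hj⟩ := pow_two_of_mem h3 (mul_mem m ((mem_normalizer_iff.1 (h2 (Λ.act_w2 1).cenY) _).1 m))
  have := ((((Λ.act_w1 1).mul (((Λ.act_w2 1).mul (Λ.act_w1 1)).mul (Λ.act_w2 1).inv)).pow (2 ^ j)).unique
    (hj ▸ Λ.act_T (one_mem _))).1
  exact absurd (orderOf_eq_one_iff.1 (Nat.eq_one_of_dvd_coprimes ((show Nat.Coprime 3 2 by decide).pow_right j)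
    (orderOf_dvd_of_pow_eq_one (by decide)) (orderOf_dvd_of_pow_eq_one this))) (by decide)

end Sz

end CL.SZ4
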