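import Cfsg.Agent.INV.SZ4.Pq
import Cfsg.Agent.INV.SZ4.StI

/-! An element of `C(z)` moving `Y`. -/

set_option autoImplicit false

namespace CL.SZ4

open Subgroup CL.MSS Equiv

set_option maxRecDepth 100000

namespace QC

/-- the action of `g` on `V` -/
def act (κ b a c : F4) : F4 × F4 :=
  let d := c + a * b + (a * a + κ * a)
  (d * d + κ * d + a + d * (1 + κ), d)

/-- the trace -/
def tr (a : F4) : F4 := a + a * a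

theorem ex_b : ∀ κ, ∃ b, act κ b 0 1 = (0, 1) ∧ act κ b 0 F4.w = (1, F4.w) ∧
    (act κ b 1 F4.w = (0, F4.w) ∨ act κ b 1 F4.w = (0, F4.v)) ∧ (∀ a c, tr (act κ b a c).1 = tr a) ∧
    ∀ c, ∃ a c', act κ b a c' = (0, c) ∧ act κ b a (c' + a) = (0, c * c) := by decide +kernel

/-- the vectors of `Q₁` -/
def vq (m a : F4) : V5 := ![0, a, a + tr m, a + tr (m * F4.w), a + tr (m * F4.v)]

theorem vq_tr : ∀ m a j, j ≠ 0 → tr (vq m a j) = tr a := by decide +kernel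
theorem vq_of : ∀ γ : V5, (∀ i, γ i * γ i = γ i) → ∑ i, γ i = 0 → γ 0 = 0 → ∃ m a, tr a = 0 ∧ γ = vq m a := by
  decide +kernel
theorem vq_two : ∀ m a, tr a = 0 → ∀ i, vq m a i * vq m a i = vq m a i := by decide +kernel
theorem vq_rot : ∀ m a m' a', (∀ i, vq m' a' ((swap 2 3 * swap 3 4 : Perm (Fin 5)) i) = vq m a i) →
    m' = m * F4.v := by decide +kernel
theorem eq_one : ∀ π : Perm (Fin 5), (∀ m i, vq m 1 (π i) = vq m 1 i) → π = 1 := by decide +kernel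
theorem fix0 : ∀ π : Perm (Fin 5), (∀ i, vq 0 1 (π i) = vq 0 1 i) → π⁻¹ 1 ≠ 0 := by decide +kernel

end QC

universe u
variable {G : Type u} [Group G] [Finite G]

namespace Sz

variable (Λ : Sz G)

omit [Finite G] in
theorem w1_zero : Λ.w1 0 = 1 := by simpa using Λ.w1_mul 0 0
omit [Finite G] in
theorem r_zero : Λ.r 0 = 1 := Λ.r_eq_one.2 rfl

theorem exists_x : ∃ x κ, x •ᶜ Λ.P2 = Λ.P1 ∧ (∀ o ∈ Λ.O, x * o = o * x) ∧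
    ∀ b c, x * Λ.u 0 b c * x⁻¹ = Λ.u b 0 (c + (b * b + κ * b)) := by
  obtain ⟨x, hx, xO⟩ := Λ.act_even (π := swap 0 1 * swap 3 4) (by decide)
  obtain ⟨-, hP⟩ := hx.conj_P2 Λ (by decide)
  have m : Λ.w2 1 ∈ Λ.P2 := (Λ.s2.mem _).2 ⟨1, one_mem _, 1, 0, 0, 0, by
    rw [Λ.y_zero, Λ.toEl.sw.u_zero, one_mul, mul_one, mul_one]; rfl⟩
  have w2 : Λ.w2 1 * Λ.w2 1 = 1 := by simpa [add_self] using (Λ.sw.w1_mul 1 1).trans (by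
    rw [add_self]; simpa using Λ.sw.w1_mul 0 0)
  obtain ⟨κ', a, κ, a', c', e⟩ := Λ.mem_P1.1 (hP ▸ conj_mem_cj m)
  obtain rfl : a = 1 := (by decide : ∀ a, swap 0 1 * swap 3 4 * p2 1 * (swap 0 1 * swap 3 4)⁻¹ = p1 a → a = 1) a
    (((hx.mul (Λ.act_w2 1)).mul hx.inv).unique (e ▸ Λ.act_pe ..)).1
  obtain rfl : κ' = κ := by
    have := sq_cj x w2
    rw [e, Λ.pe_sq, Λ.u_eq_one] at this
    linear_combination this.1 - add_self κ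
  refine ⟨x, κ', hP, xO, fun b c => ?_⟩
  obtain ⟨d, e'⟩ := Λ.eq_of_β (Λ.yT b) (hx.conj_T (Λ.r_mem (Λ.rR b))) (by
    funext j
    obtain ⟨j, rfl⟩ := (swap 0 1 * swap 3 4 : Perm (Fin 5)).surjective j
    rw [hx.act _ (Λ.r_mem (Λ.rR b)), Λ.β_r, Λ.β_y]
    revert b j; decide)
  obtain ⟨a₃, c₃, k⟩ := Λ.pe_mul 0 0 b 0 d κ' 1 κ' a' c'
  have k1 : Λ.r b * Λ.w2 1 * (Λ.r b * Λ.w2 1) = Λ.u 0 b 0 := by
    have := Λ.sw.w1_r 1 (Λ.rR b)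
    rw [inv_of_sq w2] at this
    rw [mul_assoc, ← mul_assoc (Λ.w2 1), this, ← mul_assoc, Λ.Rsq _ (Λ.rR b), one_mul]
    exact (Λ.toLz.sw_v _ _).trans (by rw [show Λ.sw.lam _ = b from Λ.lam_r b, mul_one])
  have k2 : x * (Λ.r b * Λ.w2 1) * x⁻¹ = Λ.pe (0 + κ') (0 + 1) (b + κ') a₃ c₃ := by
    rw [cj_mul', e, e', ← k, pe.eq_1 Λ 0, Λ.r_zero, Λ.w1_zero, one_mul, one_mul]
  rw [← zero_add c, ← Λ.u_mul_z, cj_mul', hx.z, ← k1, cj_mul', k2, Λ.pe_sq, Λ.u_mul_z]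
  exact Λ.u_congr (by linear_combination add_self κ') rfl
    (by rw [Bas.fr_false]; linear_combination (b + κ') * add_self κ')

theorem exists_g : ∃ g κ b, g ∈ normalizer (Λ.P1 : Set G) ∧ (∀ o ∈ Λ.O, g * o = o * g) ∧
    (QC.act κ b 0 1 = (0, 1) ∧ QC.act κ b 0 F4.w = (1, F4.w) ∧
      (QC.act κ b 1 F4.w = (0, F4.w) ∨ QC.act κ b 1 F4.w = (0, F4.v)) ∧
      (∀ a c, QC.tr (QC.act κ b a c).1 = QC.tr a) ∧
      ∀ c, ∃ a c', QC.act κ b a c' = (0, c) ∧ QC.act κ b a (c' + a) = (0, c * c)) ∧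
    ∀ a c, g * Λ.u a 0 c * g⁻¹ = Λ.u (QC.act κ b a c).1 0 (QC.act κ b a c).2 := by
  obtain ⟨x, κ, hP, xO, hx⟩ := Λ.exists_x
  obtain ⟨b, hb⟩ := QC.ex_b κ
  have nL : ∀ l ∈ Λ.L, l ∈ normalizer (Λ.V : Set G) → l ∈ normalizer (Λ.P1 : Set G) := fun l hl =>
    Λ.norm_P1 fun r hr => (Λ.comm (Λ.RK' hr) hl).symm
  have oL : ∀ l ∈ Λ.L, l ∈ centralizer (Λ.O : Set G) := fun l hl o ho => Λ.comm (Λ.OK ho) hl
  have xO' : x ∈ centralizer (Λ.O : Set G) := fun o ho => (xO o ho).symm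
  refine ⟨Λ.n false * Λ.u 0 (1 + κ) 0 * (x * Λ.n true * x⁻¹) * Λ.u 0 b 0, κ, b, mul_mem (mul_mem (mul_mem
    (nL _ (Λ.nL _) (Bas.n_V _)) (nL _ (Λ.uL ..) (Bas.u_V _ _ _ _))) ?_) (nL _ (Λ.uL ..) (Bas.u_V _ _ _ _)),
    fun o ho => (mul_mem (mul_mem (mul_mem (oL _ (Λ.nL _)) (oL _ (Λ.uL ..))) (mul_mem (mul_mem xO' (oL _ (Λ.nL _)))
      (inv_mem xO'))) (oL _ (Λ.uL ..)) o ho).symm, hb, fun a c => ?_⟩
  · rw [← hP, ← cj_normalizer]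
    exact conj_mem_cj (Λ.sw.norm_P1 (fun r hr => (Λ.comm (Λ.RK' hr) (Λ.nL _)).symm) (Bas.n_V Λ.toLz.sw))
  have e : ∀ a c, x⁻¹ * Λ.u a 0 c * x⁻¹⁻¹ = Λ.u 0 a (c + (a * a + κ * a)) := fun a c => by
    rw [inv_inv, mul_assoc, inv_mul_eq_iff_eq_mul, ← mul_inv_eq_iff_eq_mul, eq_comm, ← mul_inv_eq_iff_eq_mul, inv_inv,
      ← mul_inv_eq_iff_eq_mul, hx, add_assoc, add_self, add_zero]
  rw [← cj_cj, ← cj_cj, ← cj_cj, ← cj_cj, ← cj_cj x, Λ.u_conj, e, Λ.n1, hx, Λ.u_conj, Λ.n0]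
  exact Λ.u_congr (by simp only [QC.act]; ring) rfl (by simp only [QC.act]; ring)

omit [Finite G] in
theorem pq_T (m a c : F4) : Λ.pe m 0 (m * m) a c ∈ Λ.T := by
  rw [pe, w1_zero, mul_one]
  exact mul_mem (mul_mem (Λ.r_mem (Λ.rR m)) (Λ.yT _)) (Λ.uT ..)

omit [Finite G] in
theorem β_pq (m a c : F4) : Λ.β (Λ.pe m 0 (m * m) a c) = QC.vq m a := by
  rw [pe, w1_zero, mul_one, Λ.β_mul (mul_mem (Λ.r_mem (Λ.rR m)) (Λ.yT _)) (Λ.uT ..),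
    Λ.β_mul (Λ.r_mem (Λ.rR m)) (Λ.yT _), β_r, β_y, β_u]
  revert m a; decide +kernel

omit [Finite G] in
theorem pq_cj {n : G} (h1 : n ∈ normalizer (Λ.P1 : Set G)) (h2 : n ∈ normalizer (Λ.V : Set G))
    (h3 : n * Λ.z 1 * n⁻¹ = Λ.z 1) (m a c : F4) :
    ∃ m' a' c', n * Λ.pe m 0 (m * m) a c * n⁻¹ = Λ.pe m' 0 (m' * m') a' c' := by
  by_cases hm : m = 0
  · obtain ⟨a', c', e⟩ := (mem_normalizer_iff.1 h2 _).1 (Λ.v_mem a c)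
    exact ⟨0, a', c', by simpa [hm, pe, w1_zero, r_zero, Λ.y_zero] using e⟩
  obtain ⟨m', a₁, η, a', c', e⟩ := Λ.mem_P1.1 ((mem_normalizer_iff.1 h1 _).1 (Λ.mem_P1.2 ⟨m, 0, m * m, a, c, rfl⟩))
  have := Λ.pe_sq m' a₁ η a' c'
  rw [← e, ← cj_mul', Λ.pe_sq, (by decide : ∀ m : F4, m ≠ 0 → (m + 0 * (m * m)) * (m * m) = 1) m hm, mul_zero, h3] at this
  obtain ⟨rfl, rfl⟩ := (by decide : ∀ m a η : F4, 0 = (m + a * η) * a → 1 = (m + a * η) * η → a = 0 ∧ η = m * m)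
    m' a₁ η (Λ.u_inj this).1 (Λ.u_inj this).2.2
  exact ⟨m', a', c', e⟩

theorem tr_cj {g : G} (h1 : g ∈ normalizer (Λ.P1 : Set G)) (h2 : g ∈ normalizer (Λ.V : Set G))
    (h3 : g * Λ.z 1 * g⁻¹ = Λ.z 1) (h4 : ∀ a c, QC.tr (Λ.β (g * Λ.u a 0 c * g⁻¹) 1) = QC.tr a) (m a c : F4) :
    QC.tr (Λ.β (g * Λ.pe m 0 (m * m) a c * g⁻¹) 1) = QC.tr a := by
  have ta : ∀ a b, QC.tr (a + b) = QC.tr a + QC.tr b := by decide
  have mT : ∀ m a c, g * Λ.pe m 0 (m * m) a c * g⁻¹ ∈ Λ.T := fun m a c => by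
    obtain ⟨m', a', c', e⟩ := Λ.pq_cj h1 h2 h3 m a c
    exact e ▸ Λ.pq_T ..
  let D : F4 → F4 := fun m => QC.tr (Λ.β (g * Λ.pe m 0 (m * m) 0 0 * g⁻¹) 1)
  have k1 : ∀ m a c, QC.tr (Λ.β (g * Λ.pe m 0 (m * m) a c * g⁻¹) 1) = D m + QC.tr a := fun m a c => by
    rw [show Λ.pe m 0 (m * m) a c = Λ.pe m 0 (m * m) 0 0 * Λ.u a 0 c by rw [pe, pe, Λ.u_zero, mul_one], cj_mul',
      Λ.β_mul (mT ..) (Λ.U_le_T (Λ.V_le_U ((mem_normalizer_iff.1 h2 _).1 (Λ.v_mem ..)))), Pi.add_apply, ta, h4]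
  have k2 : ∀ m m', D (m + m') = D m + D m' := fun m m' => by
    obtain ⟨a₃, c₃, e⟩ := Λ.pe_mul m 0 (m * m) 0 0 m' 0 (m' * m') 0 0
    rw [add_zero, show m * m + m' * m' = (m + m') * (m + m') by linear_combination -add_self (m * m')] at e
    have e1 := congrFun (congrArg Λ.β e) 1
    rw [Λ.β_mul (Λ.pq_T ..) (Λ.pq_T ..), β_pq, β_pq, β_pq] at e1
    have := k1 (m + m') a₃ c₃
    rw [← e, cj_mul', Λ.β_mul (mT ..) (mT ..), Pi.add_apply, ta, show a₃ = 0 by simpa [QC.vq] using e1.symm] at this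
    exact (add_zero _).symm.trans this.symm
  have k3 : ∀ m, D (m * F4.v) = D m := fun m => by
    obtain ⟨e, ae, eV, -⟩ := Λ.exists_e
    obtain ⟨n2, n1⟩ := ae.norm_P1 Λ (by decide)
    obtain ⟨m', a', c', h⟩ := Λ.pq_cj n1 n2 (ae.z 1) m 0 0
    have hb : ∀ i, QC.vq m' a' ((swap 2 3 * swap 3 4 : Perm (Fin 5)) i) = QC.vq m 0 i := fun i => by
      rw [← Λ.β_pq m' a' c', ← h, ae.act _ (Λ.pq_T ..), β_pq]; rfl
    obtain rfl := QC.vq_rot _ _ _ _ hb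
    obtain rfl : a' = 0 := hb 1
    have cV : ∀ a c, g * e * g⁻¹ * Λ.u a 0 c = Λ.u a 0 c * (g * e * g⁻¹) := fun a c => by
      obtain ⟨a', c', k⟩ := (mem_normalizer_iff.1 (inv_mem h2) _).1 (Λ.v_mem a c)
      have := cm_cj g (eV a' c')
      rwa [← k, cj_cj, mul_inv_cancel, one_mul, inv_one, mul_one] at this
    obtain ⟨π, σ, aε⟩ := Λ.exists_act (Λ.cenY (by rintro _ ⟨c, rfl⟩; exact (cV 0 c).symm)) (cV 0 1)
    obtain rfl : σ = false := by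
      cases σ
      exacts [rfl, absurd (Λ.z_inj ((aε.z F4.w).symm.trans (cj_of_comm (cV 0 _)))) (by decide)]
    have h0 := QC.fix0 π fun i => by
      have := aε.act _ (Λ.uT 1 0 0) i
      rwa [cj_of_comm (cV ..), show Λ.β (Λ.u 1 0 0) = QC.vq 0 1 by rw [β_u]; decide] at this
    have := aε.act _ (mT m 0 0) (π⁻¹ 1)
    rw [show π (π⁻¹ 1) = 1 by simp, show g * e * g⁻¹ * (g * Λ.pe m 0 (m * m) 0 0 * g⁻¹) * (g * e * g⁻¹)⁻¹ =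
      g * (e * Λ.pe m 0 (m * m) 0 0 * e⁻¹) * g⁻¹ by group, h] at this
    refine ((add_zero _).symm.trans (k1 _ 0 c').symm).trans ?_
    obtain ⟨m₂, a₂, c₂, e₂⟩ := Λ.pq_cj h1 h2 h3 m 0 0
    simp only [D]
    rw [this, e₂, β_pq]
    exact (QC.vq_tr _ _ _ h0).trans (QC.vq_tr _ _ _ (by decide)).symm
  have k4 : D 1 = 0 := by
    have e1 : D F4.v = D 1 := k3 1
    have e2 : D F4.w = D F4.v := k3 F4.v
    have e3 : D F4.v = D 1 + D F4.w := k2 1 F4.w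
    linear_combination -e3 - e2
  have k5 : D m = 0 := by
    rcases (by decide : ∀ c : F4, c = 1 + 1 ∨ c = 1 ∨ c = 1 * F4.v ∨ c = 1 * F4.v * F4.v) m with rfl | rfl | rfl | rfl
    exacts [by rw [k2, add_self], k4, by rw [k3, k4], by rw [k3, k3, k4]]
  rw [k1, k5, zero_add]

end Sz

/-- PROOF. `x ∈ C(O)` with `Act x (swap 0 1 * swap 3 4) false` (`act_even`); `x (u 0 b 0) x⁻¹ = u b 0 (δ b)`, `δ`
additive, `x P₂ x⁻¹ = P₁` (`conj_P2`). `x (w2 1) x⁻¹ = pe κ 1 κ _ _` (it acts as `p1 1`, `pe_sq`),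
`x (r μ) x⁻¹ ∈ y μ * Y`, `(r μ * w2 1)² = u 0 μ 0` (`w1_r` for `Λ.sw`); `pe_mul`, `pe_sq` give
`δ μ = μ² + κ μ`. `g₀ = x (n true) x⁻¹` normalises `V`, `P₁` (`norm_P1` for `Λ.sw`), centralises `O`, exchanges
`z c` and `u c 0 (δ c)`. `g₁ = n false * u 0 (1 + κ) 0 * g₀` fixes `z 1`, maps `z w` to `u 1 0 w` and `u 1 0 0` to
`u (1 + κ + κ²) 0 (1 + κ)`. Put `g = g₁` if `1 + κ + κ² = 1`, else `g = g₁ * u 0 w 0`. So `g` normalises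
`Z₃ = {u a 0 c | a ∈ {0, 1}}`, `V`, `P₁`.
`gQ`: `Q₁ = {p ∈ P₁ | p² = z 1} ∪ V = {pe m 0 m² a c}` (`pe_sq`) is normalised by `g`, lies in `T`, and
`θ p = β p 1 + (β p 1)²` is a homomorphism on `Q₁` with kernel `Q₀ = {x ∈ Qy | β x 0 = 0}`. Every `ε ∈ C(V) ⊓ N(P₁)`
has an action (`cenY`) fixing the index `0` and preserves `Q₀`, `Q₁`, so `θ`. `θ' p = θ (g p g⁻¹)` agrees with `θ`
on `V` (kernel `Z₃`) and is invariant under `e` from `exists_e` (use `ε = g e g⁻¹`); `θ + θ'` factors through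
`m ∈ F4`, on which `e` acts as multiplication by `w` or `v`; so `θ = θ'`.
`act`: `f = g (u 0 1 0) g⁻¹` fixes `z 1`, `u 1 0 w` and maps `z w = g x₀ g⁻¹` (`x₀ ∈ Z₃ ∖ Y`) to `z v`; so `f ∈ N(Y)`
has an action `(π, true)` (`normY`, `exists_act`); `[u 0 1 0, Q₀] ≤ ⟨z 1⟩` gives `[f, Q₀] ≤ ⟨z 1⟩`, so `π` fixes
the vectors `ff 0 1`, `ff 1 1 + ff j 1` (`j = 2, 3, 4`), `π = 1`. -/
theorem Sz.exists_Sq (Λ : Sz G) : Nonempty (Sq G) := by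
  obtain ⟨g, κ, b, h1, gO, ⟨b1, b2, b3, b4, b5⟩, hg⟩ := Λ.exists_g
  have h2 : g ∈ normalizer (Λ.V : Set G) := Bas.norm_V_of _ fun a c => hg a c ▸ Λ.v_mem ..
  have h3 : g * Λ.z 1 * g⁻¹ = Λ.z 1 := by rw [Lz.z, hg, b1]
  have h3' : g⁻¹ * Λ.z 1 * g⁻¹⁻¹ = Λ.z 1 := by nth_rewrite 1 [← h3]; group
  have key := Λ.tr_cj h1 h2 h3 fun a c => by rw [hg, Λ.β_u, ← b4 a c]; simp
  have dec : ∀ x ∈ Λ.Qy, Λ.β x 0 = 0 → ∃ m a c, QC.tr a = 0 ∧ x = Λ.pe m 0 (m * m) a c := fun x hx h0 => by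
    obtain ⟨m, a, ha, e⟩ := QC.vq_of _ hx.2 (Λ.β_sum x) h0
    obtain ⟨c, rfl⟩ := Λ.eq_of_β (Λ.pq_T m a 0) hx.1 (by rw [e, Λ.β_pq])
    exact ⟨m, a, 0 + c, ha, by rw [Sz.pe, Sz.pe, mul_assoc, Λ.u_mul_z]⟩
  have mq : ∀ m a c, QC.tr a = 0 → Λ.pe m 0 (m * m) a c ∈ Λ.Qy := fun m a c h =>
    ⟨Λ.pq_T .., Λ.β_pq m a c ▸ QC.vq_two m a h⟩
  have fz : ∀ c, g * Λ.u 0 1 0 * g⁻¹ * Λ.z c * (g * Λ.u 0 1 0 * g⁻¹)⁻¹ = Λ.z (c * c) := fun c => by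
    obtain ⟨a, c', e1, e2⟩ := b5 c
    have := hg a c'
    rw [e1] at this
    rw [Lz.z, ← this, show ∀ u v : G, g * u * g⁻¹ * (g * v * g⁻¹) * (g * u * g⁻¹)⁻¹ = g * (u * v * u⁻¹) * g⁻¹ from
      fun u v => by group, Λ.u_conj, mul_zero, add_zero, mul_one, hg, e2]
  obtain ⟨π, σ, af⟩ := Λ.exists_act (Λ.normY (Bas.norm_Y_of _ fun c => fz c ▸ Λ.z_mem _))
    (comm_of_cj ((fz 1).trans (by rw [mul_one])))
  obtain rfl : σ = true := by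
    cases σ
    exacts [absurd (Λ.z_inj ((af.z F4.w).symm.trans (fz _))) (by decide), rfl]
  obtain rfl : π = 1 := QC.eq_one π fun m i => by
    obtain ⟨m', a', c', e⟩ := Λ.pq_cj (inv_mem h1) (inv_mem h2) h3' m 1 0
    have e' : g * Λ.pe m' 0 (m' * m') a' c' * g⁻¹ = Λ.pe m 0 (m * m) 1 0 := by rw [← e]; group
    have ta := key m' a' c'
    rw [e', Λ.β_pq] at ta
    have := af.act _ (Λ.pq_T m 1 0) i
    rw [← e', show ∀ u v : G, g * u * g⁻¹ * (g * v * g⁻¹) * (g * u * g⁻¹)⁻¹ = g * (u * v * u⁻¹) * g⁻¹ from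
      fun u v => by group, Λ.comm_β (Λ.uT ..) (Λ.pq_T ..), cj_mul', e', Λ.β_u, Λ.β_pq, Λ.β_pq] at this
    rcases (by decide +kernel : ∀ m a, QC.tr 1 = QC.tr a → Bf ![1, 0, 0 + 1, 0 + 1, 0 + 1] (QC.vq m a) = 0 ∨
      Bf ![1, 0, 0 + 1, 0 + 1, 0 + 1] (QC.vq m a) = 1) m' a' ta with k | k <;> rw [k] at this
    · rw [Λ.z_eq_one.2 rfl, mul_one, mul_inv_cancel, mul_one, Λ.β_pq] at this
      exact this.trans (QC.vq_two m 1 (by decide) i)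
    · rw [h3, Λ.β_mul (Λ.pq_T ..) (Λ.uT ..), (Λ.β_eq_zero (Λ.uT ..)).2 (Λ.z_mem 1), add_zero, Λ.β_pq] at this
      exact this.trans (QC.vq_two m 1 (by decide) i)
  refine ⟨⟨Λ, g, h3, by rw [hg, b2], b3.imp (fun e => by rw [hg, e]) fun e => by rw [hg, e], gO,
    fun x hx h0 => ?_, af⟩⟩
  obtain ⟨m, a, c, ha, rfl⟩ := dec x hx h0
  obtain ⟨m', a', c', e⟩ := Λ.pq_cj h1 h2 h3 m a c
  have := key m a c
  rw [e, Λ.β_pq, ha] at this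
  rw [e]
  exact ⟨mq _ _ _ this, by rw [Λ.β_pq]; rfl⟩

end CL.SZ4
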