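import Cfsg.Agent.INV.SZ4.Tc

/-! The split case: construction of `UT₃(A)`. -/

set_option autoImplicit false
set_option linter.unusedSectionVars false

namespace CL.SZ4

open Subgroup CL.MSS

universe u
variable {G : Type u} [Group G] [Finite G]

namespace Z0

theorem bil {f : F4 → F4 → F4} (h1 : ∀ a a' b, f (a + a') b = f a b + f a' b)
    (h2 : ∀ a b b', f a (b + b') = f a b + f a b') (h3 : ∀ a b, f (F4.v * a) (F4.v * b) = F4.w * f a b) (a b : F4) :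
    f a b = a * b * f 1 1 := by
  have z1 : ∀ b, f 0 b = 0 := fun b => by simpa using h1 0 0 b
  have z2 : ∀ b, f b 0 = 0 := fun b => by simpa using h2 b 0 0
  have v1 : ∀ b, f F4.v b = f 1 b + f F4.w b := h1 1 F4.w
  have v2 : ∀ b, f b F4.v = f b 1 + f b F4.w := fun b => h2 b 1 F4.w
  have t : ∀ A B C D : F4, A = F4.w * D → A + C = F4.w * B → A + B = F4.w * C →
    B = F4.w * A ∧ C = F4.w * A ∧ D = F4.v * A := by decide
  obtain ⟨e1, e2, e3⟩ := t (f 1 1) _ _ _ (h3 F4.w F4.w) ((v1 1).symm.trans (h3 1 F4.w)) ((v2 1).symm.trans (h3 F4.w 1))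
  have c : ∀ a : F4, a = 0 ∨ a = 1 ∨ a = F4.w ∨ a = F4.v := by decide
  rcases c a with rfl | rfl | rfl | rfl <;> rcases c b with rfl | rfl | rfl | rfl <;>
    (try simp only [z1, z2, v1, v2, e1, e2, e3]) <;> generalize f 1 1 = x <;> (clear * -; decide +revert)

variable (Λ : Co G)

/-- the elements of `Y*` -/
def zz (x : F4 × F4) : G := Λ.z x.1 * Λ.y x.2
/-- a complement to `Y*` -/
def pp (x : F4 × F4) : G := Λ.u x.1 0 0 * Λ.w1 x.2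

theorem zz_el (x : F4 × F4) : zz Λ x = Λ.el 1 0 0 x.1 x.2 := by rw [Co.el, one_mul, zz]
theorem zz_add (x x' : F4 × F4) : zz Λ x * zz Λ x' = zz Λ (x + x') := by
  simp [zz_el, Λ.el_mul 1 (one_mem _), Λ.lam_1]
theorem zz_zero : zz Λ 0 = 1 := by rw [zz_el]; exact Λ.el_one
theorem two (x : F4 × F4) : x + x = 0 := Prod.ext (add_self _) (add_self _)
theorem zz_inj {x x' : F4 × F4} (e : zz Λ x = zz Λ x') : x = x' := by
  rw [zz_el, zz_el] at e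
  obtain ⟨-, -, -, h1, h2⟩ := Λ.el_inj (one_mem _) (one_mem _) e
  exact Prod.ext h1 h2
theorem sw_zz (x : F4 × F4) : zz Λ.sw x = zz Λ x := congrArg (· * Λ.y x.2) (Λ.toLz.sw_z _)
theorem h_zz (x : F4 × F4) : Λ.h * zz Λ x * Λ.h⁻¹ = zz Λ (F4.w • x) := by rw [zz, cj_mul', Λ.hz, Λ.hy]; rfl
theorem r_zz {r : G} (hr : r ∈ Λ.R) (x : F4 × F4) : r * zz Λ x * r⁻¹ = zz Λ (x.1 + Λ.lam r * x.2, x.2) := by
  rw [mul_inv_eq_iff_eq_mul, zz_el, zz_el, ← Λ.el_r r, Λ.el_mul _ (one_mem _), Λ.el_mul _ hr, Λ.el_r, Λ.lam_1]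
  simp [add_assoc, add_self]
theorem w0 : Λ.w1 0 = 1 := by simpa using Λ.w1_mul 0 0
theorem w2 (a : F4) : Λ.w1 a * Λ.w1 a = 1 := by rw [Λ.w1_mul, add_self, w0]
theorem pp_add (x x' : F4 × F4) : pp Λ x * pp Λ x' = pp Λ (x + x') := by
  rw [pp, pp, mul_assoc, ← mul_assoc (Λ.w1 _), Λ.w1_v, mul_assoc, Λ.w1_mul, ← mul_assoc, Λ.v_mul, add_zero]; rfl
theorem h_pp (x : F4 × F4) : Λ.h * pp Λ x * Λ.h⁻¹ = pp Λ (F4.v • x) := by
  rw [pp, cj_mul', Λ.hu, Λ.h_w1, mul_zero, mul_zero]; rfl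
theorem r_pp {r : G} (hr : r ∈ Λ.R) (x : F4 × F4) : r * pp Λ x * r⁻¹ = pp Λ (x.1 + Λ.lam r * x.2, x.2) := by
  have := mul_inv_eq_iff_eq_mul.1 (Λ.w1_r x.2 hr)
  rw [pp, cj_mul', cj_of_comm (Λ.ru hr ..), mul_assoc r, inv_of_sq (Λ.Rsq r hr), this, ← mul_assoc r, ← mul_assoc r,
    Λ.Rsq r hr, one_mul, ← mul_assoc, Λ.v_mul, add_zero]; rfl
theorem u_zz (a b c : F4) (x : F4 × F4) : Commute (Λ.u a b c) (zz Λ x) :=
  .mul_right (Λ.z_comm ..).symm (Λ.yu ..).symm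
theorem w_zz (h : Λ.k1 = 0) (a : F4) (x : F4 × F4) : Commute (Λ.w1 a) (zz Λ x) :=
  .mul_right (Λ.w1_v ..) (comm_of_cj (by simpa [h, Λ.u_zero] using Λ.s1.wy a x.2))
theorem pp_zz (h : Λ.k1 = 0) (y x : F4 × F4) : Commute (pp Λ y) (zz Λ x) := .mul_left (u_zz ..) (w_zz Λ h ..)

variable {Λ}

theorem cml {g g' k : G} {x x' : F4 × F4} (h : g * k = k * g * zz Λ x) (h' : g' * k = k * g' * zz Λ x')
    (c : Commute g' (zz Λ x)) : g * g' * k = k * (g * g') * zz Λ (x + x') := by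
  rw [mul_assoc, h', ← mul_assoc, ← mul_assoc, h, mul_assoc _ _ g', ← c.eq, ← zz_add]; simp only [mul_assoc]
theorem cmr {g k k' : G} {x x' : F4 × F4} (h : g * k = k * g * zz Λ x) (h' : g * k' = k' * g * zz Λ x')
    (c : Commute k' (zz Λ x)) : g * (k * k') = k * k' * g * zz Λ (x + x') := by
  rw [← mul_assoc, h, mul_assoc _ _ k', ← c.eq, ← mul_assoc, mul_assoc k, h', add_comm, ← zz_add]
  simp only [mul_assoc]
theorem flip {g k : G} {x : F4 × F4} (h : g * k = k * g * zz Λ x) : k * g = g * k * zz Λ x := by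
  rw [h, mul_assoc, zz_add, two, zz_zero, mul_one]

theorem wu (h : Λ.k1 = 0) (a b : F4) : ∃ c, Λ.w1 a * Λ.u 0 b 0 = Λ.u 0 b 0 * Λ.w1 a * zz Λ (c, a * b) := by
  obtain ⟨r, hr, e, c, e'⟩ := Λ.s1.wu a b
  obtain rfl := Λ.lam_inj r hr (by simp [e, h])
  refine ⟨c, ?_⟩
  rw [mul_assoc, (w_zz Λ h ..).eq, ← mul_assoc, ← mul_inv_eq_iff_eq_mul, zz, ← mul_assoc, Λ.u_mul_z]
  simpa [h] using e'

theorem ww (h1 : Λ.k1 = 0) (h2 : Λ.k2 = 0) (a b : F4) : ∃ x, Λ.w1 a * Λ.w2 b = Λ.w2 b * Λ.w1 a * zz Λ x := by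
  by_cases a0 : a = 0
  · exact ⟨0, by simp [a0, w0, zz_zero]⟩
  by_cases b0 : b = 0
  · exact ⟨0, by simp [b0, Co.w2, w0, zz_zero]⟩
  have i1 := inv_of_sq (w2 Λ a)
  have i2 : (Λ.w2 b)⁻¹ = Λ.w2 b := inv_of_sq (w2 Λ.sw b)
  obtain ⟨x, hx, o, ho, e⟩ := Λ.ker (g := Λ.w1 a * Λ.w2 b * (Λ.w1 a * Λ.w2 b)) fun x hx => by
    obtain ⟨m1, e1⟩ := Λ.w2_cl b hx
    obtain ⟨m2, e2⟩ := Λ.w1_cl a m1
    obtain ⟨m3, e3⟩ := Λ.w2_cl b m2
    obtain ⟨m4, e4⟩ := Λ.w1_cl a m3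
    rw [← cj_cj, ← cj_cj, ← cj_cj, e4, e3, e2, e1, h1, h2]
    refine ⟨m4, ?_⟩
    generalize Λ.cl x = p
    obtain ⟨p1, p2, p3, p4⟩ := p
    simp only [zero_mul, add_zero, Prod.mk.injEq, true_and]
    exact ⟨by linear_combination add_self (a * p1), by linear_combination add_self (b * p1), by
      linear_combination add_self (a * p3) + add_self (b * p2) + add_self (a * b * p1) + add_self (a * b * p1)⟩
  have c1 : Λ.w1 a * (x * o) * (Λ.w1 a)⁻¹ = (x * o)⁻¹ := by rw [← e]; simp only [mul_inv_rev, i1, i2, ← mul_assoc, w2, one_mul]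
  have c2 : Λ.w2 b * (x * o) * (Λ.w2 b)⁻¹ = (x * o)⁻¹ := by
    rw [← e]; simp only [mul_inv_rev, i1, i2, mul_assoc, show Λ.w2 b * Λ.w2 b = 1 from w2 Λ.sw b, mul_one]
  obtain rfl : o = 1 := by
    have m : o * o ∈ Λ.T := by
      rw [cj_mul', cj_of_comm (Λ.w1_O a ho), Co.T_O hx ho, mul_inv_rev, eq_mul_inv_iff_mul_eq, mul_assoc,
        ← eq_inv_mul_iff_mul_eq] at c1
      exact c1 ▸ mul_mem (inv_mem (Λ.w1_cl a hx).1) (inv_mem hx)
    obtain ⟨n, k⟩ := pow_two_of_mem Co.pT m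
    exact orderOf_eq_one_iff.1 (Nat.eq_one_of_dvd_coprimes ((Nat.coprime_two_left.2 Λ.Oodd).pow_left (n + 1))
      (orderOf_dvd_of_pow_eq_one (by rw [pow_succ', pow_mul, pow_two, k])) (orderOf_dvd_natCard _ ho))
  rw [mul_one] at c1 c2 e
  have e1 := (Λ.w1_cl a hx).2
  have e2 := (Λ.w2_cl b hx).2
  rw [c1, Co.cl_inv hx, h1] at e1
  rw [c2, Co.cl_inv hx, h2] at e2
  obtain ⟨r, hr, p, q, c, η, rfl⟩ := hx
  simp [Λ.cl_el hr, a0, b0] at e1 e2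
  obtain rfl := Λ.lam_inj r hr e1.1
  obtain rfl := e1.2
  obtain rfl := e2.2
  refine ⟨(c, η), ?_⟩
  rw [zz_el, ← e, ← mul_assoc, ← mul_assoc, ← mul_assoc, mul_assoc (Λ.w2 b), w2, mul_one,
    show Λ.w2 b * Λ.w2 b = 1 from w2 Λ.sw b, one_mul]

theorem uu (a b : F4) : Λ.u a 0 0 * Λ.sw.u b 0 0 = Λ.sw.u b 0 0 * Λ.u a 0 0 * zz Λ (a * b, 0) := by
  simp [show ∀ b, Λ.sw.u b 0 0 = Λ.u 0 b 0 from fun b => Λ.toLz.sw_v b 0, zz, Λ.y_zero, Λ.u_mul]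

theorem exists_β (h1 : Λ.k1 = 0) (h2 : Λ.k2 = 0) : ∃ s s' b, (∀ r ∈ Λ.R, Λ.lam r = 0 ∨ Λ.lam r = 1) ∧
    ∀ x y : F4 × F4, pp Λ (x.1 + s * x.2, x.2) * pp Λ.sw (y.1 + s' * y.2, y.2) = pp Λ.sw (y.1 + s' * y.2, y.2) *
      pp Λ (x.1 + s * x.2, x.2) * zz Λ (x.1 * y.1 + b * x.2 * y.2, x.1 * y.2 + x.2 * y.1 + 1 * x.2 * y.2) := by
  have sv : ∀ b, Λ.sw.u b 0 0 = Λ.u 0 b 0 := fun b => Λ.toLz.sw_v b 0
  have wz : ∀ b x, Commute (Λ.w2 b) (zz Λ x) := fun b x => sw_zz Λ x ▸ w_zz Λ.sw h2 b x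
  have qz : ∀ y x, Commute (pp Λ.sw y) (zz Λ x) := fun b x => sw_zz Λ x ▸ pp_zz Λ.sw h2 b x
  have uw : ∀ a b, ∃ c, Λ.u a 0 0 * Λ.w2 b = Λ.w2 b * Λ.u a 0 0 * zz Λ (c, b * a) := fun a b => by
    obtain ⟨c, e⟩ := wu (Λ := Λ.sw) h2 b a
    rw [sw_zz, show Λ.sw.u 0 a 0 = Λ.u a 0 0 from Λ.toLz.sw_v' a 0] at e
    exact ⟨c, flip e⟩
  choose β hβ using fun x y : F4 × F4 => show ∃ c, pp Λ x * pp Λ.sw y = pp Λ.sw y * pp Λ x * zz Λ c by
    obtain ⟨_, e1⟩ := uw x.1 y.2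
    obtain ⟨_, e2⟩ := wu h1 x.2 y.1
    obtain ⟨_, e3⟩ := ww h1 h2 x.2 y.2
    exact ⟨_, cml (cmr (uu ..) e1 (wz ..)) (cmr (sv _ ▸ e2) e3 (wz ..)) (w_zz Λ h1 ..)⟩
  have un : ∀ {x y c}, pp Λ x * pp Λ.sw y = pp Λ.sw y * pp Λ x * zz Λ c → β x y = c := fun e =>
    zz_inj Λ (mul_left_cancel ((hβ _ _).symm.trans e))
  have a1 : ∀ x x' y, β (x + x') y = β x y + β x' y := fun x x' y =>
    un (pp_add Λ x x' ▸ cml (hβ x y) (hβ x' y) (pp_zz Λ h1 ..))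
  have a2 : ∀ x y y', β x (y + y') = β x y + β x y' := fun x y y' =>
    un (pp_add Λ.sw y y' ▸ cmr (hβ x y) (hβ x y') (qz ..))
  have a3 : ∀ x y, β (F4.v • x) (F4.v • y) = F4.w • β x y := fun x y => un (by
    rw [← h_pp, ← h_pp, ← h_zz, show Λ.sw.h = Λ.h from rfl, ← cj_mul', ← cj_mul', ← cj_mul', hβ])
  have a4 : ∀ (a b : F4) x y, β (a • x) (b • y) = (a * b) • β x y := fun a b x y => Prod.ext
    (by simpa using (bil (f := fun a b => (β (a • x) (b • y)).1) (by simp [add_smul, a1]) (by simp [add_smul, a2])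
      (by simp [mul_smul, a3]) a b))
    (by simpa using (bil (f := fun a b => (β (a • x) (b • y)).2) (by simp [add_smul, a1]) (by simp [add_smul, a2])
      (by simp [mul_smul, a3]) a b))
  obtain ⟨s', e1⟩ := uw 1 1
  obtain ⟨s, e2⟩ := wu h1 1 1
  have b1 : β (1, 0) (1, 0) = (1, 0) := un (by simpa [pp, w0] using uu (Λ := Λ) 1 1)
  have b2 : β (1, 0) (0, 1) = (s', 1) := un (by simpa [pp, w0, Lz.u_zero] using e1)
  have b3 : β (0, 1) (1, 0) = (s, 1) := un (by simpa [pp, w0, Lz.u_zero, sv] using e2)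
  have ex : ∀ x y : F4 × F4, β x y = (x.1 * y.1) • (1, 0) + (x.1 * y.2) • (s', 1) + ((x.2 * y.1) • (s, 1) +
      (x.2 * y.2) • β (0, 1) (0, 1)) := fun x y => by
    have e : ∀ x : F4 × F4, x = x.1 • (1, 0) + x.2 • (0, 1) := fun x => by simp
    conv_lhs => rw [e x, e y]
    rw [a1, a2, a2, a4, a4, a4, a4, b1, b2, b3]
  have k : ∀ r ∈ Λ.R, Λ.lam r = 0 ∨ Λ.lam r = (β (0, 1) (0, 1)).2 + s + s' := fun r hr => by
    have := un (x := (0 + Λ.lam r * 1, 1)) (y := (0 + Λ.sw.lam r * 1, 1)) (by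
      rw [← r_pp Λ hr (0, 1), ← r_pp Λ.sw hr (0, 1), ← cj_mul', hβ, cj_mul', cj_mul', r_zz Λ hr])
    have := congrArg Prod.fst ((ex _ _).symm.trans this)
    simp only [show Λ.sw.lam r = Λ.lam r from rfl, Prod.fst_add, Prod.smul_fst, smul_eq_mul] at this
    generalize (β (0, 1) (0, 1)).1 = p, (β (0, 1) (0, 1)).2 = q, Λ.lam r = m at this ⊢
    clear * - this
    decide +revert
  obtain ⟨r0, h0, l0⟩ := Λ.lam_one
  have q1 := (k r0 h0).resolve_left (l0 ▸ one_ne_zero)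
  refine ⟨s, s', (β (0, 1) (0, 1)).1 + s * s', fun r hr => (k r hr).imp_right (·.trans (q1.symm.trans l0)),
    fun x y => ?_⟩
  rw [hβ, ex]
  congr 2
  rw [l0] at q1
  refine Prod.ext ?_ ?_ <;> simp only [Prod.fst_add, Prod.smul_fst, Prod.snd_add, Prod.smul_snd, smul_eq_mul]
  · linear_combination add_self (x.1 * s' * y.2) + add_self (s * x.2 * y.1) + add_self (s * x.2 * s' * y.2)
  · linear_combination -x.2 * y.2 * q1

/-- transport along a ring isomorphism -/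
def map {A B : Type} [CommRing A] [CommRing B] (Λ : Zs G A) (e : A ≃+* B) : Zs G B :=
  { Λ.toEl with
    σ := e.symm.trans (Λ.σ.trans e), ι := e.toRingHom.comp Λ.ι, m := e Λ.m
    σι := fun p => by simp [Λ.σι]
    σm := by simp [Λ.σm]
    bas := by convert e.bijective.comp Λ.bas using 1; funext p; simp
    t := Λ.t, t1 := Λ.t1, memR := Λ.memR
    φ := fun a b c => Λ.φ (e.symm a) (e.symm b) (e.symm c)
    φ_mul := fun _ _ _ _ _ _ => by simp [Λ.φ_mul]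
    φ_inj := fun h => by simpa using Λ.φ_inj h
    tφ := fun _ _ _ => by simp [Λ.tφ]
    φu := fun _ _ _ => by simp [Λ.φu]
    max1 := fun g h1 h2 h3 => let ⟨a, c, k⟩ := Λ.max1 g h1 h2 h3; ⟨e a, e c, by simpa using k⟩
    max2 := fun g h1 h2 h3 => let ⟨a, c, k⟩ := Λ.max2 g h1 h2 h3; ⟨e a, e c, by simpa using k⟩ }

theorem heis {q q' p p' z z' d : G} (h : p * q' = q' * p * d) (c1 : Commute q' z) (c2 : Commute p' z)
    (c3 : Commute p' d) : q * p * z * (q' * p' * z') = q * q' * (p * p') * (d * z * z') :=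
  calc _ = q * p * (z * q') * p' * z' := by group
    _ = q * (p * q') * (z * p') * z' := by rw [← c1.eq]; group
    _ = q * q' * p * (d * p') * z * z' := by rw [h, ← c2.eq]; group
    _ = _ := by rw [← c3.eq]; group

theorem mx {t g : G} (ht : ∀ r, r ∈ Λ.R ↔ r = 1 ∨ r = t) (h1 : ∃ k : ℕ, g ^ 2 ^ k = 1)
    (h2 : ∀ a c, g * Λ.u a 0 c = Λ.u a 0 c * g) (h3 : ∃ a c, g * t * g⁻¹ = t * Λ.u a 0 c) :
    ∃ x y, g = pp Λ x * zz Λ y ∨ g = t * (pp Λ x * zz Λ y) := by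
  obtain ⟨r, hr, a, c, a', c', rfl⟩ := (Λ.s1.mem g).1 (Λ.s1.max g h1 h2 fun r hr => by
    rcases (ht r).1 hr with rfl | rfl
    exacts [⟨0, 0, by simp [Λ.u_zero]⟩, h3])
  have : Λ.w1 a * (Λ.y c * Λ.u a' 0 c') = pp Λ (a', a) * zz Λ (c', c) := by
    rw [pp, zz, Λ.yu, ← mul_assoc, Λ.w1_v, ← mul_assoc, mul_assoc (Λ.u a' 0 0), Λ.w1_v, ← mul_assoc, Λ.u_mul_z, zero_add]
  refine ⟨(a', a), (c', c), ?_⟩
  rw [mul_assoc, mul_assoc, this]
  exact ((ht r).1 hr).imp (fun e => by rw [e, one_mul]) fun e => by rw [e]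

end Z0

open Z0 in
theorem Co.exists_Zs (Λ : Co G) (h1 : Λ.k1 = 0) (h2 : Λ.k2 = 0) :
    ∃ b, ∃ Λ' : Zs G (QuadraticAlgebra F4 b 1), Λ'.ι = algebraMap _ _ ∧ Λ'.m = QuadraticAlgebra.omega := by
  obtain ⟨s, s', b, hl, hc⟩ := exists_β h1 h2
  obtain ⟨t, ht, l1⟩ := Λ.lam_one
  have mR : ∀ r, r ∈ Λ.R ↔ r = 1 ∨ r = t := fun r => ⟨fun hr => (hl r hr).imp (Λ.lam_inj r hr)
    fun e => Λ.lam_eq hr ht (e.trans l1.symm), fun e => e.elim (· ▸ one_mem _) (· ▸ ht)⟩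
  have p0 : ∀ Λ : Co G, pp Λ 0 = 1 := fun Λ => by simpa using pp_add Λ 0 0
  let φ : QuadraticAlgebra F4 b 1 → QuadraticAlgebra F4 b 1 → QuadraticAlgebra F4 b 1 → G := fun a b c =>
    pp Λ.sw (b.re + s' * b.im, b.im) * pp Λ (a.re + s * a.im, a.im) * zz Λ (c.re, c.im)
  have mul : ∀ a b c a' b' c', φ a b c * φ a' b' c' = φ (a + a') (b + b') (c + c' + a * b') := by
    intro a b c a' b' c'
    simp only [φ]
    rw [heis (hc (a.re, a.im) (b'.re, b'.im)) (sw_zz Λ (c.re, c.im) ▸ pp_zz Λ.sw h2 _ _) (pp_zz Λ h1 ..)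
      (pp_zz Λ h1 ..), pp_add, pp_add, zz_add, zz_add]
    congr 2
    · congr 1; ext <;> simp; ring
    · congr 1; ext <;> simp; ring
    · ext <;> simp <;> ring
  have tφ : ∀ a b c, t * φ a b c * t⁻¹ = φ (star a) (star b) (star c) := fun a b c => by
    simp only [φ, cj_mul', r_pp Λ ht, r_pp Λ.sw ht, r_zz Λ ht, show Λ.sw.lam t = 1 from l1, l1]
    simp [show ∀ a : F4, -a = a from fun _ => rfl, add_right_comm]
  have el : ∀ a b c, φ ⟨a, 0⟩ ⟨b, 0⟩ c = Λ.el 1 a b c.re c.im := fun a b c => by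
    simp [φ, pp, w0, zz, Co.el, show Λ.sw.u b 0 0 = Λ.u 0 b 0 from Λ.toLz.sw_v b 0, Λ.u_mul, ← mul_assoc]
  have tw : ∀ a : QuadraticAlgebra F4 b 1, a + a = 0 := fun a => by ext <;> simp [add_self]
  have st : ∀ a : QuadraticAlgebra F4 b 1, a + star a = ⟨a.im, 0⟩ := fun a => by
    ext <;> simp [← add_assoc, add_self]
  have one : ∀ {a b c}, φ a b c = 1 → a = 0 ∧ b = 0 ∧ c = 0 := fun {a b c} e => by
    have k := mul a b c (star a) (star b) (star c)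
    rw [← tφ, e, st, st, el, mul_one, mul_inv_cancel, mul_one] at k
    obtain ⟨-, k1, k2, -⟩ := Λ.el_inj (one_mem _) (one_mem _) (Λ.el_one.trans k)
    obtain ⟨a, a'⟩ := a
    obtain ⟨b, b'⟩ := b
    obtain rfl : 0 = a' := k1
    obtain rfl : 0 = b' := k2
    rw [el] at e
    obtain ⟨-, rfl, rfl, k3, k4⟩ := Λ.el_inj (one_mem _) (one_mem _) (e.trans Λ.el_one.symm)
    exact ⟨rfl, rfl, QuadraticAlgebra.ext k3 k4⟩
  refine ⟨b, { Λ.toEl with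
    σ := starRingAut, ι := algebraMap _ _, m := .omega, t := t, memR := mR, φ := φ, φ_mul := mul, tφ := tφ
    σι := fun p => by ext <;> simp
    σm := by ext <;> rfl
    bas := ⟨fun p q e => by simpa [QuadraticAlgebra.ext_iff, Prod.ext_iff] using e,
      fun x => ⟨(x.re, x.im), by ext <;> simp⟩⟩
    t1 := fun e => by rw [e, Λ.lam_1] at l1; exact zero_ne_one l1
    φ_inj := fun {a b c a' b' c'} e => ?_
    φu := fun a b c => (el a b _).trans (Λ.el_u ..)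
    max1 := fun g k1 k2 k3 => ?_
    max2 := fun g k1 k2 k3 => ?_ }, rfl, rfl⟩
  · have z : φ 0 0 0 = 1 := (el 0 0 0).trans Λ.el_one
    have k := mul a b c a' b' (c' + a' * b')
    rw [e, mul, tw, tw, ← add_assoc, tw, zero_add, tw, z] at k
    obtain ⟨k1, k2, k3⟩ := one k.symm
    have i : ∀ {x y : QuadraticAlgebra F4 _ 1}, x + y = 0 → x = y := fun {x y} e => by
      rw [← add_zero x, ← tw y, ← add_assoc, e, zero_add]
    obtain rfl := i k1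
    exact ⟨rfl, i k2, i (by rw [← k3, add_assoc, add_assoc, tw, add_zero])⟩
  · obtain ⟨x, y, e⟩ := mx mR k1 k2 k3
    exact ⟨⟨x.1 + s * x.2, x.2⟩, ⟨y.1, y.2⟩, by simpa [φ, add_assoc, add_self, show pp Λ.sw (0, 0) = 1 from p0 _] using e⟩
  · have sv : ∀ b c, Λ.sw.u b 0 c = Λ.u 0 b c := Λ.toLz.sw_v
    obtain ⟨x, y, e⟩ := mx (Λ := Λ.sw) mR k1 (by simpa only [sv] using k2) (by simpa only [sv] using k3)
    exact ⟨⟨x.1 + s' * x.2, x.2⟩, ⟨y.1, y.2⟩, by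
      simpa [φ, add_assoc, add_self, show pp Λ (0, 0) = 1 from p0 _, sw_zz] using e⟩

omit [Finite G] in
theorem Zs.toProd {b : F4} (hb : b = 0 ∨ b = 1) (Λ : Zs G (QuadraticAlgebra F4 b 1)) (h1 : Λ.ι = algebraMap _ _)
    (h2 : Λ.m = QuadraticAlgebra.omega) :
    ∃ Λ' : Zs G (F4 × F4), (∀ p, Λ'.σ p = p.swap) ∧ ∀ a, Λ'.ι a = (a, a) := by
  obtain ⟨ρ, hρ⟩ : ∃ ρ : F4, ρ * ρ = b + ρ := by rcases hb with rfl | rfl; exacts [⟨0, by decide⟩, ⟨F4.w, by decide⟩]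
  let e : QuadraticAlgebra F4 b 1 ≃+* F4 × F4 :=
    { toFun := fun x => (x.re + ρ * x.im, x.re + (ρ + 1) * x.im)
      invFun := fun p => ⟨p.1 + ρ * (p.1 + p.2), p.1 + p.2⟩
      left_inv := fun ⟨x, y⟩ => by ext <;> dsimp only <;> (clear * -; decide +revert)
      right_inv := fun ⟨x, y⟩ => by ext <;> dsimp only <;> (clear * -; decide +revert)
      map_mul' := fun ⟨x, y⟩ ⟨x', y'⟩ => by
        ext <;> simp
        · linear_combination -y * y' * hρ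
        · linear_combination -y * y' * hρ - add_self (ρ * y * y')
      map_add' := fun x y => by ext <;> simp <;> ring }
  refine ⟨Z0.map Λ e, fun p => ?_, fun a => by simp [Z0.map, h1, e]⟩
  obtain ⟨x, rfl⟩ := e.surjective p
  obtain ⟨⟨p, q⟩, rfl⟩ := Λ.bas.2 x
  change e (Λ.σ (e.symm _)) = _
  rw [e.symm_apply_apply, map_add, map_mul, Λ.σι, Λ.σι, Λ.σm, h1, h2]
  ext <;> simp [e] <;> (clear * -; decide +revert)

end CL.SZ4
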