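import Cfsg.Agent.SPOR.F4
import Cfsg.Agent.TECH.SylIn

/-!
# A standard subgroup `L ≅ L₃(4)`: definitions and the basic API

`Lz` : `L` with Sylow 2-subgroup `U = {u a b c}`, `V₁ = {u a 0 c}`, `V₂ = {u 0 b c}`, `Y = {u 0 0 c}`.
`St` : `K = C(L)` is tightly embedded, `N = N(L)`.
`El` : a Sylow 2-subgroup `R` of `K` is elementary abelian and `N(R U) ≰ N`.
`Co` : the two groups `P₁`, `P₂` of order `2⁸ |R|` in coordinates.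
`sw` exchanges the two sides, `cj` conjugates, `sc` rescales.
-/

set_option autoImplicit false

namespace CL.SZ4

open Subgroup CL.MSS

universe u

theorem add_self (a : F4) : a + a = 0 := by revert a; decide

/-- the identity or the Frobenius map -/
def fr (σ : Bool) (a : F4) : F4 := cond σ (a * a) a

/-- the group `L₃(4)` inside `G` -/
structure Lz (G : Type u) [Group G] where
  L : Subgroup G
  u : F4 → F4 → F4 → G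
  h : G
  n : Bool → G
  uL : ∀ a b c, u a b c ∈ L
  hL : h ∈ L
  nL : ∀ i, n i ∈ L
  u_mul : ∀ a b c a' b' c', u a b c * u a' b' c' = u (a + a') (b + b') (c + c' + a * b')
  u_inj : ∀ {a b c a' b' c'}, u a b c = u a' b' c' → a = a' ∧ b = b' ∧ c = c'
  hu : ∀ a b c, h * u a b c * h⁻¹ = u (F4.v * a) (F4.v * b) (F4.w * c)
  h3 : h * h * h = 1
  n0 : ∀ a c, n false * u a 0 c * (n false)⁻¹ = u c 0 a
  n1 : ∀ b c, n true * u 0 b c * (n true)⁻¹ = u 0 c b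
  nh : ∀ i, n i * h * (n i)⁻¹ = h * h
  gen : ∀ X : Subgroup G, (∀ a b c, u a b c ∈ X) → (∀ i a b c, n i * u a b c * (n i)⁻¹ ∈ X) → L ≤ X
  cenL : ∀ g ∈ L, ∀ c, c ≠ 0 → g * u 0 0 c = u 0 0 c * g → ∃ a b d, g = u a b d
  syl : ∀ P ≤ L, IsPGroup 2 P → (∀ a b c, u a b c ∈ P) → ∀ g ∈ P, ∃ a b c, g = u a b c
  LK : ∀ g ∈ L, g ∈ centralizer (L : Set G) → g = 1

variable {G : Type u} [Group G]

theorem cj_mul' (g a b : G) : g * (a * b) * g⁻¹ = g * a * g⁻¹ * (g * b * g⁻¹) := by group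
theorem cj_cj (g k a : G) : g * (k * a * k⁻¹) * g⁻¹ = g * k * a * (g * k)⁻¹ := by group
theorem cj_of_comm {g a : G} (h : g * a = a * g) : g * a * g⁻¹ = a := by rw [h, mul_inv_cancel_right]
theorem comm_of_cj {g a : G} (h : g * a * g⁻¹ = a) : g * a = a * g := eq_mul_of_mul_inv_eq h
theorem sq_cj (g : G) {a : G} (h : a * a = 1) : g * a * g⁻¹ * (g * a * g⁻¹) = 1 := by
  rw [← cj_mul', h]; group
theorem cm_cj (g : G) {a b : G} (h : a * b = b * a) :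
    g * a * g⁻¹ * (g * b * g⁻¹) = g * b * g⁻¹ * (g * a * g⁻¹) := by rw [← cj_mul', h, cj_mul']
theorem cj_ne (g : G) {a : G} (h : a ≠ 1) : g * a * g⁻¹ ≠ 1 := by simpa using h
theorem inv_of_sq {a : G} (h : a * a = 1) : a⁻¹ = a := inv_eq_of_mul_eq_one_right h

theorem pg_zpowers {g : G} {n : ℕ} (e : g ^ 2 ^ n = 1) : IsPGroup 2 (zpowers g) := by
  rintro ⟨_, m, rfl⟩
  refine ⟨n, Subtype.ext ?_⟩
  simp only [coe_pow, coe_one]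
  rw [← zpow_natCast, ← zpow_mul, mul_comm, zpow_mul, zpow_natCast, e, one_zpow]

theorem pg_of_sq {X : Subgroup G} (e : ∀ x ∈ X, x * x = 1) : IsPGroup 2 X := fun x =>
  ⟨1, Subtype.ext (by simpa [pow_two] using e x x.2)⟩

theorem comm_of_sq {X : Subgroup G} (e : ∀ x ∈ X, x * x = 1) {x y : G} (hx : x ∈ X) (hy : y ∈ X) :
    x * y = y * x := by
  calc x * y = x * (x * y * (x * y)) * y := by rw [e _ (mul_mem hx hy)]; group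
    _ = (x * x) * (y * x) * (y * y) := by group
    _ = y * x := by rw [e x hx, e y hy]; group

theorem pow_two_of_mem {P : Subgroup G} (hP : IsPGroup 2 P) {g : G} (hg : g ∈ P) :
    ∃ n : ℕ, g ^ 2 ^ n = 1 := (hP ⟨g, hg⟩).imp fun _ e => congrArg Subtype.val e

namespace Lz

variable (Γ : Lz G)

/-- `C(L)` -/
abbrev K : Subgroup G := centralizer (Γ.L : Set G)
/-- `N(L)` -/
abbrev N : Subgroup G := normalizer (Γ.L : Set G)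
/-- the central elements of `U` -/
abbrev z (c : F4) : G := Γ.u 0 0 c

theorem u_zero : Γ.u 0 0 0 = 1 := by
  have := Γ.u_mul 0 0 0 0 0 0
  simpa using this

theorem u_congr {a b c a' b' c' : F4} (h1 : a = a') (h2 : b = b') (h3 : c = c') :
    Γ.u a b c = Γ.u a' b' c' := by rw [h1, h2, h3]

theorem u_inv (a b c : F4) : (Γ.u a b c)⁻¹ = Γ.u a b (c + a * b) := by
  rw [inv_eq_iff_mul_eq_one, Γ.u_mul, ← Γ.u_zero]
  exact Γ.u_congr (add_self a) (add_self b) (by revert a b c; decide)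

/-- the Sylow 2-subgroup of `L` -/
def U : Subgroup G where
  carrier := {g | ∃ a b c, g = Γ.u a b c}
  one_mem' := ⟨0, 0, 0, Γ.u_zero.symm⟩
  mul_mem' := by rintro _ _ ⟨a, b, c, rfl⟩ ⟨a', b', c', rfl⟩; exact ⟨_, _, _, Γ.u_mul ..⟩
  inv_mem' := by rintro _ ⟨a, b, c, rfl⟩; exact ⟨_, _, _, Γ.u_inv a b c⟩

/-- the first elementary abelian subgroup of order 16 (the second one is `Γ.sw.V`) -/
def V : Subgroup G where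
  carrier := {g | ∃ a c, g = Γ.u a 0 c}
  one_mem' := ⟨0, 0, Γ.u_zero.symm⟩
  mul_mem' := by rintro _ _ ⟨a, c, rfl⟩ ⟨a', c', rfl⟩; exact ⟨_, _, by rw [Γ.u_mul, add_zero]⟩
  inv_mem' := by rintro _ ⟨a, c, rfl⟩; exact ⟨_, _, Γ.u_inv a 0 c⟩

/-- the centre of `U` -/
def Y : Subgroup G where
  carrier := {g | ∃ c, g = Γ.z c}
  one_mem' := ⟨0, Γ.u_zero.symm⟩
  mul_mem' := by rintro _ _ ⟨c, rfl⟩ ⟨c', rfl⟩; exact ⟨_, by rw [Γ.u_mul, add_zero]⟩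
  inv_mem' := by rintro _ ⟨c, rfl⟩; exact ⟨_, Γ.u_inv 0 0 c⟩

theorem mem_U {g : G} : g ∈ Γ.U ↔ ∃ a b c, g = Γ.u a b c := Iff.rfl
theorem mem_V {g : G} : g ∈ Γ.V ↔ ∃ a c, g = Γ.u a 0 c := Iff.rfl
theorem mem_Y {g : G} : g ∈ Γ.Y ↔ ∃ c, g = Γ.z c := Iff.rfl
theorem u_mem (a b c : F4) : Γ.u a b c ∈ Γ.U := ⟨a, b, c, rfl⟩
theorem v_mem (a c : F4) : Γ.u a 0 c ∈ Γ.V := ⟨a, c, rfl⟩
theorem z_mem (c : F4) : Γ.z c ∈ Γ.Y := ⟨c, rfl⟩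
theorem Y_le_V : Γ.Y ≤ Γ.V := by rintro _ ⟨c, rfl⟩; exact ⟨0, c, rfl⟩
theorem V_le_U : Γ.V ≤ Γ.U := by rintro _ ⟨a, c, rfl⟩; exact ⟨a, 0, c, rfl⟩
theorem U_le_L : Γ.U ≤ Γ.L := by rintro _ ⟨a, b, c, rfl⟩; exact Γ.uL a b c
theorem L_le_N : Γ.L ≤ Γ.N := le_normalizer
theorem K_le_N : Γ.K ≤ Γ.N := centralizer_le_normalizer _
theorem z_mul (c d : F4) : Γ.z c * Γ.z d = Γ.z (c + d) := by simp [Γ.u_mul]
theorem z_sq (c : F4) : Γ.z c * Γ.z c = 1 := by rw [z_mul, add_self]; exact Γ.u_zero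
theorem z_inv (c : F4) : (Γ.z c)⁻¹ = Γ.z c := inv_of_sq (Γ.z_sq c)
theorem u_eq_one {a b c : F4} : Γ.u a b c = 1 ↔ a = 0 ∧ b = 0 ∧ c = 0 :=
  ⟨fun e => Γ.u_inj (e.trans Γ.u_zero.symm), fun ⟨e, e', e''⟩ => by rw [e, e', e'', Γ.u_zero]⟩
theorem z_eq_one {c : F4} : Γ.z c = 1 ↔ c = 0 := by simp [u_eq_one]
theorem z_inj {c d : F4} (e : Γ.z c = Γ.z d) : c = d := (Γ.u_inj e).2.2
theorem u_mul_z (a b c d : F4) : Γ.u a b c * Γ.z d = Γ.u a b (c + d) := by simp [Γ.u_mul]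
theorem z_mul_u (a b c d : F4) : Γ.z d * Γ.u a b c = Γ.u a b (c + d) := by simp [Γ.u_mul, add_comm]
theorem z_comm (a b c d : F4) : Γ.z d * Γ.u a b c = Γ.u a b c * Γ.z d := by rw [u_mul_z, z_mul_u]
theorem u_sq (a b c : F4) : Γ.u a b c * Γ.u a b c = Γ.z (a * b) := by
  rw [Γ.u_mul, add_self, add_self, add_self, zero_add]
theorem v_mul (a c a' c' : F4) : Γ.u a 0 c * Γ.u a' 0 c' = Γ.u (a + a') 0 (c + c') := by simp [Γ.u_mul]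
theorem v_sq (a c : F4) : Γ.u a 0 c * Γ.u a 0 c = 1 := by rw [u_sq, mul_zero]; exact Γ.u_zero
theorem v_comm (a c a' c' : F4) : Γ.u a 0 c * Γ.u a' 0 c' = Γ.u a' 0 c' * Γ.u a 0 c := by
  rw [v_mul, v_mul, add_comm a, add_comm c]
theorem u_conj (a b c a' b' c' : F4) :
    Γ.u a b c * Γ.u a' b' c' * (Γ.u a b c)⁻¹ = Γ.u a' b' (c' + a * b' + a' * b) := by
  rw [mul_inv_eq_iff_eq_mul, Γ.u_mul, Γ.u_mul]
  exact Γ.u_congr (add_comm _ _) (add_comm _ _) (by linear_combination -add_self (a' * b))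
theorem u_comm_iff {a b c a' b' c' : F4} :
    Γ.u a b c * Γ.u a' b' c' = Γ.u a' b' c' * Γ.u a b c ↔ a * b' = a' * b := by
  rw [Γ.u_mul, Γ.u_mul, add_comm a', add_comm b', add_comm c']
  exact ⟨fun e => add_left_cancel (Γ.u_inj e).2.2, fun e => by rw [e]⟩
theorem sq_V {g : G} (hg : g ∈ Γ.V) : g * g = 1 := by obtain ⟨a, c, rfl⟩ := hg; exact Γ.v_sq a c
theorem hz (c : F4) : Γ.h * Γ.z c * Γ.h⁻¹ = Γ.z (F4.w * c) := by simp [Γ.hu]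
theorem h_inv : Γ.h⁻¹ = Γ.h * Γ.h := inv_eq_of_mul_eq_one_left Γ.h3

theorem card_U : Nat.card Γ.U = 64 := by
  rw [← Nat.card_congr (Equiv.ofBijective
    (fun p : F4 × F4 × F4 => (⟨Γ.u p.1 p.2.1 p.2.2, Γ.u_mem _ _ _⟩ : Γ.U))
    ⟨fun p q e => let ⟨h1, h2, h3⟩ := Γ.u_inj (congrArg Subtype.val e); Prod.ext h1 (Prod.ext h2 h3),
      fun ⟨_, a, b, c, e⟩ => ⟨(a, b, c), Subtype.ext e.symm⟩⟩)]
  simp [F4.card_eq]
theorem card_V : Nat.card Γ.V = 16 := by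
  rw [← Nat.card_congr (Equiv.ofBijective (fun p : F4 × F4 => (⟨Γ.u p.1 0 p.2, Γ.v_mem _ _⟩ : Γ.V))
    ⟨fun p q e => let ⟨h1, _, h3⟩ := Γ.u_inj (congrArg Subtype.val e); Prod.ext h1 h3,
      fun ⟨_, a, c, e⟩ => ⟨(a, c), Subtype.ext e.symm⟩⟩)]
  simp [F4.card_eq]
theorem card_Y : Nat.card Γ.Y = 4 := by
  rw [← Nat.card_congr (Equiv.ofBijective (fun p : F4 => (⟨Γ.z p, Γ.z_mem _⟩ : Γ.Y))
    ⟨fun p q e => Γ.z_inj (congrArg Subtype.val e), fun ⟨_, b, e⟩ => ⟨b, Subtype.ext e.symm⟩⟩)]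
  simp [F4.card_eq]
theorem pU : IsPGroup 2 Γ.U := IsPGroup.of_card (n := 6) Γ.card_U
theorem sylU : SylIn 2 Γ.U Γ.L :=
  ⟨Γ.U_le_L, Γ.pU, fun P hP hU hA => le_antisymm (Γ.syl P hA hP fun a b c => hU (Γ.u_mem a b c)) hU⟩

theorem comm {k a : G} (hk : k ∈ Γ.K) (ha : a ∈ Γ.L) : k * a = a * k := (hk a ha).symm
theorem conj_of_K {k a : G} (hk : k ∈ Γ.K) (ha : a ∈ Γ.L) : k * a * k⁻¹ = a := cj_of_comm (Γ.comm hk ha)
theorem conj_K {k a : G} (hk : k ∈ Γ.K) (ha : a ∈ Γ.L) : a * k * a⁻¹ = k := cj_of_comm (Γ.comm hk ha).symm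
theorem N_conj_L {n a : G} (hn : n ∈ Γ.N) (ha : a ∈ Γ.L) : n * a * n⁻¹ ∈ Γ.L :=
  (mem_normalizer_iff.1 hn a).1 ha
theorem N_conj_K {n k : G} (hn : n ∈ Γ.N) (hk : k ∈ Γ.K) : n * k * n⁻¹ ∈ Γ.K := fun a ha => by
  have := hk _ (Γ.N_conj_L (inv_mem hn) ha)
  calc _ = n * (n⁻¹ * a * n⁻¹⁻¹ * k) * n⁻¹ := by group
    _ = _ := by rw [this]; group
theorem N_le_NK : Γ.N ≤ normalizer (Γ.K : Set G) := fun n hn => mem_normalizer_iff.2 fun k =>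
  ⟨Γ.N_conj_K hn, fun e => by simpa [mul_assoc] using Γ.N_conj_K (inv_mem hn) e⟩
theorem ext {k k' a a' : G} (hk : k ∈ Γ.K) (hk' : k' ∈ Γ.K) (ha : a ∈ Γ.L) (ha' : a' ∈ Γ.L)
    (e : k * a = k' * a') : k = k' ∧ a = a' := by
  have e1 : a' * a⁻¹ = k'⁻¹ * k := by rw [eq_inv_mul_iff_mul_eq, ← mul_assoc, ← e]; group
  have e2 := Γ.LK _ (mul_mem ha' (inv_mem ha)) (e1 ▸ mul_mem (inv_mem hk') hk)
  exact ⟨(inv_mul_eq_one.1 (e1 ▸ e2)).symm, (mul_inv_eq_one.1 e2).symm⟩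
theorem mul_mul {k' a : G} (k a' : G) (hk' : k' ∈ Γ.K) (ha : a ∈ Γ.L) :
    k * a * (k' * a') = k * k' * (a * a') := by
  rw [mul_assoc, ← mul_assoc a, ← Γ.comm hk' ha]; group
theorem sq_iff {k a : G} (hk : k ∈ Γ.K) (ha : a ∈ Γ.L) : k * a * (k * a) = 1 ↔ k * k = 1 ∧ a * a = 1 := by
  rw [Γ.mul_mul k a hk ha]
  exact ⟨fun e => Γ.ext (mul_mem hk hk) (one_mem _) (mul_mem ha ha) (one_mem _) (e.trans (mul_one 1).symm),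
    fun e => by rw [e.1, e.2, mul_one]⟩
theorem comm_iff {k k' a a' : G} (hk : k ∈ Γ.K) (hk' : k' ∈ Γ.K) (ha : a ∈ Γ.L) (ha' : a' ∈ Γ.L) :
    k * a * (k' * a') = k' * a' * (k * a) ↔ k * k' = k' * k ∧ a * a' = a' * a := by
  rw [Γ.mul_mul k a' hk' ha, Γ.mul_mul k' a hk ha']
  exact ⟨Γ.ext (mul_mem hk hk') (mul_mem hk' hk) (mul_mem ha ha') (mul_mem ha' ha), fun e => by rw [e.1, e.2]⟩
theorem conj_ka {k a g : G} (hk : k ∈ Γ.K) (hg : g ∈ Γ.L) : g * (k * a) * g⁻¹ = k * (g * a * g⁻¹) := by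
  rw [cj_mul', Γ.conj_K hk hg]

theorem mem_sup {R X : Subgroup G} (hR : R ≤ Γ.K) (hX : X ≤ Γ.L) {g : G} :
    g ∈ R ⊔ X ↔ ∃ r ∈ R, ∃ x ∈ X, g = r * x := by
  rw [mem_sup_of_normalizes_right (fun r hr => centralizer_le_normalizer _ (centralizer_le hX (hR hr)))]
  exact ⟨fun ⟨r, hr, x, hx, e⟩ => ⟨r, hr, x, hx, e.symm⟩, fun ⟨r, hr, x, hx, e⟩ => ⟨r, hr, x, hx, e.symm⟩⟩

theorem pS {R X : Subgroup G} (hR : R ≤ Γ.K) (hp : IsPGroup 2 R) (hX : X ≤ Γ.L) (hq : IsPGroup 2 X) :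
    IsPGroup 2 ↥(R ⊔ X) := IsPGroup.to_sup_of_normal_right' hp hq fun _ hr =>
  centralizer_le_normalizer _ (centralizer_le hX (hR hr))

theorem card_sup [Finite G] {R X : Subgroup G} (hR : R ≤ Γ.K) (hX : X ≤ Γ.L) :
    Nat.card ↥(R ⊔ X) = Nat.card R * Nat.card X := by
  rw [← Nat.card_prod]
  refine (Nat.card_congr (Equiv.ofBijective (fun p : R × X =>
    (⟨p.1 * p.2, mul_mem (mem_sup_left p.1.2) (mem_sup_right p.2.2)⟩ : ↥(R ⊔ X))) ⟨fun p q e => ?_, ?_⟩)).symm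
  · have := Γ.ext (hR p.1.2) (hR q.1.2) (hX p.2.2) (hX q.2.2) (congrArg Subtype.val e)
    exact Prod.ext (Subtype.ext this.1) (Subtype.ext this.2)
  · rintro ⟨g, hg⟩
    obtain ⟨r, hr, x, hx, rfl⟩ := (Γ.mem_sup hR hX).1 hg
    exact ⟨(⟨r, hr⟩, ⟨x, hx⟩), rfl⟩

theorem le_of_gen {X : Subgroup G} (h1 : ∀ a b c, Γ.u a b c ∈ X) (h2 : ∀ i, Γ.n i ∈ normalizer (X : Set G)) :
    Γ.L ≤ X := Γ.gen X h1 fun i a b c => (mem_normalizer_iff.1 (h2 i) _).1 (h1 a b c)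

/-- exchange the two sides -/
def sw : Lz G where
  L := Γ.L
  u a b c := Γ.u b a (c + a * b)
  h := Γ.h
  n i := Γ.n (!i)
  uL _ _ _ := Γ.uL ..
  hL := Γ.hL
  nL _ := Γ.nL _
  u_mul a b c a' b' c' := by
    rw [Γ.u_mul]; exact Γ.u_congr rfl rfl (by linear_combination -add_self (a * b'))
  u_inj e := let ⟨h1, h2, h3⟩ := Γ.u_inj e; ⟨h2, h1, by rw [h1, h2] at h3; exact add_right_cancel h3⟩
  hu a b c := by rw [Γ.hu]; exact Γ.u_congr rfl rfl (by revert a b c; decide)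
  h3 := Γ.h3
  n0 a c := by simpa using Γ.n1 a c
  n1 a c := by simpa using Γ.n0 a c
  nh _ := Γ.nh _
  gen X h1 h2 := Γ.gen X (fun a b c => by simpa [add_assoc, add_self] using h1 b a (c + b * a))
    fun i a b c => by simpa [add_assoc, add_self] using h2 (!i) b a (c + b * a)
  cenL g hg c hc e := by
    obtain ⟨a, b, d, rfl⟩ := Γ.cenL g hg c hc (by simpa using e)
    exact ⟨b, a, d + b * a, by simp [add_assoc, add_self]⟩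
  syl P h1 h2 h3 g hg := by
    obtain ⟨a, b, d, rfl⟩ := Γ.syl P h1 h2 (fun a b c => by
      simpa [add_assoc, add_self] using h3 b a (c + b * a)) g hg
    exact ⟨b, a, d + b * a, by simp [add_assoc, add_self]⟩
  LK := Γ.LK

theorem sw_u (a b c : F4) : Γ.sw.u a b c = Γ.u b a (c + a * b) := rfl
@[simp] theorem sw_v (a c : F4) : Γ.sw.u a 0 c = Γ.u 0 a c := by simp [sw_u]
@[simp] theorem sw_v' (b c : F4) : Γ.sw.u 0 b c = Γ.u b 0 c := by simp [sw_u]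
theorem sw_z (c : F4) : Γ.sw.z c = Γ.z c := Γ.sw_v 0 c
theorem u_sw (a b c : F4) : Γ.u a b c = Γ.sw.u b a (c + a * b) := by
  rw [sw_u, add_assoc, mul_comm b a, add_self, add_zero]
theorem sw_sw_u (a b c : F4) : Γ.sw.sw.u a b c = Γ.u a b c := (Γ.u_sw a b c).symm
@[simp] theorem sw_L : Γ.sw.L = Γ.L := rfl
@[simp] theorem sw_h : Γ.sw.h = Γ.h := rfl
@[simp] theorem sw_n (i : Bool) : Γ.sw.n i = Γ.n (!i) := rfl
theorem sw_U : Γ.sw.U = Γ.U := Subgroup.ext fun _ =>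
  ⟨fun ⟨_, _, _, e⟩ => ⟨_, _, _, e⟩, fun ⟨a, b, c, e⟩ => ⟨_, _, _, e.trans (Γ.u_sw a b c)⟩⟩
theorem sw_Y : Γ.sw.Y = Γ.Y := Subgroup.ext fun _ =>
  ⟨fun ⟨c, e⟩ => ⟨c, e.trans (Γ.sw_z c)⟩, fun ⟨c, e⟩ => ⟨c, e.trans (Γ.sw_z c).symm⟩⟩
theorem sw_sw_V : Γ.sw.sw.V = Γ.V := Subgroup.ext fun _ =>
  ⟨fun ⟨a, c, e⟩ => ⟨a, c, e.trans (Γ.sw_sw_u ..)⟩, fun ⟨a, c, e⟩ => ⟨a, c, e.trans (Γ.sw_sw_u ..).symm⟩⟩
theorem mem_V' {g : G} : g ∈ Γ.sw.V ↔ ∃ b c, g = Γ.u 0 b c := by simp [mem_V]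

/-- conjugate -/
def cj (g : G) : Lz G where
  L := g •ᶜ Γ.L
  u a b c := g * Γ.u a b c * g⁻¹
  h := g * Γ.h * g⁻¹
  n i := g * Γ.n i * g⁻¹
  uL _ _ _ := conj_mem_cj (Γ.uL ..)
  hL := conj_mem_cj Γ.hL
  nL _ := conj_mem_cj (Γ.nL _)
  u_mul a b c a' b' c' := by rw [← cj_mul', Γ.u_mul]
  u_inj e := Γ.u_inj (by simpa using e)
  hu a b c := by rw [← Γ.hu]; group
  h3 := by rw [← cj_mul', ← cj_mul', Γ.h3]; group
  n0 a c := by rw [← Γ.n0 a c]; group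
  n1 a c := by rw [← Γ.n1 a c]; group
  nh i := by rw [← cj_mul' g Γ.h, ← Γ.nh i]; group
  gen X h1 h2 := cj_le_iff.2 (Γ.gen _ (fun a b c => mem_cj.2 (by simpa using h1 a b c))
    fun i a b c => mem_cj.2 (by convert h2 i a b c using 1; group))
  cenL x hx c hc e := by
    obtain ⟨x', hx', rfl⟩ := mem_cj'.1 hx
    rw [← cj_mul', ← cj_mul'] at e
    obtain ⟨a, b, d, rfl⟩ := Γ.cenL x' hx' c hc (by simpa using e)
    exact ⟨a, b, d, rfl⟩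
  syl P h1 h2 h3 x hx := by
    obtain ⟨a, b, d, e⟩ := Γ.syl (g⁻¹ •ᶜ P) (le_cj_iff.1 h1) (isPGroup_cj _ h2)
      (fun a b c => mem_cj.2 (by simpa using h3 a b c)) _ (conj_mem_cj hx)
    exact ⟨a, b, d, by rw [← e]; group⟩
  LK x hx hx' := by
    rw [← cj_centralizer] at hx'
    simpa [mul_assoc, inv_mul_eq_iff_eq_mul] using Γ.LK _ (mem_cj.1 hx) (mem_cj.1 hx')

theorem cj_u (g : G) (a b c : F4) : (Γ.cj g).u a b c = g * Γ.u a b c * g⁻¹ := rfl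
theorem cj_L (g : G) : (Γ.cj g).L = g •ᶜ Γ.L := rfl
theorem cj_K (g : G) : (Γ.cj g).K = g •ᶜ Γ.K := (cj_centralizer g _).symm
theorem cj_N (g : G) : (Γ.cj g).N = g •ᶜ Γ.N := (cj_normalizer g _).symm
theorem cj_U (g : G) : (Γ.cj g).U = g •ᶜ Γ.U := Subgroup.ext fun _ =>
  ⟨fun ⟨_, _, _, e⟩ => e ▸ conj_mem_cj (Γ.u_mem ..), fun h =>
    let ⟨_, ⟨a, b, c, e⟩, e'⟩ := mem_cj'.1 h; ⟨a, b, c, by rw [← e', e]; rfl⟩⟩
theorem cj_V (g : G) : (Γ.cj g).V = g •ᶜ Γ.V := Subgroup.ext fun _ =>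
  ⟨fun ⟨_, _, e⟩ => e ▸ conj_mem_cj (Γ.v_mem ..), fun h =>
    let ⟨_, ⟨a, c, e⟩, e'⟩ := mem_cj'.1 h; ⟨a, c, by rw [← e', e]; rfl⟩⟩
theorem cj_Y (g : G) : (Γ.cj g).Y = g •ᶜ Γ.Y := Subgroup.ext fun _ =>
  ⟨fun ⟨_, e⟩ => e ▸ conj_mem_cj (Γ.z_mem _), fun h =>
    let ⟨_, ⟨c, e⟩, e'⟩ := mem_cj'.1 h; ⟨c, by rw [← e', e]; rfl⟩⟩
theorem mem_cj_K {g x : G} : x ∈ (Γ.cj g).K ↔ g⁻¹ * x * g ∈ Γ.K := by rw [cj_K, mem_cj]
theorem mem_cj_N {g x : G} : x ∈ (Γ.cj g).N ↔ g⁻¹ * x * g ∈ Γ.N := by rw [cj_N, mem_cj]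
theorem cj_L_of {g : G} (h : g ∈ Γ.N) : (Γ.cj g).L = Γ.L := cj_eq_of_mem_normalizer h
theorem cj_K_of {g : G} (h : g ∈ Γ.N) : (Γ.cj g).K = Γ.K := by rw [K, Γ.cj_L_of h]
theorem cj_N_of {g : G} (h : g ∈ Γ.N) : (Γ.cj g).N = Γ.N := by rw [N, Γ.cj_L_of h]

/-- `x` is an involution in a conjugate of `K` -/
def Kp (x : G) : Prop := x * x = 1 ∧ x ≠ 1 ∧ ∃ g, g * x * g⁻¹ ∈ Γ.K
/-- `x` is conjugate to the involutions of `L` -/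
def Ap (x : G) : Prop := IsConj (Γ.z 1) x

theorem Kp.cj {Γ : Lz G} {x : G} (h : Γ.Kp x) (g : G) : Γ.Kp (g * x * g⁻¹) :=
  ⟨sq_cj g h.1, cj_ne g h.2.1, let ⟨k, e⟩ := h.2.2; ⟨k * g⁻¹, by convert e using 1; group⟩⟩
theorem Ap.cj {Γ : Lz G} {x : G} (h : Γ.Ap x) (g : G) : Γ.Ap (g * x * g⁻¹) :=
  IsConj.trans h (isConj_iff.2 ⟨g, rfl⟩)
theorem Ap.sq {Γ : Lz G} {x : G} (h : Γ.Ap x) : x * x = 1 := by
  obtain ⟨g, rfl⟩ := isConj_iff.1 h; exact sq_cj g (Γ.z_sq 1)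
theorem Ap.ne {Γ : Lz G} {x : G} (h : Γ.Ap x) : x ≠ 1 := by
  obtain ⟨g, rfl⟩ := isConj_iff.1 h; exact cj_ne g (mt Γ.z_eq_one.1 one_ne_zero)
theorem sw_Ap {x : G} : Γ.sw.Ap x ↔ Γ.Ap x := by rw [Ap, Ap, sw_z]
theorem sw_Kp {x : G} : Γ.sw.Kp x ↔ Γ.Kp x := Iff.rfl
theorem cj_Ap (g : G) {x : G} : (Γ.cj g).Ap x ↔ Γ.Ap x :=
  ⟨fun h => (isConj_iff.2 ⟨g, rfl⟩).trans h, fun h => (isConj_iff.2 ⟨g, rfl⟩).symm.trans h⟩
theorem cj_Kp (g : G) {x : G} : (Γ.cj g).Kp x ↔ Γ.Kp x :=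
  ⟨fun ⟨h1, h2, k, e⟩ => ⟨h1, h2, g⁻¹ * k, by convert Γ.mem_cj_K.1 e using 1; group⟩,
    fun ⟨h1, h2, k, e⟩ => ⟨h1, h2, g * k, Γ.mem_cj_K.2 (by convert e using 1; group)⟩⟩

/-- `g ∈ K L` -/
def Inn (g : G) : Prop := ∃ k ∈ Γ.K, ∃ l ∈ Γ.L, g = k * l

/-- the action of an element normalising `U` on `U / Y` and on `Y` -/
structure Ty (g : G) (s σ : Bool) (α β : F4) : Prop where
  a0 : α ≠ 0
  b0 : β ≠ 0
  u : ∀ a b c, ∃ d, g * Γ.u a b c * g⁻¹ =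
    cond s (Γ.u (β * fr σ b) (α * fr σ a) d) (Γ.u (α * fr σ a) (β * fr σ b) d)
  z : ∀ c, g * Γ.z c * g⁻¹ = Γ.z (α * β * fr σ c)

/-- `D` and `X` have the same image modulo `K` -/
def Cov (D X : Subgroup G) : Prop :=
  (∀ d ∈ D, ∃ k ∈ Γ.K, ∃ x ∈ X, d = k * x) ∧ ∀ x ∈ X, ∃ d ∈ D, ∃ k ∈ Γ.K, d = k * x

end Lz

/-- `L` is standard and not normal -/
structure St (G : Type u) [Group G] extends Lz G where
  tight : ∀ t ∈ centralizer (L : Set G), t * t = 1 → t ≠ 1 → ∀ g,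
    g * t * g⁻¹ ∈ centralizer (L : Set G) → g ∈ normalizer (L : Set G)
  ncm : ∀ g, ¬ ∀ l ∈ L, g * l * g⁻¹ ∈ centralizer (L : Set G)
  ex : ∃ g, g ∉ normalizer (L : Set G) ∧ ∃ t ∈ centralizer (L : Set G), t * t = 1 ∧ t ≠ 1 ∧
    g * t * g⁻¹ ∈ normalizer (L : Set G)

namespace St

variable (Γ : St G)

/-- exchange the two sides -/
def sw : St G := { Γ.toLz.sw with tight := Γ.tight, ncm := Γ.ncm, ex := Γ.ex }

/-- conjugate -/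
def cj (g : G) : St G :=
  { Γ.toLz.cj g with
    tight := fun t ht t2 t1 x hx => Γ.toLz.mem_cj_N.2 (Γ.tight _ (Γ.toLz.mem_cj_K.1 ht)
      (by simpa using sq_cj g⁻¹ t2) (by simpa using cj_ne g⁻¹ t1) _
      (by convert Γ.toLz.mem_cj_K.1 hx using 1; group))
    ncm := fun x h => Γ.ncm (g⁻¹ * x * g) fun l hl => by
      convert Γ.toLz.mem_cj_K.1 (h _ (conj_mem_cj hl)) using 1; group
    ex := by
      obtain ⟨x, hx, t, ht, t2, t1, e⟩ := Γ.ex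
      exact ⟨g * x * g⁻¹, fun h => hx (by simpa [mul_assoc] using Γ.toLz.mem_cj_N.1 h), g * t * g⁻¹,
        Γ.toLz.mem_cj_K.2 (by simpa [mul_assoc] using ht), sq_cj g t2, cj_ne g t1,
        Γ.toLz.mem_cj_N.2 (by convert e using 1; group)⟩ }

theorem cen_le_N {t g : G} (ht : t ∈ Γ.K) (t2 : t * t = 1) (t1 : t ≠ 1) (e : g * t = t * g) : g ∈ Γ.N :=
  Γ.tight t ht t2 t1 g (by rwa [cj_of_comm e])

/-- two conjugates of `K` sharing an involution are equal -/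
theorem mem_N_of {g t : G} (ht : t ∈ Γ.K) (ht' : t ∈ (Γ.toLz.cj g).K) (t2 : t * t = 1) (t1 : t ≠ 1) :
    g ∈ Γ.N := inv_mem_iff.1 (Γ.tight t ht t2 t1 _ (by simpa using Γ.toLz.mem_cj_K.1 ht'))

end St

/-- `R` is elementary abelian, `C_K(R) = R × O` and `N(R U) ≰ N` -/
structure El (G : Type u) [Group G] extends St G where
  R : Subgroup G
  O : Subgroup G
  RK : SylIn 2 R (centralizer (L : Set G))
  Rsq : ∀ r ∈ R, r * r = 1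
  R1 : R ≠ ⊥
  noA : ∀ t ∈ centralizer (L : Set G), t * t = 1 → ∀ g, g * t * g⁻¹ ∈ L → t = 1
  Oodd : Odd (Nat.card O)
  OK : O ≤ centralizer (L : Set G)
  OR : ∀ o ∈ O, ∀ r ∈ R, o * r = r * o
  cenR : ∀ k ∈ centralizer (L : Set G), (∀ r ∈ R, k * r = r * k) → ∃ r ∈ R, ∃ o ∈ O, k = r * o
  x : G
  xJ : x ∈ normalizer ((R ⊔ toLz.U : Subgroup G) : Set G)
  xN : x ∉ normalizer (L : Set G)

theorem El.not_Ap (Λ : El G) {x : G} (h : Λ.Kp x) : ¬ Λ.Ap x := fun h' => by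
  obtain ⟨h1, h2, g, e⟩ := h
  obtain ⟨k, rfl⟩ := isConj_iff.1 h'
  exact cj_ne g h2 (Λ.noA _ e (sq_cj g h1) (g * k)⁻¹ (by convert Λ.uL 0 0 1 using 1; group))

/-- exchange the two sides -/
def El.sw (Λ : El G) : El G :=
  { Λ.toSt.sw with
    R := Λ.R, O := Λ.O, RK := Λ.RK, Rsq := Λ.Rsq, R1 := Λ.R1, noA := Λ.noA, Oodd := Λ.Oodd, OK := Λ.OK
    OR := Λ.OR, cenR := Λ.cenR, x := Λ.x, xN := Λ.xN
    xJ := (congrArg (fun U : Subgroup G => Λ.x ∈ normalizer ((Λ.R ⊔ U : Subgroup G) : Set G))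
      Λ.toLz.sw_U).mpr Λ.xJ }

/-- 2-elements centralising `U` and `O` and moving `R` -/
structure Ys (Λ : El G) (lam : G → F4) : Prop where
  lam_mul : ∀ r ∈ Λ.R, ∀ r' ∈ Λ.R, lam (r * r') = lam r + lam r'
  lam_inj : ∀ r ∈ Λ.R, lam r = 0 → r = 1
  lam_one : ∃ r ∈ Λ.R, lam r = 1
  ex : ∀ η, ∃ y : G, (∃ k : ℕ, y ^ 2 ^ k = 1) ∧ (∀ a b c, y * Λ.u a b c = Λ.u a b c * y) ∧
    (∀ o ∈ Λ.O, y * o = o * y) ∧ ∀ r ∈ Λ.R, y * r * y⁻¹ = r * Λ.u 0 0 (lam r * η)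

/-- a complement to `Y` in `Y* = [C_P(U), h]` -/
structure Yc (Λ : El G) (lam : G → F4) (y : F4 → G) : Prop where
  y_mul : ∀ a b, y a * y b = y (a + b)
  yu : ∀ η a b c, y η * Λ.u a b c = Λ.u a b c * y η
  hy : ∀ η, Λ.h * y η * Λ.h⁻¹ = y (F4.w * η)
  yr : ∀ η, ∀ r ∈ Λ.R, y η * r * (y η)⁻¹ = r * Λ.u 0 0 (lam r * η)
  yO : ∀ η, ∀ o ∈ Λ.O, y η * o = o * y η

/-- the group `P = O₂(C(V) ∩ N(R V))`, abstractly -/
structure Ps (Λ : El G) (lam : G → F4) (P : Subgroup G) (τ : G → F4 × F4) : Prop where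
  lam_mul : ∀ r ∈ Λ.R, ∀ r' ∈ Λ.R, lam (r * r') = lam r + lam r'
  lam_inj : ∀ r ∈ Λ.R, lam r = 0 → r = 1
  pg : IsPGroup 2 P
  RP : Λ.R ≤ P
  uP : ∀ a c, Λ.u a 0 c ∈ P
  cV : ∀ x ∈ P, ∀ a c, x * Λ.u a 0 c = Λ.u a 0 c * x
  cO : ∀ x ∈ P, ∀ o ∈ Λ.O, x * o = o * x
  act : ∀ x ∈ P, ∀ r ∈ Λ.R, x * r * x⁻¹ = r * Λ.u (lam r * (τ x).1) 0 (lam r * (τ x).2)
  surj : ∀ p, ∃ x ∈ P, τ x = p
  ker : ∀ x ∈ P, τ x = 0 → ∃ r ∈ Λ.R, ∃ a c, x = r * Λ.u a 0 c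
  max : ∀ m : G, (∃ k : ℕ, m ^ 2 ^ k = 1) → (∀ a c, m * Λ.u a 0 c = Λ.u a 0 c * m) →
    (∀ r ∈ Λ.R, ∃ a c, m * r * m⁻¹ = r * Λ.u a 0 c) → m ∈ P

/-- the conjugate of `y a` by the reflection -/
def Lz.w (Γ : Lz G) (y : F4 → G) (a : F4) : G := Γ.n false * y a * (Γ.n false)⁻¹

/-- the group `P` in coordinates -/
structure Sd (Λ : El G) (lam : G → F4) (y : F4 → G) (k : F4) (P : Subgroup G) : Prop where
  pg : IsPGroup 2 P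
  mem : ∀ x, x ∈ P ↔ ∃ r ∈ Λ.R, ∃ a c a' c', x = r * Λ.w y a * y c * Λ.u a' 0 c'
  wy : ∀ a η, Λ.w y a * y η * (Λ.w y a)⁻¹ = y η * Λ.u (k * a * a * η) 0 (k * a * η * η)
  wu : ∀ a b, ∃ r ∈ Λ.R, lam r = k * a * a * b ∧ ∃ c,
    Λ.w y a * Λ.u 0 b 0 * (Λ.w y a)⁻¹ = r * Λ.u (k * a * a * a * b) b c * y (a * b)
  max : ∀ m : G, (∃ k : ℕ, m ^ 2 ^ k = 1) → (∀ a c, m * Λ.u a 0 c = Λ.u a 0 c * m) →
    (∀ r ∈ Λ.R, ∃ a c, m * r * m⁻¹ = r * Λ.u a 0 c) → m ∈ P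

/-- both sides in coordinates -/
structure Co (G : Type u) [Group G] extends El G where
  lam : G → F4
  y : F4 → G
  k1 : F4
  k2 : F4
  P1 : Subgroup G
  P2 : Subgroup G
  lam_mul : ∀ r ∈ R, ∀ r' ∈ R, lam (r * r') = lam r + lam r'
  lam_inj : ∀ r ∈ R, lam r = 0 → r = 1
  lam_one : ∃ r ∈ R, lam r = 1
  y_mul : ∀ a b, y a * y b = y (a + b)
  yu : ∀ η a b c, y η * u a b c = u a b c * y η
  hy : ∀ η, h * y η * h⁻¹ = y (F4.w * η)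
  yr : ∀ η, ∀ r ∈ R, y η * r * (y η)⁻¹ = r * u 0 0 (lam r * η)
  yO : ∀ η, ∀ o ∈ O, y η * o = o * y η
  s1 : Sd toEl lam y k1 P1
  s2 : Sd toEl.sw lam y k2 P2

end CL.SZ4
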