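import Cfsg.Agent.INV.SZ4.RK

/-! No involution of `K` is conjugate into `L`. -/

set_option autoImplicit false

namespace CL.SZ4

open Subgroup CL.MSS

universe u
variable {G : Type u} [Group G] [Finite G]

namespace NoA

open Bas RK

omit [Finite G] in
theorem two_elt {A B : Subgroup G} (h : ∀ s ∈ A, s ∈ B → s * s = 1 → s = 1) {s : G} (hA : s ∈ A) (hB : s ∈ B)
    {n : ℕ} (e : s ^ 2 ^ n = 1) : s = 1 := by
  induction n with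
  | zero => simpa using e
  | succ n ih => exact ih (h _ (pow_mem hA _) (pow_mem hB _) (by rw [← pow_two, ← pow_mul, ← pow_succ, e]))

omit [Finite G] in
theorem cm (Δ : Lz G) {k k' x x' : G} (hk : k ∈ Δ.K) (hk' : k' ∈ Δ.K) (hx : x ∈ Δ.L) (hx' : x' ∈ Δ.L) :
    k * x * (k' * x') * (k * x)⁻¹ * (k' * x')⁻¹ = k * k' * k⁻¹ * k'⁻¹ * (x * x' * x⁻¹ * x'⁻¹) := by
  rw [← cj_cj, Δ.conj_ka hk' hx, cj_mul', Δ.conj_of_K hk (mul_mem (mul_mem hx hx') (inv_mem hx)), mul_inv_rev,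
    mul_assoc, ← mul_assoc _ x'⁻¹, ← Δ.comm (inv_mem hk') (mul_mem (mul_mem (mul_mem hx hx') (inv_mem hx))
    (inv_mem hx')), ← mul_assoc]

omit [Finite G] in
theorem u_cm (Γ : Lz G) (a b c a' b' c' : F4) :
    Γ.u a b c * Γ.u a' b' c' * (Γ.u a b c)⁻¹ * (Γ.u a' b' c')⁻¹ = Γ.z (a * b' + a' * b) := by
  rw [Γ.u_conj, mul_inv_eq_iff_eq_mul, Γ.z_mul_u, add_assoc]

theorem frame' (Γ : Lz G) {Q : Subgroup G} (hQ : IsPGroup 2 Q) (hN : Q ≤ Γ.N) :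
    ∃ l ∈ Γ.L, ∀ D ≤ Q, (∀ d ∈ D, d * d ∈ Γ.K) → 8 * Nat.card ↥(D ⊓ Γ.K) < Nat.card D →
      Nat.card D = 16 * Nat.card ↥(D ⊓ Γ.K) ∧ ((Γ.cj l).Cov D (Γ.cj l).V ∨ (Γ.cj l).sw.Cov D (Γ.cj l).sw.V) := by
  obtain ⟨l, hl, h⟩ := Γ.frame hQ hN
  refine ⟨l, hl, fun D hD h2 h3 => ?_⟩
  have hK := Γ.cj_K_of (Γ.L_le_N hl)
  have := (Γ.cj l).rk (D := D) (by rw [Γ.cj_N_of (Γ.L_le_N hl)]; exact hD.trans hN) (hD.trans h) (by rwa [hK])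
  rw [hK] at this
  exact this.resolve_left (not_le.2 h3)

theorem caseA (Γ : Lz G) (Γ' : St G) {t : G} (ht : t ∈ Γ.K) (t2 : t * t = 1) (tK : t ∉ Γ'.K)
    (hz : Γ.z 1 ∈ Γ'.K) (hw : Γ.z F4.w ∉ Γ'.K) : False := by
  have z1 : Γ.z 1 ≠ 1 := mt Γ.z_eq_one.1 one_ne_zero
  have UN : Γ.U ≤ Γ'.N := by rintro _ ⟨a, b, c, rfl⟩; exact Γ'.cen_le_N hz (Γ.z_sq 1) z1 (Γ.z_comm ..).symm
  have tN : t ∈ Γ'.N := Γ'.cen_le_N hz (Γ.z_sq 1) z1 (Γ.comm ht (Γ.uL ..))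
  have hv : Γ.z F4.v ∉ Γ'.K := fun h => hw (by have := mul_mem hz h; rwa [Γ.z_mul] at this)
  have zK : ∀ c, Γ.z c ∈ Γ'.K → c = 0 ∨ c = 1 := fun c h => by
    cases c
    exacts [.inl rfl, .inr rfl, absurd h hw, absurd h hv]
  have h1 : ∀ k ∈ Γ.K, ∀ a b c, k * Γ.u a b c ∈ Γ'.K → a = 0 ∧ b = 0 := fun k hk a b c h => by
    have key : ∀ a' b', Γ.z (a' * b + a * b') ∈ Γ'.K := fun a' b' => by
      have := Γ'.N_conj_K (UN (Γ.u_mem a' b' 0)) h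
      rwa [Γ.conj_ka hk (Γ.uL ..), Γ.u_conj, add_assoc, ← Γ.u_mul_z, ← mul_assoc, mul_mem_cancel_left h] at this
    constructor
    · by_contra ha
      exact hw (by simpa [mul_div_cancel₀ _ ha] using key 0 (F4.w / a))
    · by_contra hb
      exact hw (by simpa [div_mul_cancel₀ _ hb] using key (F4.w / b) 0)
  have h2 : ∀ x ∈ Γ.U, t * x ∉ Γ'.K := by
    rintro _ ⟨a, b, c, rfl⟩ h
    obtain ⟨rfl, rfl⟩ := h1 t ht a b c h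
    have k0 : ∀ c, t * Γ.z c ∈ Γ'.K → t * Γ.z (c + 1) ∈ Γ'.K := fun c h => by
      rw [← Γ.z_mul, ← mul_assoc]; exact mul_mem h hz
    have k1 : t * Γ.z 0 ∉ Γ'.K := by rwa [Γ.z_eq_one.2 rfl, mul_one]
    have k2 : t * Γ.z F4.w ∈ Γ'.K := by
      cases c
      exacts [absurd h k1, absurd (k0 _ h) k1, h, k0 _ h]
    have k3 : Γ.h ∈ Γ'.N := Γ'.tight _ k2 ((Γ.sq_iff ht (Γ.uL ..)).2 ⟨t2, Γ.z_sq _⟩) (fun e => absurd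
      (Γ.z_eq_one.1 (Γ.ext ht (one_mem _) (Γ.uL ..) (one_mem _) (e.trans (mul_one 1).symm)).2) (by decide)) _
      (by rw [Γ.conj_ka ht Γ.hL, Γ.hz]; exact k0 _ k2)
    exact hw (by simpa [Γ.hz] using Γ'.N_conj_K k3 hz)
  have t1 : t ≠ 1 := fun e => tK (e ▸ one_mem _)
  have ot : orderOf t = 2 := orderOf_eq_prime (by rw [pow_two, t2]) t1
  have tp : ∀ r ∈ zpowers t, r = 1 ∨ r = t := fun r hr => by
    obtain ⟨n, rfl⟩ := mem_powers_iff_mem_zpowers.2 hr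
    rcases Nat.even_or_odd' n with ⟨m, rfl | rfl⟩
    · exact .inl (by simp [pow_mul, pow_two, t2])
    · exact .inr (by simp [pow_succ, pow_mul, t2])
  have tle : zpowers t ≤ Γ.K := zpowers_le.2 ht
  obtain ⟨l, hl, hf⟩ := frame' Γ'.toLz (Γ.pS tle (pg_zpowers (n := 1) (by simpa [pow_two] using t2))
    Γ.U_le_L Γ.pU) (sup_le (zpowers_le.2 tN) UN)
  have cov : ∀ V ≤ Γ.U, (∀ x ∈ V, x * x = 1) → Nat.card V = 16 →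
      (Γ'.toLz.cj l).Cov (zpowers t ⊔ V) (Γ'.toLz.cj l).V ∨
      (Γ'.toLz.cj l).sw.Cov (zpowers t ⊔ V) (Γ'.toLz.cj l).sw.V := fun V hV h3 h4 => by
    refine (hf _ (sup_le_sup_left hV _) (fun d hd => ?_) ?_).2
    · obtain ⟨r, hr, x, hx, rfl⟩ := (Γ.mem_sup tle (hV.trans Γ.U_le_L)).1 hd
      rw [(Γ.sq_iff (tle hr) (Γ.U_le_L (hV hx))).2 ⟨by rcases tp r hr with rfl | rfl <;> simp [t2], h3 x hx⟩]
      exact one_mem _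
    · rw [Γ.card_sup tle (hV.trans Γ.U_le_L), h4, Nat.card_zpowers, ot]
      have : (zpowers t ⊔ V) ⊓ Γ'.K ≤ zpowers (Γ.z 1) := fun d ⟨hd, hd'⟩ => by
        obtain ⟨r, hr, x, hx, rfl⟩ := (Γ.mem_sup tle (hV.trans Γ.U_le_L)).1 hd
        rcases tp r hr with rfl | rfl
        · obtain ⟨a, b, c, rfl⟩ := hV hx
          obtain ⟨rfl, rfl⟩ := h1 1 (one_mem _) a b c hd'
          rw [one_mul] at hd' ⊢
          rcases zK c hd' with rfl | rfl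
          exacts [Γ.u_zero ▸ one_mem _, mem_zpowers _]
        · exact absurd hd' (h2 x (hV hx))
      have h5 := card_le_of_le this
      rw [Nat.card_zpowers, orderOf_eq_prime (p := 2) (by rw [pow_two, Γ.z_sq]) z1] at h5
      omega
  have same : ∀ Δ : Lz G, Δ.K = Γ'.K → Δ.Cov (zpowers t ⊔ Γ.V) Δ.V → Δ.Cov (zpowers t ⊔ Γ.sw.V) Δ.V → False := by
    intro Δ hK c1 c2
    obtain ⟨k, hk, _, ⟨a, c, rfl⟩, e⟩ := c1.1 _ (mem_sup_right (Γ.v_mem 1 0))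
    obtain ⟨k', hk', _, ⟨a', c', rfl⟩, e'⟩ := c2.1 _ (mem_sup_right (Γ.mem_V'.2 ⟨F4.w, 0, rfl⟩))
    have := cm Δ hk hk' (Δ.uL a 0 c) (Δ.uL a' 0 c')
    rw [← e, ← e', u_cm, u_cm, mul_zero, mul_zero, mul_zero, add_zero, add_zero, one_mul, Δ.z_eq_one.2 rfl,
      mul_one] at this
    exact hw (hK ▸ this ▸ mul_mem (mul_mem (mul_mem hk hk') (inv_mem hk)) (inv_mem hk'))
  have diff : ∀ Δ : Lz G, Δ.K = Γ'.K → Δ.Cov (zpowers t ⊔ Γ.V) Δ.V → Δ.Cov (zpowers t ⊔ Γ.sw.V) Δ.sw.V → False := by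
    intro Δ hK c1 c2
    obtain ⟨k, hk, x, hx, e⟩ := c2.1 _ (mem_sup_right (Γ.mem_V'.2 ⟨1, 0, rfl⟩))
    obtain ⟨b, c, rfl⟩ := Δ.mem_V'.1 hx
    have key : ∀ k' ∈ Δ.K, ∀ a c', ∀ r ∈ Γ.K, ∀ a' c'', r * Γ.u a' 0 c'' = k' * Δ.u a 0 c' →
        ∃ κ ∈ Δ.K, Γ.z a' = κ * Δ.z (a * b) := fun k' hk' a c' r hr a' c'' e' => by
      have h3 := cm Δ hk' hk (Δ.uL a 0 c') (Δ.uL 0 b c)
      rw [← e, ← e', u_cm, ← cj_cj, Γ.conj_of_K hr (mul_mem (mul_mem (Γ.uL ..) (Γ.uL ..)) (inv_mem (Γ.uL ..))),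
        u_cm, mul_zero, add_zero, add_zero, mul_one] at h3
      exact ⟨_, mul_mem (mul_mem (mul_mem hk' hk) (inv_mem hk')) (inv_mem hk), h3⟩
    by_cases hb : b = 0
    · obtain ⟨k', hk', _, ⟨a, c', rfl⟩, e'⟩ := c1.1 _ (mem_sup_right (Γ.v_mem F4.w 0))
      obtain ⟨κ, hκ, e2⟩ := key k' hk' a c' 1 (one_mem _) _ _ (by rw [one_mul, e'])
      rw [hb, mul_zero, Δ.z_eq_one.2 rfl, mul_one] at e2
      exact hw (hK ▸ e2 ▸ hκ)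
    · have k1 : ∀ a, ∃ f, ∃ κ ∈ Δ.K, Γ.z f = κ * Δ.z (a * b) := fun a => by
        obtain ⟨d, hd, k', hk', e'⟩ := c1.2 _ (Δ.v_mem a 0)
        obtain ⟨r, hr, _, ⟨a', c'', rfl⟩, rfl⟩ := (Γ.mem_sup tle (Γ.V_le_U.trans Γ.U_le_L)).1 hd
        exact ⟨a', key k' hk' a 0 r (tle hr) a' c'' e'⟩
      have k2 : ∀ f a, ∀ κ ∈ Δ.K, Γ.z f = κ * Δ.z (a * b) → (f = 0 ∨ f = 1) → a = 0 := fun f a κ hκ e' hf => by
        have : Γ.z f ∈ Δ.K := by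
          rw [hK]
          rcases hf with rfl | rfl
          exacts [Γ.z_eq_one.2 rfl ▸ one_mem _, hz]
        rw [e', mul_mem_cancel_left hκ] at this
        exact (mul_eq_zero.1 (Δ.z_eq_one.1 (Δ.LK _ (Δ.uL ..) this))).resolve_right hb
      obtain ⟨f1, κ1, hκ1, e1⟩ := k1 1
      obtain ⟨f2, κ2, hκ2, e2⟩ := k1 F4.w
      have e3 : Γ.z (f1 + f2) = κ1 * κ2 * Δ.z ((1 + F4.w) * b) := by
        rw [← Γ.z_mul, e1, e2, Δ.mul_mul _ _ hκ2 (Δ.uL ..), Δ.z_mul, add_mul]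
      have k3 : ∀ f1 f2 : F4, (f1 = 0 ∨ f1 = 1) ∨ (f2 = 0 ∨ f2 = 1) ∨ (f1 + f2 = 0 ∨ f1 + f2 = 1) := by decide
      rcases k3 f1 f2 with h | h | h
      exacts [absurd (k2 _ _ _ hκ1 e1 h) (by decide), absurd (k2 _ _ _ hκ2 e2 h) (by decide),
        absurd (k2 _ _ _ (mul_mem hκ1 hκ2) e3 h) (by decide)]
  have hK := Γ'.cj_K_of (Γ'.L_le_N hl)
  rcases cov _ Γ.V_le_U (fun x => Γ.sq_V) Γ.card_V with c1 | c1 <;>
  rcases cov _ (Γ.sw.V_le_U.trans Γ.sw_U.le) (fun x => Γ.sw.sq_V) Γ.sw.card_V with c2 | c2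
  · exact same _ hK c1 c2
  · exact diff _ hK c1 c2
  · exact diff (Γ'.toLz.cj l).sw hK c1 (by rw [Lz.sw_sw_V]; exact c2)
  · exact same (Γ'.toLz.cj l).sw hK c1 c2

theorem caseB (Γ : St G) {g : G} (hg : g ∉ Γ.N) (hY : Γ.Y ≤ (Γ.cj g).K) : False := by
  set Γ' := Γ.cj g with hΓ'
  have mK : ∀ {x}, x ∈ Γ'.K ↔ g⁻¹ * x * g ∈ Γ.K := Γ.toLz.mem_cj_K
  have z1 : Γ.z 1 ≠ 1 := mt Γ.z_eq_one.1 one_ne_zero
  have hz := hY (Γ.z_mem 1)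
  have UN : Γ.U ≤ Γ'.N := by rintro _ ⟨a, b, c, rfl⟩; exact Γ'.cen_le_N hz (Γ.z_sq 1) z1 (Γ.z_comm ..).symm
  have KN : Γ.K ≤ Γ'.N := fun k hk => Γ'.cen_le_N hz (Γ.z_sq 1) z1 (Γ.comm hk (Γ.uL ..))
  have hN : Γ.h ∈ Γ'.N := Γ'.tight _ hz (Γ.z_sq 1) z1 _ (by rw [Γ.hz]; exact hY (Γ.z_mem _))
  have KK : ∀ s ∈ Γ.K, s ∈ Γ'.K → s * s = 1 → s = 1 := fun s h1 h2 h3 => by
    by_contra h4
    exact hg (Γ.mem_N_of h1 h2 h3 h4)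
  have star : ∀ r ∈ Γ.K, ∀ n : ℕ, r ^ 2 ^ n = 1 → ∀ x ∈ Γ.U, r * x ∈ Γ'.K → r = 1 := by
    rintro r hr n e _ ⟨a, b, c, rfl⟩ h
    have h1 := Γ'.N_conj_K hN h
    rw [Γ.conj_ka hr Γ.hL, Γ.hu] at h1
    have h2 := Γ'.N_conj_K hN h1
    rw [Γ.conj_ka hr Γ.hL, Γ.hu] at h2
    have h3 := mul_mem (mul_mem h h1) h2
    have key : ∀ a : F4, a + F4.v * a + F4.v * (F4.v * a) = 0 := by decide
    rw [Γ.mul_mul _ _ hr (Γ.uL ..), Γ.mul_mul _ _ hr (mul_mem (Γ.uL ..) (Γ.uL ..)), Γ.u_mul, Γ.u_mul, key, key,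
      mul_mem_cancel_right (hY (Γ.z_mem _))] at h3
    have h4 := two_elt KK (mul_mem (mul_mem hr hr) hr) h3 (n := n) (by
      rw [← pow_three', ← pow_mul, mul_comm, pow_mul, e, one_pow])
    exact orderOf_eq_one_iff.1 (Nat.eq_one_of_dvd_coprimes (Nat.Coprime.pow_left n (by decide : Nat.Coprime 2 3))
      (orderOf_dvd_of_pow_eq_one e) (orderOf_dvd_of_pow_eq_one (by rw [pow_three', h4])))
  by_cases hU : Γ.U ≤ Γ'.K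
  · have := Γ.le_of_gen (fun a b c => hU (Γ.u_mem a b c)) fun i => Γ'.N_le_NK (Γ'.tight _ hz (Γ.z_sq 1) z1 _ (by
      cases i
      exacts [Γ.n0 0 1 ▸ hU (Γ.u_mem ..), Γ.n1 0 1 ▸ hU (Γ.u_mem ..)]))
    exact Γ.ncm g⁻¹ fun l hl => by simpa using mK.1 (this hl)
  obtain ⟨_, ⟨a₀, b₀, c₀, rfl⟩, h0⟩ := SetLike.not_le_iff_exists.1 hU
  have sc : ∀ a b c, Γ.u a b c ∈ Γ'.K → ∀ μ d, μ ≠ 0 → Γ.u (μ * a) (μ * b) d ∈ Γ'.K := fun a b c h μ d hl => by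
    have k0 : ∀ a b c d, Γ.u a b c ∈ Γ'.K → Γ.u a b d ∈ Γ'.K := fun a b c d h => by
      have := mul_mem h (hY (Γ.z_mem (c + d)))
      rwa [Γ.u_mul_z, ← add_assoc, add_self, zero_add] at this
    have k1 := Γ'.N_conj_K hN h
    rw [Γ.hu] at k1
    have k2 := Γ'.N_conj_K hN k1
    rw [Γ.hu, ← mul_assoc, ← mul_assoc F4.v] at k2
    cases μ
    exacts [absurd rfl hl, k0 _ _ _ _ (by rwa [show F4.l = 1 from rfl, one_mul, one_mul]), k0 _ _ _ _ k2,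
      k0 _ _ _ _ k1]
  have c16 : Nat.card ↥(Γ.U ⊓ Γ'.K) ≤ 16 := by
    have := Nat.card_le_card_of_injective (fun p : F4 × ↥(Γ.U ⊓ Γ'.K) =>
      (⟨Γ.u (p.1 * a₀) (p.1 * b₀) 0 * p.2, Γ.U.mul_mem (Γ.u_mem ..) p.2.2.1⟩ : Γ.U)) fun p q e => by
      have e1 : Γ.u (p.1 * a₀) (p.1 * b₀) 0 * p.2 = Γ.u (q.1 * a₀) (q.1 * b₀) 0 * q.2 := congrArg Subtype.val e
      have e2 : p.1 = q.1 := by
        by_contra hne
        have e3 : (Γ.u (q.1 * a₀) (q.1 * b₀) 0)⁻¹ * Γ.u (p.1 * a₀) (p.1 * b₀) 0 = q.2 * (p.2 : G)⁻¹ := by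
          rw [inv_mul_eq_iff_eq_mul, ← mul_assoc, ← e1, mul_inv_cancel_right]
        have e4 := Γ'.K.mul_mem q.2.2.2 (Γ'.K.inv_mem p.2.2.2)
        have e5 : q.1 + p.1 ≠ 0 := fun h => hne (by linear_combination h - add_self q.1)
        rw [← e3, Γ.u_inv, Γ.u_mul, ← add_mul, ← add_mul] at e4
        exact h0 (by simpa [← mul_assoc, inv_mul_cancel₀ e5] using sc _ _ _ e4 _ c₀ (inv_ne_zero e5))
      rw [e2] at e1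
      exact Prod.ext e2 (Subtype.ext (mul_left_cancel e1))
    rw [Nat.card_prod, Γ.card_U, Nat.card_eq_fintype_card, F4.card_eq] at this
    omega
  have R1 : g⁻¹ •ᶜ Γ.Y ≤ Γ.K := cj_le_iff_forall.2 fun x hx => by simpa using mK.1 (hY hx)
  have R1s : ∀ r ∈ g⁻¹ •ᶜ Γ.Y, r * r = 1 := fun r hr => by
    obtain ⟨y, hy, rfl⟩ := mem_cj'.1 hr
    exact sq_cj _ (Γ.sq_V (Γ.Y_le_V hy))
  have DK : (g⁻¹ •ᶜ Γ.Y ⊔ Γ.U) ⊓ Γ'.K = Γ.U ⊓ Γ'.K := by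
    refine le_antisymm (fun d ⟨hd, hd'⟩ => ⟨?_, hd'⟩) (inf_le_inf_right _ le_sup_right)
    obtain ⟨r, hr, x, hx, rfl⟩ := (Γ.mem_sup R1 Γ.U_le_L).1 hd
    rwa [star r (R1 hr) 1 (by simpa [pow_two] using R1s r hr) x hx hd', one_mul]
  obtain ⟨l, hl, hf⟩ := frame' Γ'.toLz (Γ.pS R1 (pg_of_sq R1s) Γ.U_le_L Γ.pU) (sup_le (R1.trans KN) UN)
  have cD : Nat.card ↥(g⁻¹ •ᶜ Γ.Y ⊔ Γ.U) = 256 := by rw [Γ.card_sup R1 Γ.U_le_L, card_cj, Γ.card_Y, Γ.card_U]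
  obtain ⟨h1, h2⟩ := hf _ le_rfl (fun d hd => by
    obtain ⟨r, hr, _, ⟨a, b, c, rfl⟩, rfl⟩ := (Γ.mem_sup R1 Γ.U_le_L).1 hd
    rw [Γ.mul_mul _ _ (R1 hr) (Γ.uL ..), R1s r hr, one_mul, Γ.u_sq]
    exact hY (Γ.z_mem _)) (by rw [DK, cD]; omega)
  rw [DK, cD] at h1
  have R2 : g⁻¹ •ᶜ (Γ.U ⊓ Γ'.K) ≤ Γ.K := cj_le_iff_forall.2 fun x hx => by simpa using mK.1 hx.2
  have pR2 : IsPGroup 2 ↥(g⁻¹ •ᶜ (Γ.U ⊓ Γ'.K)) := isPGroup_cj _ (Γ.pU.to_le inf_le_left)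
  have fin : ∀ Δ : Lz G, Δ.K = Γ'.K → Δ.N = Γ'.N → Δ.Cov (g⁻¹ •ᶜ Γ.Y ⊔ Γ.U) Δ.V → False := fun Δ hK hN' hc => by
    have ex : ∀ r : ↥(g⁻¹ •ᶜ (Γ.U ⊓ Γ'.K)), ∃ v : Δ.V, ∃ k ∈ Δ.K, r = k * v := fun r => by
      obtain ⟨k, hk, a, c, e⟩ := Lz.Cov.cen Δ hc (hN' ▸ KN (R2 r.2)) fun d hd => by
        obtain ⟨r', hr', x, hx, rfl⟩ := (Γ.mem_sup R1 Γ.U_le_L).1 hd
        obtain ⟨_, ⟨c, rfl⟩, rfl⟩ := mem_cj'.1 hr'
        obtain ⟨_, ⟨⟨a, b, c', rfl⟩, -⟩, e⟩ := mem_cj'.1 r.2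
        rw [cj_of_comm (Commute.mul_right (by rw [← e]; exact cm_cj _ (Γ.z_comm ..).symm)
          (Γ.comm (R2 r.2) (Γ.U_le_L hx))), mul_inv_cancel]
        exact one_mem _
      exact ⟨⟨_, Δ.v_mem a c⟩, k, hk, e⟩
    choose φ κ hκ e using ex
    have inj : Function.Injective φ := fun r r' h => by
      obtain ⟨n, hn⟩ := pR2 (r * r'⁻¹)
      refine mul_inv_eq_one.1 (Subtype.ext (two_elt KK (R2 (r * r'⁻¹).2) ?_ (n := n) (congrArg Subtype.val hn)))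
      rw [coe_mul, coe_inv, e r, e r', h, mul_inv_rev, mul_assoc, mul_inv_cancel_left, ← hK]
      exact mul_mem (hκ _) (inv_mem (hκ _))
    obtain ⟨k, hk, v, hv, e1⟩ := hc.1 _ (mem_sup_right (Γ.u_mem a₀ b₀ c₀))
    obtain ⟨r, hr⟩ := (inj.bijective_of_nat_card_le (by rw [card_cj, Δ.card_V]; omega)).2 ⟨v, hv⟩
    have e2 := e r
    rw [hr] at e2
    have e3 : (r : G)⁻¹ * Γ.u a₀ b₀ c₀ ∈ Γ'.K := by
      rw [Γ.comm (inv_mem (R2 r.2)) (Γ.uL ..), e1, e2, mul_inv_rev, mul_assoc, mul_inv_cancel_left, ← hK]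
      exact mul_mem hk (inv_mem (hκ _))
    obtain ⟨n, hn⟩ := pR2 r⁻¹
    rw [star _ (inv_mem (R2 r.2)) n (congrArg Subtype.val hn) _ (Γ.u_mem ..) e3, one_mul] at e3
    exact h0 e3
  have hK := Γ'.cj_K_of (Γ'.L_le_N hl)
  have hN' := Γ'.cj_N_of (Γ'.L_le_N hl)
  rcases h2 with h | h
  exacts [fin _ hK hN' h, fin (Γ'.toLz.cj l).sw hK hN' h]

end NoA

/-- PROOF. Suppose not. By `inv_conj`, `z = z 1 ∈ K'` for a conjugate `Γ' = Γ.cj g`; `K' ≠ K`, so `K ⊓ K'` has no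
involution (`mem_N_of`), and `C(s) ≤ N'` for every involution `s ∈ K'` (`cen_le_N`): `K, U ≤ N'`.
`t = g⁻¹ z g ∈ K`. `U₀ = U ⊓ K'` is normal in `U`.
CASE `Y ≰ K'`: `U₀ ⊓ Y = ⟨z⟩`, and `[x, U] = Y` for `x ∈ U ∖ Y`, so `U₀ = ⟨z⟩`.
(a) If `t v ∈ K'`, `v ∈ U`, then `[v, U] ≤ U₀`, `v = z c`, `c ∉ {0, 1}` (else `t ∈ K'`); so `t z w`, `t z v ∈ K'`,
`h (t z w) h⁻¹ = t z v`, `h ∈ N'` (`tight`), `z w = h z h⁻¹ ∈ K'`: contradiction.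
(b) So `D i = ⟨t⟩ ⊔ V i` (order 32) meets `K'` in `⟨z⟩`. Choose a frame `Γ'' = Γ'.cj l` with `⟨t⟩ ⊔ U ≤ N(U'')`;
`rk` gives `Cov (D 1) V''`, `Cov (D 2) W''` with `V''`, `W''` among the two sides. Same side: the commutator `z w`
of `u 1 0 0` and `u 0 w 0` lies in `K'`. Different sides: `u 0 1 0 = k x`, `x ∈ W''`; the commutators of `x` with
`V''` are trivial or fill `Y''` (four elements, distinct modulo `K'`), whereas the commutators of `u 0 1 0` with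
`D 1` fill `Y`, which has exactly two classes modulo `K'`.
CASE `Y ≤ K'`: `h ∈ N'`. If `r x ∈ K'` with `r ∈ K` a 2-element and `x ∈ U`, the product of the three conjugates
under `h` is `r ^ 3 * z c`, so `r ^ 3 ∈ K ⊓ K'`, `r = 1` (*). If `U ≤ K'` then `n i ∈ N'` (`V i ≤ K'`, `tight`),
`gen` gives `L ≤ K'`, against `ncm`. So take `x₀ ∈ U ∖ K'`. `R₁ = g⁻¹ Y g ≤ K`, `D = R₁ ⊔ U` of order 256 has
squares in `Y ≤ K'`, `D ⊓ K' = U₀` by (*), `|U₀| ≤ 32`; `rk` (frame) gives `|U₀| ≥ 16`; `U₀ / Y` is `h`-invariant,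
so `|U₀| ≠ 32` (or: an `h`-invariant subgroup of index 2 contains `[U, h] = U`), `|U₀| = 16`, `Cov D V''`.
`R₂ = g⁻¹ U₀ g ≤ K` has order 16 and centralises `D`, so (`Cov.cen`) `R₂` embeds in `V''` (`R₂ ⊓ K' = 1`), onto by
counting; `x₀ = k v = k k' r`, `r ∈ R₂`, so `r⁻¹ x₀ ∈ K'`, `r = 1` by (*), `x₀ ∈ K'`. -/
theorem St.noA (Γ : St G) {t : G} (ht : t ∈ Γ.K) (t2 : t * t = 1) {g : G} (h : g * t * g⁻¹ ∈ Γ.L) : t = 1 := by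
  by_contra t1
  obtain ⟨m, -, e⟩ := Γ.inv_conj h (sq_cj g t2) (cj_ne g t1)
  have hz : Γ.z 1 ∈ (Γ.cj (m⁻¹ * g)).K := Γ.toLz.mem_cj_K.2 (by
    convert ht using 1
    calc _ = g⁻¹ * (m * Γ.z 1 * m⁻¹) * g := by group
      _ = t := by rw [e]; group)
  have hg : m⁻¹ * g ∉ Γ.N := fun hN => one_ne_zero (Γ.z_eq_one.1 (Γ.LK _ (Γ.uL ..) ((Γ.toLz.cj_K_of hN).le hz)))
  by_cases hw : Γ.z F4.w ∈ (Γ.cj (m⁻¹ * g)).K
  · refine NoA.caseB Γ hg ?_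
    rintro _ ⟨c, rfl⟩
    cases c
    exacts [Γ.z_eq_one.2 rfl ▸ one_mem _, hz, hw, by have := mul_mem hz hw; rwa [Γ.z_mul] at this]
  · exact NoA.caseA Γ.toLz _ ht t2 (fun h => hg (Γ.mem_N_of ht h t2 t1)) hz hw

end CL.SZ4
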