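import Cfsg.Agent.INV.SZ4.Tb

/-! The group `P₁ = 2⁴⁺⁶`. -/

set_option autoImplicit false
set_option maxHeartbeats 400000
set_option linter.unusedSectionVars false

namespace CL.SZ4

open Subgroup CL.MSS Equiv

namespace Pq

theorem cj1 : ∀ π : Perm (Fin 5), π 0 = 0 → ∀ a, ∃ a', ∀ i, π (p1 a i) = p1 a' (π i) := by decide +kernel
theorem cj2 : ∀ π : Perm (Fin 5), π 1 = 0 → ∀ a, ∃ a', ∀ i, π (swap 0 1 (p1 a (swap 0 1 i))) = p1 a' (π i) := by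
  decide +kernel
theorem cj3 : ∀ π : Perm (Fin 5), Perm.sign π = 1 → (∀ i, π (π i) = i) → (∀ i, π i = i) ∨
    ∃ a b c d, ∀ i, Tb.q4 a b c d (π i) = p1 1 (Tb.q4 a b c d i) := by decide +kernel
theorem bv_sw : ∀ l a b e : F4, ∀ i, bv (l, b, a, e) i = bv (l, a, b, e) (swap 0 1 i) := by decide +kernel
theorem fix0 : ∀ l a b e : F4, (∀ i, bv (l, a, b, e) (p1 1 i) = bv (l, a, b, e) i) → b = 0 := by decide +kernel
theorem yv : ∀ a i μ, ![0, 0, 1, 1 * F4.v, 1 * F4.w] + ![0, a, a + 0, a + 0, a + 0] ≠ ff i μ := by decide +kernel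
theorem p1_eq : ∀ a, p1 a = p1 1 → a = 1 := by decide
set_option synthInstance.maxSize 4000 in
set_option synthInstance.maxHeartbeats 200000 in
theorem tk : ∀ μ c : F4, μ ≠ 0 → μ ≠ 1 → ∃ t κ : F4, ∀ m a : F4, m ≠ 0 ∨ a ≠ 0 → ∀ p q : F4,
    (m + a * (t * a + κ * m * m)) * a = p → (m + a * (t * a + κ * m * m)) * (t * a + κ * m * m) = q →
      ¬ (p = 0 ∧ q = 0 ∨ p = 0 ∧ q = 1 ∨ p = μ ∧ q = c ∨ p = μ ∧ q = c + 1) := by decide +kernel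
theorem four : ∀ d d' e : F4, d ≠ 0 → d' ≠ 0 → d ≠ d' → e = 0 ∨ e = d ∨ e = d' ∨ e = d' + d := by decide
theorem ne_add : ∀ m a m' a' : F4, (m, a) ≠ (m', a') → m + m' ≠ 0 ∨ a + a' ≠ 0 := by decide

end Pq

open Pq Tb Bas

universe u
variable {G : Type u} [Group G] [Finite G]

namespace Sz

variable (Λ : Sz G)

/-- the elements of `P₁` -/
def pe (m a η a' c' : F4) : G := Λ.r m * Λ.w1 a * Λ.y η * Λ.u a' 0 c'

omit [Finite G] in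
theorem mem_P1 {x : G} : x ∈ Λ.P1 ↔ ∃ m a η a' c', x = Λ.pe m a η a' c' := by
  rw [Λ.s1.mem]
  exact ⟨fun ⟨r, hr, a, c, a', c', e⟩ => let ⟨m, k⟩ := Λ.mem_R.1 hr; ⟨m, a, c, a', c', by rw [e, k]; rfl⟩,
    fun ⟨m, a, c, a', c', e⟩ => ⟨_, Λ.rR m, a, c, a', c', e⟩⟩

omit [Finite G] in
theorem P1_v {x : G} (hx : x ∈ Λ.P1) (a c : F4) : x * Λ.u a 0 c = Λ.u a 0 c * x := by
  exact (Λ.P1_iff.1 hx).2.1 a c

omit [Finite G] in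
theorem w1_z0 : Λ.w1 0 = 1 := by rw [Co.w1, Lz.w, Λ.y_zero]; group
omit [Finite G] in
theorem r_z0 : Λ.r 0 = 1 := Λ.r_eq_one.2 rfl
omit [Finite G] in
theorem pe_mem (m a η a' c' : F4) : Λ.pe m a η a' c' ∈ Λ.P1 := Λ.mem_P1.2 ⟨_, _, _, _, _, rfl⟩

omit [Finite G] in
theorem pe_mul' (m a η a' c' m₂ a₂ η₂ a₂' c₂' : F4) : Λ.pe m a η a' c' * Λ.pe m₂ a₂ η₂ a₂' c₂' =
    Λ.pe (m + m₂) (a + a₂) (η + η₂) (a' + a₂' + m₂ * a + a₂ * a₂ * η) (c' + c₂' + m₂ * η + a₂ * η * η) := by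
  have uw : ∀ a c b X, Λ.u a 0 c * (Λ.w1 b * X) = Λ.w1 b * (Λ.u a 0 c * X) := fun a c b X => by
    rw [← mul_assoc, ← Λ.w1_v, mul_assoc]
  have uy : ∀ a c b X, Λ.u a 0 c * (Λ.y b * X) = Λ.y b * (Λ.u a 0 c * X) := fun a c b X => by
    rw [← mul_assoc, ← Λ.yu, mul_assoc]
  have ur : ∀ a c b X, Λ.u a 0 c * (Λ.r b * X) = Λ.r b * (Λ.u a 0 c * X) := fun a c b X => by
    rw [← mul_assoc, ← Λ.ru (Λ.rR b), mul_assoc]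
  have yr : ∀ η m X, Λ.y η * (Λ.r m * X) = Λ.r m * (Λ.y η * (Λ.u 0 0 (m * η) * X)) := fun η m X => by
    rw [← mul_assoc, Λ.y_r (Λ.rR m), Λ.lam_r, mul_assoc, mul_assoc, uy]
  have wr : ∀ a m X, Λ.w1 a * (Λ.r m * X) = Λ.r m * (Λ.w1 a * (Λ.u (m * a) 0 0 * X)) := fun a m X => by
    rw [← mul_assoc, mul_inv_eq_iff_eq_mul.1 (Λ.w1_r a (Λ.rR m)), Λ.lam_r, mul_assoc, mul_assoc, uw]
  have yw : ∀ η a X, Λ.y η * (Λ.w1 a * X) = Λ.w1 a * (Λ.y η * (Λ.u (a * a * η) 0 (a * η * η) * X)) := fun η a X => by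
    have := mul_inv_eq_iff_eq_mul.1 (Λ.s1.wy a η)
    rw [Λ.e1, one_mul] at this
    rw [← mul_assoc (Λ.w1 a), this, mul_assoc, mul_assoc, ← uw, ← mul_assoc (Λ.u ..), Λ.v_sq, one_mul]
  have rr : ∀ a b X, Λ.r a * (Λ.r b * X) = Λ.r (a + b) * X := fun a b X => by rw [← mul_assoc, Λ.r_mul]
  have ww : ∀ a b X, Λ.w1 a * (Λ.w1 b * X) = Λ.w1 (a + b) * X := fun a b X => by rw [← mul_assoc, Λ.w1_mul]
  have yy : ∀ a b X, Λ.y a * (Λ.y b * X) = Λ.y (a + b) * X := fun a b X => by rw [← mul_assoc, Λ.y_mul]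
  simp only [pe, mul_assoc]
  rw [ur, yr, wr, rr, uw, uw, yw, uw, ww, uy, uy, uy, uy, uy, yy]
  simp only [Λ.v_mul]
  congr 4 <;> ring

omit [Finite G] in
/-- PROOF. `w1_r`, `yr`, `s1.wy`; `V` is central in `P₁`. -/
theorem pe_mul (m a η a' c' m₂ a₂ η₂ a₂' c₂' : F4) : ∃ a₃ c₃,
    Λ.pe m a η a' c' * Λ.pe m₂ a₂ η₂ a₂' c₂' = Λ.pe (m + m₂) (a + a₂) (η + η₂) a₃ c₃ := by
  exact ⟨_, _, Λ.pe_mul' ..⟩

omit [Finite G] in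
theorem pe_sq (m a η a' c' : F4) :
    Λ.pe m a η a' c' * Λ.pe m a η a' c' = Λ.u ((m + a * η) * a) 0 ((m + a * η) * η) := by
  rw [pe_mul', add_self, add_self, add_self, add_self, add_self, pe, r_z0, w1_z0, Λ.y_zero, one_mul, one_mul, one_mul]
  congr 1 <;> ring

omit [Finite G] in
theorem pe_r (m a η a' c' : F4) : Λ.pe m a η a' c' * Λ.r 1 * (Λ.pe m a η a' c')⁻¹ = Λ.r 1 * Λ.u a 0 η := by
  rw [pe, ← cj_cj, cj_of_comm (Λ.ru (Λ.rR 1) ..).symm, mul_assoc (Λ.r m), ← cj_cj, Λ.wy_r a η (Λ.rR 1), cj_mul',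
    cj_of_comm (comm_of_sq Λ.Rsq (Λ.rR m) (Λ.rR 1)), cj_of_comm (Λ.ru (Λ.rR m) ..), Λ.lam_r, one_mul, one_mul]

theorem act_pe (m a η a' c' : F4) : Λ.Act (Λ.pe m a η a' c') (p1 a) false := by
  simpa [pe] using (((Λ.act_T (Λ.r_mem (Λ.rR m))).mul (Λ.act_w1 a)).mul (Λ.act_T (Λ.yT η))).mul (Λ.act_T (Λ.uT a' 0 c'))

theorem exists_wx {g : G} {a : F4} (h : Λ.Act g (p1 a) false) {k : ℕ} (e : g ^ 2 ^ k = 1) :
    ∃ x ∈ Λ.T, g = Λ.w1 a * x := by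
  have := (Λ.act_w1 a).inv.mul h
  rw [inv_mul_cancel] at this
  obtain ⟨x, hx, o, ho, e'⟩ := Act.ker this
  rw [inv_mul_eq_iff_eq_mul, ← mul_assoc] at e'
  have w2 : Λ.w1 a * Λ.w1 a = 1 := by rw [Λ.w1_mul, add_self, w1_z0]
  obtain ⟨n, en⟩ := pow_two_of_mem Co.pT (mul_mem ((Λ.act_w1 a).conj_T hx) hx)
  rw [inv_of_sq w2, mul_assoc, ← pow_two, ← pow_mul, ← pow_succ'] at en
  have c : Commute (Λ.w1 a * x) o := Commute.mul_left (Λ.w1_O a ho) (Co.T_O hx ho)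
  have : o ^ 2 ^ (n + 1 + k) = 1 := by
    have : g ^ 2 ^ (n + 1 + k) = 1 := by rw [pow_add, mul_comm, pow_mul, e, one_pow]
    rwa [e', c.mul_pow, pow_add 2 (n + 1), pow_mul, en, one_pow, one_mul, ← pow_add] at this
  exact ⟨x, hx, by rw [e', Pw.O_two Λ.toEl ho this, mul_one]⟩

omit [Finite G] in
theorem wx_mem {x : G} (hx : x ∈ Λ.T) (h : (Λ.cl x).2.2.1 = 0) (a : F4) : Λ.w1 a * x ∈ Λ.P1 := by
  obtain ⟨r, hr, b, c, d, η, rfl⟩ := hx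
  obtain ⟨m, rfl⟩ := Λ.mem_R.1 hr
  rw [Λ.cl_el hr] at h
  obtain rfl : c = 0 := h
  convert mul_mem (Λ.pe_mem 0 a 0 0 0) (Λ.pe_mem m 0 η b d) using 1
  simp [pe, Co.el, r_z0, w1_z0, Λ.y_zero, Λ.u_zero, mul_assoc, Λ.yu]

/-- PROOF. `(w1 a)⁻¹ g = x o` (`Act.ker`); `w1 a * x` lies in the 2-group `T ⊔ ⟨w1 a⟩` and commutes with `o`, so
`o = 1`; `x` centralises `u 1 0 0`, so its `b`-coordinate vanishes. -/
theorem mem_P1_of {g : G} {a : F4} (h : Λ.Act g (p1 a) false) {k : ℕ} (e : g ^ 2 ^ k = 1)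
    (hV : g * Λ.u 1 0 0 = Λ.u 1 0 0 * g) : g ∈ Λ.P1 := by
  obtain ⟨x, hx, rfl⟩ := Λ.exists_wx h e
  refine Λ.wx_mem hx ?_ a
  have := Co.comm_T hx (Λ.uT 1 0 0)
  rw [mul_assoc, ← mul_assoc (Λ.u ..), ← Λ.w1_v, mul_assoc, mul_right_inj] at hV
  rw [cj_of_comm hV, left_eq_mul, Λ.z_eq_one, Λ.cl_u] at this
  simpa using this

omit [Finite G] in
theorem mem_V_iff {x : G} : x ∈ Λ.V ↔ x ∈ Λ.T ∧ ∃ μ, Λ.β x = ff 0 μ := by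
  have k : ∀ a c, Λ.β (Λ.u a 0 c) = ff 0 a := fun a c => by rw [β_u]; funext j; fin_cases j <;> simp [ff]
  exact ⟨fun ⟨a, c, e⟩ => e ▸ ⟨Λ.uT .., a, k a c⟩, fun ⟨hx, μ, e⟩ =>
    let ⟨c, e'⟩ := Λ.eq_of_β (Λ.uT μ 0 0) hx ((k ..).trans e.symm); ⟨μ, _, e'.trans (Λ.u_mul_z ..)⟩⟩

/-- exchange the two sides -/
def sw' : Sz G := ⟨Λ.toCo.sw, Λ.r, Λ.rR, Λ.lam_r, Λ.e2, Λ.e1⟩

omit [Finite G] in
theorem β_sw {x : G} (hx : x ∈ Λ.T) (i : Fin 5) : Λ.sw'.β x i = Λ.β x (swap 0 1 i) :=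
  (congrFun (congrArg bv (Λ.sw_cl hx)) i).trans (bv_sw ..)

omit [Finite G] in
theorem act_sw {g : G} {π : Perm (Fin 5)} {σ : Bool} : Λ.sw'.Act g π σ ↔ Λ.Act g (swap 0 1 * π * swap 0 1) σ := by
  have eT : Λ.sw'.T = Λ.T := Λ.sw_T
  have ez : ∀ c, Λ.sw'.z c = Λ.z c := Λ.toLz.sw_z
  constructor
  · intro h
    have n := h.norm
    rw [eT] at n
    refine ⟨n, fun x hx i => ?_, fun c => by simpa only [ez] using h.z c⟩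
    have := h.act x (eT.ge hx) (swap 0 1 i)
    rwa [Λ.β_sw hx, Λ.β_sw ((mem_normalizer_iff.1 n x).1 hx), swap_apply_self] at this
  · intro h
    refine ⟨by rw [eT]; exact h.norm, fun x hx i => ?_, fun c => by simpa only [ez] using h.z c⟩
    rw [Λ.β_sw (eT.le hx), Λ.β_sw (h.conj_T (eT.le hx)), ← h.act x (eT.le hx)]
    simp

theorem conj_P1 {g x : G} {π ρ : Perm (Fin 5)} {a : F4} (h : Λ.Act g π false) (hx : Λ.Act x ρ false) {k : ℕ}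
    (e : x ^ 2 ^ k = 1) (c : ∀ i, π (ρ i) = p1 a (π i)) (v : x * (g⁻¹ * Λ.u 1 0 0 * g) = g⁻¹ * Λ.u 1 0 0 * g * x) :
    g * x * g⁻¹ ∈ Λ.P1 := by
  have := (h.mul hx).mul h.inv
  rw [show π * ρ = p1 a * π from Equiv.ext c, mul_inv_cancel_right] at this
  exact Λ.mem_P1_of this (k := k) (by rw [conj_pow, e]; group) (by simpa [mul_assoc] using cm_cj g v)

variable {Λ} in
omit [Finite G] in
theorem Act.ff {g x : G} {π : Perm (Fin 5)} (h : Λ.Act g π false) (hx : x ∈ Λ.T) {i : Fin 5} {μ : F4}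
    (e : Λ.β x = ff i μ) : Λ.β (g * x * g⁻¹) = ff (π i) μ := funext fun j => by
  obtain ⟨j, rfl⟩ := π.surjective j
  rw [h.act x hx, e]; simp [SZ4.ff, fr_false]

/-- PROOF. `V = {x ∈ T | β x = ff 0 μ}`; `π (p1 a) π⁻¹ = p1 a'` (`decide`); `mem_P1_of`. -/
theorem Act.norm_P1 {g : G} {π : Perm (Fin 5)} (h : Λ.Act g π false) (h0 : π 0 = 0) :
    g ∈ normalizer (Λ.V : Set G) ∧ g ∈ normalizer (Λ.P1 : Set G) := by
  have hV : g ∈ normalizer (Λ.V : Set G) := mem_normalizer_fintype fun x hx =>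
    let ⟨hx, μ, e⟩ := Λ.mem_V_iff.1 hx; Λ.mem_V_iff.2 ⟨h.conj_T hx, μ, h0 ▸ h.ff hx e⟩
  refine ⟨hV, mem_normalizer_fintype fun x hx => ?_⟩
  obtain ⟨k, e⟩ := pow_two_of_mem Λ.s1.pg hx
  obtain ⟨a, c, v⟩ := conj_mem_of_normalizes' le_rfl hV (Λ.v_mem 1 0)
  have := Λ.P1_v hx a c
  obtain ⟨m, a, η, a', c', rfl⟩ := Λ.mem_P1.1 hx
  obtain ⟨b, hb⟩ := cj1 π h0 a
  exact Λ.conj_P1 h (Λ.act_pe ..) e hb (by rwa [v])

omit [Finite G] in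
theorem mem_V_iff' {x : G} : x ∈ Λ.toLz.sw.V ↔ x ∈ Λ.T ∧ ∃ μ, Λ.β x = ff 1 μ := by
  have k : ∀ a c, Λ.β (Λ.u 0 a c) = ff 1 a := fun a c => by rw [β_u]; funext j; fin_cases j <;> simp [ff]
  rw [Λ.mem_V']
  exact ⟨fun ⟨a, c, e⟩ => e ▸ ⟨Λ.uT .., a, k a c⟩, fun ⟨hx, μ, e⟩ =>
    let ⟨c, e'⟩ := Λ.eq_of_β (Λ.uT 0 μ 0) hx ((k ..).trans e.symm); ⟨μ, _, e'.trans (Λ.u_mul_z ..)⟩⟩

theorem conj_P2' {g : G} {π : Perm (Fin 5)} (h : Λ.Act g π false) (h0 : π 1 = 0) :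
    g •ᶜ Λ.toLz.sw.V = Λ.V ∧ g •ᶜ Λ.P2 ≤ Λ.P1 := by
  have hV : g •ᶜ Λ.toLz.sw.V = Λ.V := eq_of_le_of_card_ge (cj_le_iff_forall.2 fun x hx =>
    let ⟨hx, μ, e⟩ := Λ.mem_V_iff'.1 hx; Λ.mem_V_iff.2 ⟨h.conj_T hx, μ, h0 ▸ h.ff hx e⟩)
    (by rw [card_cj, Lz.card_V, Lz.card_V])
  refine ⟨hV, cj_le_iff_forall.2 fun x hx => ?_⟩
  obtain ⟨k, e⟩ := pow_two_of_mem Λ.s2.pg hx
  obtain ⟨a, c, v⟩ := mem_cj.1 (hV.ge (Λ.v_mem 1 0))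
  have := Λ.sw'.P1_v hx a c
  obtain ⟨m, a, η, a', c', rfl⟩ := Λ.sw'.mem_P1.1 hx
  obtain ⟨b, hb⟩ := cj2 π h0 a
  exact Λ.conj_P1 h (Λ.act_sw.1 (Λ.sw'.act_pe ..)) e hb (by rwa [v])

/-- PROOF. As `norm_P1`; the elements of `P₂` are `r * w2 b * y η * u 0 b' c'`, act as `p2 b` and centralise
`Λ.sw.V`, which `g` maps onto `V`. -/
theorem Act.conj_P2 {g : G} {π : Perm (Fin 5)} (h : Λ.Act g π false) (h0 : π 1 = 0) :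
    g •ᶜ Λ.toLz.sw.V = Λ.V ∧ g •ᶜ Λ.P2 = Λ.P1 := by
  refine ⟨(Λ.conj_P2' h h0).1, le_antisymm (Λ.conj_P2' h h0).2 (le_cj_iff.2
    (Λ.sw'.conj_P2' (π := swap 0 1 * π⁻¹ * swap 0 1) (Λ.act_sw.2 ?_) ?_).2)⟩
  · simpa [mul_assoc, ← mul_assoc (swap (0 : Fin 5) 1) (swap 0 1)] using h.inv
  · simp [← h0]

theorem Kp_vec {x : G} (hx : x ∈ Λ.T) (x2 : x * x = 1) (h : ∀ i μ, Λ.β x ≠ ff i μ) : Λ.Kp x := by
  obtain ⟨n, π, c, -, e⟩ := Λ.K_vec hx x2 (fun k => h 0 0 (by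
    rw [(Λ.β_eq_zero hx).2 k]; funext j; simp [ff])) h
  have r1 : Λ.r 1 ≠ 1 := mt Λ.r_eq_one.1 one_ne_zero
  obtain ⟨g, k⟩ := isConj_iff.1 (Λ.Kp_rv (Λ.rR 1) r1 0 c)
  have := (Lz.Kp.cj (Γ := Λ.toLz) ⟨Λ.Rsq _ (Λ.rR 1), r1, 1, by simpa using Λ.RK' (Λ.rR 1)⟩ g).cj n⁻¹
  rw [k, ← e] at this
  simpa [mul_assoc] using this

theorem dt1 {s : G} (h : Λ.Act s (p1 1) false) (h2 : s * s ∈ Λ.Y) : Λ.Kp s := by
  obtain ⟨x, hx, rfl⟩ := Λ.exists_wx h (k := 2) (by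
    obtain ⟨c, e⟩ := h2
    rw [show s ^ 2 ^ 2 = s * s * (s * s) by norm_num [pow_succ, mul_assoc], e, Λ.z_sq])
  have w2 : Λ.w1 1 * Λ.w1 1 = 1 := by rw [Λ.w1_mul, add_self, w1_z0]
  have m := (Λ.act_w1 1).conj_T hx
  have hP := Λ.wx_mem hx (fix0 _ _ _ _ fun i => by
    have := congrFun ((Λ.β_eq_zero (mul_mem m hx)).2 (by rwa [inv_of_sq w2, mul_assoc])) (p1 1 i)
    rw [Λ.β_mul m hx, Pi.add_apply, (Λ.act_w1 1).act x hx, fr_false, Pi.zero_apply] at this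
    change Λ.β x _ = Λ.β x _
    linear_combination this - add_self (Λ.β x i)) 1
  obtain ⟨m, a, η, a', c', e⟩ := Λ.mem_P1.1 hP
  rw [e] at h h2 hP ⊢
  obtain rfl := p1_eq a ((Λ.act_pe ..).unique h).1
  have s2 : Λ.pe m 1 η a' c' * Λ.pe m 1 η a' c' = 1 := by
    obtain ⟨c, k⟩ := h2
    rw [pe_sq] at k ⊢
    rw [← mul_one (m + 1 * η), (Λ.u_inj k).1, zero_mul, zero_mul, Λ.u_zero]
  obtain ⟨l, hl, lV, el⟩ := Λ.conj_V (a := 1) (c := η) (.inl one_ne_zero)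
  have lR : ∀ r ∈ Λ.R, l * r = r * l := fun r hr => (Λ.comm (Λ.RK' hr) hl).symm
  obtain ⟨m₂, a₂, η₂, a₂', c₂', e₂⟩ := Λ.mem_P1.1 ((mem_normalizer_iff.1 (inv_mem (Λ.norm_P1 lR lV)) _).1 hP)
  have k := Pw.cj_act Λ.toLz (inv_mem hl) (Λ.RK' (Λ.rR 1)) (Λ.pe_r m 1 η a' c')
  rw [e₂, pe_r, ← el, mul_right_inj, show l⁻¹ * (l * Λ.z 1 * l⁻¹) * l⁻¹⁻¹ = Λ.z 1 by group] at k
  obtain ⟨rfl, -, rfl⟩ := Λ.u_inj k
  have s3 := sq_cj l⁻¹ s2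
  rw [e₂] at s3
  obtain rfl : m₂ = 0 := by simpa using (Λ.u_eq_one.1 ((Λ.pe_sq ..).symm.trans s3)).2.2
  have e0 : Λ.pe 0 0 1 a₂' c₂' = Λ.y 1 * Λ.u a₂' 0 c₂' := by rw [pe, r_z0, w1_z0, one_mul, one_mul]
  rw [e0] at e₂ s3
  have := (Λ.Kp_vec (mul_mem (Λ.yT 1) (Λ.uT ..)) s3 fun i μ => by
    rw [Λ.β_mul (Λ.yT 1) (Λ.uT ..), β_y, β_u]; exact yv _ _ _).cj l
  rw [← e₂] at this
  simpa [mul_assoc] using this

/-- PROOF. `π² = 1`, so `π` is a double transposition; conjugate (`act_even`) so that `π = p1 a`, `a ≠ 0`.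
`s = w1 a * x` with `x ∈ T`, and `β x` is fixed by `π`, so `β x 0 = 0` (sum zero), `s = pe m a η a' c' ∈ P₁`.
`pe_sq`: `m = a η`, `s² = 1`. `n = n false` normalises `P₁`, `n (w1 a) n⁻¹ = y a`, `n (y η) n⁻¹ = w1 η`; conjugating
by `u 0 b 0`, `b = η / a` (`s1.wu`), gives `pe m' a 0 _ _`, `m' = 0` by `pe_sq`, and then by `n` an element
`y a * v ∈ T` which is not some `ff i μ`: `K_vec`. -/
theorem dt {s : G} {π : Perm (Fin 5)} (h : Λ.Act s π false) (hs : Perm.sign π = 1) (h1 : π ≠ 1)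
    (h2 : s * s ∈ Λ.Y) : Λ.Kp s := by
  rcases cj3 π hs (fun i => congrArg (· i) ((h.mul h).unique (Λ.act_T (Λ.Y_le_T h2))).1) with e | ⟨a, b, c, f, e⟩
  · exact absurd (Equiv.ext e) h1
  have n := Λ.act_q4 a b c f
  have := (n.mul h).mul n.inv
  rw [show q4 a b c f * π = p1 1 * q4 a b c f from Equiv.ext e, mul_inv_cancel_right] at this
  obtain ⟨d, k⟩ := h2
  simpa [mul_assoc] using (Λ.dt1 this ⟨_, by rw [← cj_mul', k, n.z]⟩).cj (Λ.w1 a * Λ.w2 b * Λ.w1 c * Λ.w2 f)⁻¹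

/-- PROOF. `e₀` from `act_even` for the inverse 3-cycle; `e₀ u a 0 0 e₀⁻¹ = u a 0 (φ a)`, so `e = e₀²`
centralises `V`. -/
theorem exists_e : ∃ e, Λ.Act e (swap 2 3 * swap 3 4) false ∧ (∀ a c, e * Λ.u a 0 c = Λ.u a 0 c * e) ∧
    ∀ o ∈ Λ.O, e * o = o * e := by
  obtain ⟨e, h, hO⟩ := Λ.act_even (π := swap 3 4 * swap 2 3) (by decide)
  have s : swap 3 4 * swap 2 3 * (swap 3 4 * swap 2 3) = (swap 2 3 * swap 3 4 : Perm (Fin 5)) := by decide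
  refine ⟨e * e, s ▸ h.mul h, fun a c => ?_, fun o ho => (Commute.mul_left (hO o ho) (hO o ho)).eq⟩
  obtain ⟨hx, μ, k⟩ := Λ.mem_V_iff.1 (Λ.v_mem a c)
  obtain ⟨d, k'⟩ := Λ.eq_of_β hx (h.conj_T hx) (k.trans (h.ff hx k).symm)
  refine comm_of_cj ?_
  rw [← cj_cj, k', cj_mul', k', h.z, fr_false, mul_assoc, Λ.z_sq, mul_one]

/-- PROOF. `x Y x⁻¹ = {1, z 1, u μ 0 c, u μ 0 (c + 1)}` is centralised by `P₁`, so `x⁻¹ P₁ x ≤ C(Y) ≤ N(T)`; its image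
under `exists_hom` is a 2-subgroup of `S₅`, of order at most 8. By `decide` there are `t`, `κ` such that for
`(m, a) ≠ 0` and `η = t a + κ m²` the vector `((m + a η) a, (m + a η) η)` is not in
`{(0, 0), (0, 1), (μ, c), (μ, c + 1)}`. Two of the 16 elements `pe m a (t a + κ m²) 0 0` have the same image; for
their product `p` (`pe_mul`; the image of `p = p₁⁻¹ p₂` is trivial), `x⁻¹ p x ∈ T` (`Act.mem_T`) has its square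
in `Y`; `pe_sq`. -/
theorem alpha (hI : centralizer (Λ.Y : Set G) ≤ normalizer (Λ.T : Set G)) {μ c d d' : F4} (h0 : μ ≠ 0)
    (h1 : μ ≠ 1) {x : G} (e : x * Λ.z d * x⁻¹ = Λ.z 1) (e' : x * Λ.z d' * x⁻¹ = Λ.u μ 0 c) : False := by
  have d0 : d ≠ 0 := fun k => by
    rw [k, Λ.z_eq_one.2 rfl, mul_one, mul_inv_cancel, eq_comm, Λ.z_eq_one] at e
    exact one_ne_zero e
  have d1 : d' ≠ 0 := fun k => by
    rw [k, Λ.z_eq_one.2 rfl, mul_one, mul_inv_cancel, eq_comm, Λ.u_eq_one] at e'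
    exact h0 e'.1
  have d2 : d ≠ d' := fun k => h0 (Λ.u_inj (e'.symm.trans (k ▸ e))).1
  have xz : ∀ f, ∃ p q, x * Λ.z f * x⁻¹ = Λ.u p 0 q ∧
      (p = 0 ∧ q = 0 ∨ p = 0 ∧ q = 1 ∨ p = μ ∧ q = c ∨ p = μ ∧ q = c + 1) := fun f => by
    rcases four d d' f d0 d1 d2 with rfl | rfl | rfl | rfl
    · exact ⟨0, 0, by rw [Λ.z_eq_one.2 rfl, Λ.u_zero]; group, by simp⟩
    · exact ⟨0, 1, e, by simp⟩
    · exact ⟨μ, c, e', by simp⟩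
    · exact ⟨μ, c + 1, by rw [← Λ.z_mul, cj_mul', e, e', Λ.u_mul_z], by simp⟩
  have cz : ∀ p ∈ Λ.P1, ∀ f, x⁻¹ * p * x⁻¹⁻¹ * Λ.z f = Λ.z f * (x⁻¹ * p * x⁻¹⁻¹) := fun p hp f => by
    obtain ⟨a, b, k, -⟩ := xz f
    have := cm_cj x⁻¹ (Λ.P1_v hp a b)
    rwa [← k, show x⁻¹ * (x * Λ.z f * x⁻¹) * x⁻¹⁻¹ = Λ.z f by group] at this
  obtain ⟨Φ, hΦ⟩ := Λ.exists_hom
  let ψ : Λ.P1 →* Perm (Fin 5) := Φ.comp (((MulAut.conj x⁻¹).toMonoidHom.comp Λ.P1.subtype).codRestrict _ fun p =>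
    mem_inf.2 ⟨hI (by rintro _ ⟨f, rfl⟩; exact (cz p p.2 f).symm), mem_centralizer_singleton_iff.2 (cz p p.2 1)⟩)
  have hψ : ∀ p : Λ.P1, ψ p = 1 → x⁻¹ * p * x⁻¹⁻¹ ∈ Λ.T := fun p k => by
    obtain ⟨σ, h⟩ : ∃ σ, Λ.Act (x⁻¹ * p * x⁻¹⁻¹) (ψ p) σ := hΦ ⟨x⁻¹ * p * x⁻¹⁻¹, _⟩
    obtain rfl : σ = false := fr_w _ _ (Λ.z_inj ((h.z F4.w).symm.trans (cj_of_comm (cz p p.2 _))))
    obtain ⟨n, en⟩ := pow_two_of_mem Λ.s1.pg p.2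
    exact Act.mem_T (k ▸ h) (k := n) (by rw [conj_pow, en]; group)
  obtain ⟨t, κ, ht⟩ := tk μ c h0 h1
  have c8 : Nat.card ψ.range < Nat.card (F4 × F4) := by
    obtain ⟨n, en⟩ := IsPGroup.iff_card.1 (Λ.s1.pg.of_surjective _ ψ.rangeRestrict_surjective)
    have := card_subgroup_dvd_card ψ.range
    rw [Nat.card_perm, en, Nat.card_eq_fintype_card, Fintype.card_fin] at this
    rw [en, Nat.card_prod, Nat.card_eq_fintype_card, F4.card_eq]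
    by_contra! k
    have : 2 ^ 4 ∣ Nat.factorial 5 := (pow_dvd_pow 2 ((Nat.pow_le_pow_iff_right one_lt_two).1 k)).trans this
    norm_num [Nat.factorial] at this
  obtain ⟨⟨m, a⟩, ⟨m', a'⟩, n, k⟩ : ∃ p q : F4 × F4, p ≠ q ∧
      ψ ⟨_, Λ.pe_mem p.1 p.2 (t * p.2 + κ * p.1 * p.1) 0 0⟩ = ψ ⟨_, Λ.pe_mem q.1 q.2 (t * q.2 + κ * q.1 * q.1) 0 0⟩ := by
    by_contra! k
    exact c8.not_ge (Nat.card_le_card_of_injective (fun p : F4 × F4 =>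
      ψ.rangeRestrict ⟨_, Λ.pe_mem p.1 p.2 (t * p.2 + κ * p.1 * p.1) 0 0⟩)
      fun p q e => by_contra fun n => k p q n (congrArg Subtype.val e))
  have hT := hψ _ ((map_mul ψ _ _).trans ((congrArg (· * _) (map_inv ψ _)).trans (inv_mul_eq_one.2 k)))
  obtain ⟨p, q, k1, k2⟩ := xz (Qf (Λ.β _))
  rw [← Λ.sq_β hT, ← cj_mul', cj_cj, mul_inv_cancel] at k1
  simp only [coe_mul, coe_inv, one_mul, inv_one, mul_one] at k1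
  have i : ∀ m a η, (Λ.pe m a η 0 0)⁻¹ = Λ.pe m a η ((m + a * η) * a) ((m + a * η) * η) := fun m a η => by
    rw [inv_eq_iff_mul_eq_one, pe_mul', add_self, add_self, add_self, pe, r_z0, w1_z0, Λ.y_zero, one_mul, one_mul,
      one_mul, Λ.u_eq_one]
    exact ⟨by linear_combination add_self (m * a) + add_self (a * a * η), rfl,
      by linear_combination add_self (m * η) + add_self (a * η * η)⟩
  rw [i, pe_mul', pe_sq, show t * a + κ * m * m + (t * a' + κ * m' * m') = t * (a + a') + κ * (m + m') * (m + m') by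
    linear_combination -add_self (κ * m * m')] at k1
  exact ht _ _ (ne_add _ _ _ _ n) p q (Λ.u_inj k1).1 (Λ.u_inj k1).2.2 k2

end Sz

end CL.SZ4
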