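import Cfsg.Agent.INV.SZ4.StI
import Cfsg.Agent.INV.SZ4.RK
import Cfsg.Agent.SPOR.LX
import Cfsg.Agent.SPOR.ES2

/-! The extraspecial group `Q`. -/

set_option autoImplicit false
set_option linter.unusedVariables false
set_option linter.unusedSectionVars false

namespace CL.SZ4

open Subgroup CL.MSS Equiv

set_option maxRecDepth 100000

namespace Qb

theorem ex_even : ∀ i : Fin 5, ∃ ρ : Perm (Fin 5), Perm.sign ρ = 1 ∧ ρ i = 0 := by decide +kernel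
theorem Bf_ff : ∀ γ : V5, ∑ i, γ i = 0 → ∀ i, Bf γ (ff i 1) = γ i := by decide +kernel
theorem ff_sum : ∀ i, ∑ j, ff i 1 j = 0 := by decide +kernel
theorem ff_sq : ∀ i j, ff i 1 j * ff i 1 j = ff i 1 j := by decide +kernel
theorem Qf_two : ∀ γ : V5, (∀ i, γ i * γ i = γ i) → Qf γ = 0 ∨ Qf γ = 1 := by decide +kernel
theorem sing : ∀ γ : V5, (∀ i, γ i * γ i = γ i) → ∑ i, γ i = 0 → Qf γ = 0 → γ = 0 ∨ ∃ i, γ = ff i 1 := by decide +kernel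
theorem two : ∀ c : F4, c + c * c = 0 → c = 0 ∨ c = 1 := by decide
theorem four : ∀ c : F4, c = 0 ∨ c = 1 ∨ c = F4.w ∨ c = 1 + F4.w := by decide
theorem fr_two : ∀ (σ : Bool) (c : F4), c * c = c → fr σ c = c := by decide

end Qb

open Qb

universe u
variable {G : Type u} [Group G] [Finite G]

/-- PROOF. Otherwise `X / ⟨z⟩` has three independent elements `a₁ a₂ a₃`, all non-trivial products have square
`z`; `(a b)² = a² b² [a, b]` gives `[a₁, a₂] = [a₁, a₃] = [a₁, a₂ a₃] = z`. -/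
theorem card_le_eight {X : Subgroup G} {z : G} (z2 : z * z = 1) (hc : ∀ x ∈ X, x * z = z * x)
    (h : ∀ x ∈ X, x = 1 ∨ x = z ∨ (x * x = z ∧ z ≠ 1)) : Nat.card X ≤ 8 := by
  by_cases h0 : ∀ x ∈ X, x ∈ zpowers z
  · exact (card_le_of_le h0).trans ((Nat.card_zpowers z).le.trans
      ((orderOf_le_of_pow_eq_one two_pos (by rw [sq, z2])).trans (by decide)))
  push Not at h0
  obtain ⟨a, ha, h1⟩ := h0
  have k : ∀ x ∈ X, x ∉ zpowers z → x * x = z ∧ z ≠ 1 := fun x hx n =>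
    ((h x hx).resolve_left fun e => n (e ▸ one_mem _)).resolve_left fun e => n (e ▸ mem_zpowers _)
  obtain ⟨a2, z1⟩ := k a ha h1
  have za : zpowers z ≤ zpowers a := zpowers_le.2 (a2 ▸ mul_mem (mem_zpowers a) (mem_zpowers a))
  have c : ∀ d ∈ X, d ∉ zpowers a → d * a * d⁻¹ = a * z := fun d hd n => by
    have d2 := (k d hd fun e => n (za e)).1
    have e := (k _ (mul_mem ha hd) fun e => n ((mul_mem_cancel_left (mem_zpowers a)).1 (za e))).1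
    calc _ = a⁻¹ * (a * d * (a * d)) * (d * d)⁻¹ := by group
      _ = _ := by rw [e, d2, inv_of_sq z2, ← a2, inv_mul_cancel_left]
  refine (RK.card_le_two (A := zpowers a) fun d hd d' hd' n n' => not_not.1 fun m => z1 ?_).trans
    (Nat.mul_le_mul_left 2 ((Nat.card_zpowers a).le.trans (orderOf_le_of_pow_eq_one (n := 4) (by decide)
      (by rw [show a ^ 4 = a * a * (a * a) by norm_num [pow_succ, mul_assoc], a2, z2]))))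
  have := c _ (mul_mem (inv_mem hd) hd') m
  rw [← cj_cj, c d' hd' n', ← c d hd n, cj_cj, inv_mul_cancel, one_mul, inv_one, mul_one, c d hd n] at this
  exact left_eq_mul.1 this

namespace Sq

variable (Λ : Sq G)

theorem qb_z (c : F4) : Λ.z c ∈ Λ.Qy :=
  ⟨Λ.uT .., fun i => by rw [(Λ.β_eq_zero (Λ.uT ..)).2 (Λ.z_mem c)]; simp⟩
theorem qb_H {g : G} : g ∈ Λ.H ↔ g * Λ.z 1 = Λ.z 1 * g := mem_centralizer_singleton_iff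
theorem qb_act : Λ.Act Λ.f 1 true := Λ.act
theorem qb_zp {x : G} : x ∈ zpowers (Λ.z 1) ↔ x = 1 ∨ x = Λ.z 1 := LX.mem_zpowers_of_sq (Λ.z_sq 1)
theorem qb_zY : zpowers (Λ.z 1) ≤ Λ.Y := zpowers_le.2 (Λ.z_mem 1)
theorem qb_NY {g : G} (hg : g ∈ Λ.H) (h : g * Λ.z F4.w * g⁻¹ ∈ Λ.Y) : g ∈ normalizer (Λ.Y : Set G) :=
  Bas.norm_Y_of _ fun c => by
    rcases four c with rfl | rfl | rfl | rfl
    · rw [Λ.z_eq_one.2 rfl, mul_one, mul_inv_cancel]; exact one_mem _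
    · rw [cj_of_comm (Λ.qb_H.1 hg)]; exact Λ.z_mem 1
    · exact h
    · rw [← Λ.z_mul, cj_mul', cj_of_comm (Λ.qb_H.1 hg)]; exact mul_mem (Λ.z_mem 1) h
theorem qb_Qy {x x' : G} (hx : x ∈ Λ.T) (hx' : x' ∈ Λ.T) (e : Λ.β x' = Λ.β x) (h : x * (Λ.f * x' * Λ.f⁻¹) ∈ Λ.Y) :
    x ∈ Λ.Qy := ⟨hx, fun i => by
  have a := congrFun ((Λ.β_eq_zero (Λ.Y_le_T h)).2 h) i
  have b : Λ.β _ i = _ := Λ.qb_act.act x' hx' i
  rw [Λ.β_mul hx (Λ.qb_act.conj_T hx'), Pi.add_apply, b, e] at a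
  change Λ.β x i + Λ.β x i * Λ.β x i = 0 at a
  linear_combination a - add_self (Λ.β x i)⟩
theorem qb_fz {c : F4} (h : Λ.z c * (Λ.f * Λ.z c * Λ.f⁻¹) = 1) : c = 0 ∨ c = 1 := by
  rw [Λ.qb_act.z, Λ.z_mul, Λ.z_eq_one] at h
  exact two c h

omit [Finite G] in
theorem f_sq : Λ.f * Λ.f = 1 := sq_cj _ ((Λ.u_sq 0 1 0).trans (Λ.z_eq_one.2 (zero_mul 1)))
omit [Finite G] in
theorem f_O {o : G} (ho : o ∈ Λ.O) : Λ.f * o = o * Λ.f := by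
  simpa only [cj_of_comm (Λ.gO o ho), f] using cm_cj Λ.g (Λ.comm (Λ.OK ho) (Λ.uL 0 1 0)).symm
omit [Finite G] in
theorem f_not_mem : Λ.f ∉ Λ.T := fun h =>
  absurd (Λ.z_inj ((cj_of_comm (Co.z_T h F4.w)).symm.trans (Λ.act.z F4.w))) (by decide)

/-- PROOF. `f x f = x z c` (`eq_of_β`), and `f² = 1` gives `c + c² = 0`. -/
theorem f_conj {x : G} (hx : x ∈ Λ.Qy) : Λ.f * x * Λ.f⁻¹ = x ∨ Λ.f * x * Λ.f⁻¹ = x * Λ.z 1 := by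
  obtain ⟨c, e⟩ := Λ.eq_of_β hx.1 (Λ.qb_act.conj_T hx.1) (funext fun i =>
    ((Λ.qb_act.act x hx.1 i).trans (hx.2 i)).symm)
  have := congrArg (fun y => Λ.f * y * Λ.f⁻¹) e
  simp only [cj_cj, Λ.f_sq, one_mul, inv_one, mul_one] at this
  rw [cj_mul', e, mul_assoc, left_eq_mul] at this
  rcases Λ.qb_fz this with rfl | rfl
  · exact .inl (by rw [e, Λ.z_eq_one.2 rfl, mul_one])
  · exact .inr e
theorem mem_Q {x : G} : x ∈ Λ.Q ↔ x ∈ Λ.Qy ∨ x * Λ.f ∈ Λ.Qy := by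
  rw [Q, mem_sup_of_normalizes_left (zpowers_le.2 (mem_normalizer_fintype fun _ => Λ.qb_act.conj_Qy))]
  refine ⟨?_, fun h => h.elim (fun h => ⟨x, h, 1, one_mem _, mul_one x⟩) fun h =>
    ⟨_, h, _, mem_zpowers _, by rw [mul_assoc, Λ.f_sq, mul_one]⟩⟩
  rintro ⟨y, hy, a, ha, rfl⟩
  rcases (LX.mem_zpowers_of_sq Λ.f_sq).1 ha with rfl | rfl
  · exact .inl (by rwa [mul_one])
  · exact .inr (by rwa [mul_assoc, Λ.f_sq, mul_one])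
theorem card_Q : Nat.card Λ.Q = 128 := by
  have a := RK.card_le_two (D := Λ.Q) (A := Λ.Qy) fun d hd d' hd' n n' => by
    simpa [mul_assoc] using Λ.qb_act.conj_Qy
      (mul_mem (inv_mem ((Λ.mem_Q.1 hd).resolve_left n)) ((Λ.mem_Q.1 hd').resolve_left n'))
  have b := RK.card_le_half (E := Λ.Qy) (V := Λ.Q) le_sup_left fun e =>
    Λ.f_not_mem (e.ge (mem_sup_right (mem_zpowers _))).1
  rw [Λ.card_Qy] at a b
  omega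
theorem pQ : IsPGroup 2 Λ.Q := IsPGroup.of_card (n := 7) Λ.card_Q
theorem Q_le_H : Λ.Q ≤ Λ.H :=
  sup_le (fun _ hx => Λ.qb_H.2 (Co.z_T hx.1 1)) (zpowers_le.2 (Λ.qb_H.2 (comm_of_cj (Λ.qb_act.z 1))))
theorem Q_O {x o : G} (hx : x ∈ Λ.Q) (ho : o ∈ Λ.O) : x * o = o * x :=
  ((sup_le (fun _ h _ h' => (Co.T_O h.1 h').symm) (zpowers_le.2 fun _ h => (Λ.f_O h).symm) :
    Λ.Q ≤ centralizer (Λ.O : Set G)) hx o ho).symm
theorem sq_Q {x : G} (hx : x ∈ Λ.Q) : x * x = 1 ∨ x * x = Λ.z 1 := by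
  have k : ∀ y ∈ Λ.Qy, y * y ∈ zpowers (Λ.z 1) := fun y hy => by
    rw [Λ.sq_β hy.1]
    rcases Qf_two _ hy.2 with e | e <;> rw [e]
    exacts [Λ.z_eq_one.2 rfl ▸ one_mem _, mem_zpowers _]
  refine Λ.qb_zp.1 ((Λ.mem_Q.1 hx).elim (k x) fun h => ?_)
  rw [show x * x = x * Λ.f * (Λ.f * (x * Λ.f) * Λ.f⁻¹) by rw [mul_assoc, ← mul_assoc Λ.f, ← mul_assoc Λ.f, Λ.f_sq]; group]
  rcases Λ.f_conj h with e | e <;> rw [e]
  exacts [k _ h, mul_assoc _ _ (Λ.z 1) ▸ mul_mem (k _ h) (mem_zpowers _)]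
theorem comm_Q {x x' : G} (hx : x ∈ Λ.Q) (hx' : x' ∈ Λ.Q) : x * x' * x⁻¹ = x' ∨ x * x' * x⁻¹ = x' * Λ.z 1 := by
  have k : ∀ y ∈ Λ.Q, y * y ∈ zpowers (Λ.z 1) := fun y hy => Λ.qb_zp.2 (Λ.sq_Q hy)
  have c : (x * x)⁻¹ * x' = x' * (x * x)⁻¹ := by
    rcases Λ.sq_Q hx with e | e <;> rw [e]
    · simp
    · rw [Λ.z_inv, Λ.qb_H.1 (Λ.Q_le_H hx')]
  have e : x * x' * x⁻¹ = x * x' * (x * x') * (x * x)⁻¹ * (x' * x')⁻¹ * x' :=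
    calc _ = x * x' * (x * x') * x'⁻¹ * ((x * x)⁻¹ * x') * x'⁻¹ := by group
      _ = _ := by rw [c]; group
  rcases Λ.qb_zp.1 (mul_mem (mul_mem (k _ (mul_mem hx hx')) (inv_mem (k _ hx))) (inv_mem (k _ hx'))) with h | h <;> rw [e, h]
  · exact .inl (one_mul _)
  · exact .inr (Λ.qb_H.1 (Λ.Q_le_H hx')).symm
theorem NI_y : Λ.NI (Λ.z F4.w) :=
  ⟨mem_sup_left (Λ.qb_z _), Λ.z_sq _, mt Λ.z_eq_one.1 (by decide), fun e => absurd (Λ.z_inj e) (by decide)⟩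

/-- PROOF. `s f = x o` (`Act.ker`), `s = x f o`, `s² = x (f x f) o²`, so `o = 1` and `β x + (β x)² = 0`. -/
theorem mem_Q_of {s : G} (h : Λ.Act s 1 true) (h2 : s * s ∈ Λ.Y) : s ∈ Λ.Q := by
  obtain ⟨x, hx, o, ho, e⟩ := Sz.Act.ker (h.mul Λ.qb_act)
  have e2 : s * s = x * (Λ.f * x * Λ.f⁻¹) * (o * o) := by
    rw [eq_mul_inv_of_mul_eq e, inv_of_sq Λ.f_sq, mul_assoc x o, ← Λ.f_O ho]
    calc _ = x * Λ.f * (o * x) * (Λ.f * o) := by group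
      _ = x * Λ.f * x * (o * Λ.f) * o := by rw [← Co.T_O hx ho]; group
      _ = _ := by rw [← Λ.f_O ho]; group
  have o2 := LX.eq_one_of_odd_of_pgroup Λ.Oodd Co.pT (mul_mem ho ho)
    ((mul_mem_cancel_left (mul_mem hx (Λ.qb_act.conj_T hx))).1 (e2 ▸ Λ.Y_le_T h2))
  rw [o2, mul_one] at e2
  rw [LX.eq_one_of_odd_of_two Λ.Oodd ho (k := 1) (by rw [pow_one, sq, o2]), mul_one] at e
  exact Λ.mem_Q.2 (.inr (e ▸ Λ.qb_Qy hx hx rfl (e2 ▸ h2)))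

theorem qb_N {n : G} (h1 : ∀ x ∈ Λ.Qy, n * x * n⁻¹ ∈ Λ.Q) (h2 : n * Λ.f * n⁻¹ ∈ Λ.Q) : n ∈ normalizer (Λ.Q : Set G) :=
  mem_normalizer_fintype fun x hx => (Λ.mem_Q.1 hx).elim (h1 x) fun h =>
    (mul_mem_cancel_right h2).1 (cj_mul' n x Λ.f ▸ h1 _ h)

/-- PROOF. `normY`, `exists_act`, `Act.conj_Qy`, `mem_Q_of` for `n f n⁻¹`. -/
theorem norm_Q {n : G} (hn : n ∈ normalizer (Λ.Y : Set G)) (hz : n ∈ Λ.H) : n ∈ normalizer (Λ.Q : Set G) := by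
  obtain ⟨π, σ, h⟩ := Λ.exists_act (Λ.normY hn) (Λ.qb_H.1 hz)
  refine Λ.qb_N (fun x hx => mem_sup_left (h.conj_Qy hx)) (Λ.mem_Q_of ?_ (sq_cj n Λ.f_sq ▸ one_mem _))
  cases σ <;> simpa using (h.mul Λ.qb_act).mul h.inv

theorem qb_u (b c : F4) (h : b * b = b) : Λ.u 0 b c ∈ Λ.Qy :=
  ⟨Λ.uT .., fun i => by rw [Λ.β_u]; fin_cases i <;> simp [h]⟩
theorem qb_gH : Λ.g ∈ Λ.H := Λ.qb_H.2 (comm_of_cj Λ.gz)

/-- PROOF. `Q = Q₀ ⟨u 0 1 0, f⟩`, `Q₀ = {x ∈ Qy | β x 0 = 0}`; `g² ∈ N(Y) ⊓ H` (`gy`, `gv`), so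
`g f g⁻¹ = g² (u 0 1 0) g⁻² ∈ Q`. -/
theorem g_norm : Λ.g ∈ normalizer (Λ.Q : Set G) := by
  have u := Λ.qb_u 1 0 (mul_one 1)
  refine Λ.qb_N (fun x hx => ?_) ?_
  · rcases two _ ((congrArg _ (hx.2 0)).trans (add_self _)) with e | e
    · exact mem_sup_left (Λ.gQ x hx e).1
    · exact (mul_mem_cancel_right (mem_sup_right (mem_zpowers Λ.f))).1 ((cj_mul' Λ.g x (Λ.u 0 1 0)).subst
        (motive := (· ∈ Λ.Q)) (mem_sup_left (Λ.gQ _ (mul_mem hx u) (by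
          rw [Λ.β_mul hx.1 u.1, Pi.add_apply, e, Λ.β_u]; rfl)).1))
  · have m := mul_mem Λ.qb_gH Λ.qb_gH
    rw [f, cj_cj]
    refine (mem_normalizer_iff.1 (Λ.norm_Q (Λ.qb_NY m ?_) m) _).1 (mem_sup_left u)
    rw [← cj_cj, Λ.gy]
    rcases Λ.gv with e | e <;> rw [e] <;> exact Λ.z_mem _

/-- `N(Q) ⊓ H ⊓ C(O)` -/
abbrev N1 : Subgroup G := normalizer (Λ.Q : Set G) ⊓ Λ.H ⊓ centralizer (Λ.O : Set G)

theorem qb_N1 {n : G} {π : Perm (Fin 5)} (h : Λ.Act n π false) (hO : ∀ o ∈ Λ.O, n * o = o * n) : n ∈ Λ.N1 :=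
  have a := Λ.qb_H.2 (comm_of_cj (h.z 1))
  ⟨⟨Λ.norm_Q (Λ.qb_NY a (by rw [h.z]; exact Λ.z_mem _)) a, a⟩, fun o ho => (hO o ho).symm⟩
theorem qb_T {n : G} (h : n ∈ Λ.T) : n ∈ Λ.N1 := Λ.qb_N1 (Λ.act_T h) fun _ => Co.T_O h
theorem qb_g : Λ.g ∈ Λ.N1 := ⟨⟨Λ.g_norm, Λ.qb_gH⟩, fun o ho => (Λ.gO o ho).symm⟩
theorem qb_cj {n x : G} (hn : n ∈ Λ.N1) (h : ∃ m ∈ Λ.N1, m * Λ.z F4.w * m⁻¹ = n * x * n⁻¹) :
    ∃ m ∈ Λ.N1, m * Λ.z F4.w * m⁻¹ = x :=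
  let ⟨m, hm, e⟩ := h; ⟨n⁻¹ * m, mul_mem (inv_mem hn) hm, by rw [← cj_cj, e]; group⟩

theorem qb_tr {x : G} (hx : x ∈ Λ.Qy) (h2 : x * x = 1) (h1 : x ≠ 1) (hz : x ≠ Λ.z 1) :
    ∃ m ∈ Λ.N1, m * Λ.z F4.w * m⁻¹ = x := by
  rcases sing _ hx.2 (Λ.β_sum x) (Λ.z_eq_one.1 ((Λ.sq_β hx.1).symm.trans h2)) with e | ⟨i, e⟩
  · obtain ⟨c, rfl⟩ := (Λ.β_eq_zero hx.1).1 e
    rcases four c with rfl | rfl | rfl | rfl
    · exact (h1 (Λ.z_eq_one.2 rfl)).elim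
    · exact (hz rfl).elim
    · exact ⟨1, one_mem _, by simp⟩
    · have m : Λ.f ∈ Λ.Q := mem_sup_right (mem_zpowers _)
      exact ⟨Λ.f, ⟨⟨le_normalizer m, Λ.Q_le_H m⟩, fun o ho => (Λ.f_O ho).symm⟩, Λ.qb_act.z _⟩
  obtain ⟨π, hπ, h0⟩ := ex_even i
  obtain ⟨n, hn, hO⟩ := Λ.act_even hπ
  obtain ⟨c, hc⟩ := Λ.eq_of_β (Λ.uT 1 0 0) (hn.conj_T hx.1) (funext fun j => by
    obtain ⟨j, rfl⟩ := π.surjective j
    rw [hn.act x hx.1, e, Λ.β_u, show (![0, 1, 1 + 0, 1 + 0, 1 + 0] : V5) = ff 0 1 by decide, ← h0]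
    simp [ff, fr])
  refine Λ.qb_cj (Λ.qb_N1 hn hO) ⟨Λ.u 0 (c + F4.w) 0 * Λ.g, mul_mem (Λ.qb_T (Λ.uT ..)) Λ.qb_g, ?_⟩
  rw [← cj_cj, Λ.gy, Λ.u_conj, hc, Λ.u_mul_z]
  exact Λ.u_congr rfl rfl (by linear_combination add_self F4.w)

/-- PROOF. The set of such `x` is invariant under `N₁ = N(Q) ⊓ H ⊓ C(O)` (which contains `T`, `f`, `g` and the lifts
of `A₅`) and under `x ↦ x z 1` (`f (z w) f = z v`). `x ∈ Y`: clear. `x ∈ Qy ∖ Y`: `β x = ff i 1` (`sq_β`, `decide`),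
move `i` to `0`, `x = u 1 0 c` is conjugate under `u 0 b 0` to `u 1 0 w = g (z w) g⁻¹`. `x = x₀ f`: with `τ ∈ T`,
`β τ = w β x₀`, `τ x τ⁻¹ = y f`, `y ∈ Y`, `y ∈ ⟨z 1⟩` as the square is `1`; `f = g (u 0 1 0) g⁻¹`. -/
theorem trans {x : G} (h : Λ.NI x) : ∃ n ∈ normalizer (Λ.Q : Set G), n ∈ Λ.H ∧ (∀ o ∈ Λ.O, n * o = o * n) ∧
    n * Λ.z F4.w * n⁻¹ = x := by
  suffices ∃ m ∈ Λ.N1, m * Λ.z F4.w * m⁻¹ = x from
    let ⟨m, hm, e⟩ := this; ⟨m, hm.1.1, hm.1.2, fun o ho => (hm.2 o ho).symm, e⟩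
  obtain ⟨h, h2, h1, hz⟩ := h
  rcases Λ.mem_Q.1 h with h | h
  · exact Λ.qb_tr h h2 h1 hz
  obtain ⟨τ, hτ, e⟩ := Λ.β_surj (γ := fun i => F4.w * Λ.β (x * Λ.f) i) (by rw [← Finset.mul_sum, Λ.β_sum, mul_zero])
  have m := Λ.qb_act.conj_T (inv_mem hτ)
  obtain ⟨c, hc⟩ := (Λ.β_eq_zero (mul_mem (mul_mem hτ h.1) m)).1 (funext fun i => by
    have b : Λ.β _ i = _ := Λ.qb_act.act _ (inv_mem hτ) i
    rw [Λ.β_mul (mul_mem hτ h.1) m, Λ.β_mul hτ h.1, Pi.add_apply, Pi.add_apply, b, Λ.β_inv hτ, e]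
    have := h.2 i
    beta_reduce
    generalize Λ.β (x * Λ.f) i = a at this
    revert a; change ∀ a : F4, _ → _ = (0 : F4); decide)
  have e : τ * x * τ⁻¹ = Λ.z c * Λ.f := by
    rw [← hc, mul_assoc _ _ Λ.f, inv_mul_cancel_right, mul_assoc τ (x * Λ.f), mul_assoc x, ← mul_assoc Λ.f, Λ.f_sq, one_mul, mul_assoc]
  have c2 := Λ.qb_fz (c := c) (by rw [inv_of_sq Λ.f_sq, ← sq_cj τ h2, e]; group)
  have e2 : Λ.g * Λ.u 0 1 c * Λ.g⁻¹ = Λ.z c * Λ.f := by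
    rw [← zero_add c, ← Λ.z_mul_u, cj_mul', zero_add]
    rcases c2 with rfl | rfl
    exacts [by rw [Λ.z_eq_one.2 rfl, mul_one, mul_inv_cancel]; rfl, by rw [Λ.gz]; rfl]
  refine Λ.qb_cj (Λ.qb_T hτ) (Λ.qb_cj (inv_mem Λ.qb_g) ?_)
  rw [e, ← e2, cj_cj, inv_mul_cancel, one_mul, inv_one, mul_one]
  exact Λ.qb_tr (Λ.qb_u _ _ (mul_one 1)) ((Λ.u_sq ..).trans (Λ.z_eq_one.2 (zero_mul 1)))
    (fun e => one_ne_zero (Λ.u_eq_one.1 e).2.1) fun e => one_ne_zero (Λ.u_inj e).2.1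

/-- PROOF. `trans` twice: `n'⁻¹ g⁻¹ n` fixes `z w` and `z 1`; `norm_Q`. -/
theorem TIQ {g x : G} (hg : g ∈ Λ.H) (h : Λ.NI x) (h' : x ∈ g •ᶜ Λ.Q) : g ∈ normalizer (Λ.Q : Set G) := by
  obtain ⟨n, n1, n2, -, e⟩ := Λ.trans h
  obtain ⟨m, m1, m2, -, e'⟩ := Λ.trans (x := g⁻¹ * x * g⁻¹⁻¹) ⟨by simpa using mem_cj.1 h', sq_cj _ h.2.1, cj_ne _ h.2.2.1,
    fun e => h.2.2.2 (by rw [← cj_of_comm (Λ.qb_H.1 hg), ← e]; group)⟩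
  have a := mul_mem (inv_mem m2) (mul_mem (inv_mem hg) n2)
  have := mul_mem (mul_mem m1 (Λ.norm_Q (Λ.qb_NY a (by
    rw [← cj_cj, ← cj_cj, e, ← e', cj_cj]; simpa using Λ.z_mem _)) a)) (inv_mem n1)
  simpa using this

/-- PROOF. `s ∈ N(Y)`; multiply by `f` to get `σ = false`; `π = 1`; `s' = x o`; multiply by an element of `Q`:
`[x, f] ∈ ⟨z 1⟩` gives `x ∈ Qy`. -/
theorem fixQ {s : G} (hs : s ∈ Λ.H) (h : ∀ a ∈ Λ.Q, s * a * s⁻¹ * a⁻¹ ∈ zpowers (Λ.z 1)) :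
    ∃ x ∈ Λ.Q, ∃ o ∈ Λ.O, s = x * o := by
  have hf : Λ.f ∈ Λ.Q := mem_sup_right (mem_zpowers _)
  obtain ⟨π, σ, a⟩ := Λ.exists_act (Λ.normY (Λ.qb_NY hs ((mul_mem_cancel_right (inv_mem (Λ.z_mem _))).1
    (Λ.qb_zY (h _ Λ.NI_y.1))))) (Λ.qb_H.1 hs)
  obtain rfl : π = 1 := Equiv.ext fun i => by
    obtain ⟨x, hx, e⟩ := Λ.β_surj (ff_sum i)
    have b := Λ.qb_zY (h x (mem_sup_left ⟨hx, e ▸ ff_sq i⟩))
    have c := congrFun ((Λ.β_eq_zero (Λ.Y_le_T b)).2 b) (π i)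
    rw [Λ.β_mul (a.conj_T hx) (inv_mem hx), Pi.add_apply, a.act x hx, Λ.β_inv hx, e, fr_two _ _ (ff_sq i i)] at c
    by_contra n
    simp [ff, show π i ≠ i from n] at c
  have k : ∀ s', Λ.Act s' 1 false → s' * Λ.f * s'⁻¹ * Λ.f⁻¹ ∈ Λ.Y → ∃ x ∈ Λ.Q, ∃ o ∈ Λ.O, s' = x * o := fun s' b c => by
    obtain ⟨x, hx, o, ho, rfl⟩ := b.ker
    refine ⟨x, mem_sup_left (Λ.qb_Qy hx (inv_mem hx) (Λ.β_inv hx) ?_), o, ho, rfl⟩
    rwa [← cj_cj, cj_of_comm (Λ.f_O ho).symm, mul_assoc, mul_assoc, ← mul_assoc Λ.f] at c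
  cases σ
  · exact k s a (Λ.qb_zY (h _ hf))
  · obtain ⟨x, hx, o, ho, e⟩ := k _ (a.mul Λ.qb_act) (by simpa [mul_assoc] using Λ.qb_zY (h _ hf))
    exact ⟨x * Λ.f⁻¹, mul_mem hx (inv_mem hf), o, ho, by
      rw [eq_mul_inv_of_mul_eq e, mul_assoc, mul_assoc, inv_of_sq Λ.f_sq, Λ.f_O ho]⟩

/-- PROOF. `fixQ`; an element of `Q` centralising `Q` lies in `Qy` (`z w`), in `Y` (`comm_β`), in `⟨z 1⟩` (`f`). -/
theorem cenQ {s : G} (h : s ∈ centralizer (Λ.Q : Set G)) : s ∈ Λ.O ∨ Λ.z 1 * s ∈ Λ.O := by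
  obtain ⟨x, hx, o, ho, rfl⟩ := Λ.fixQ (Λ.qb_H.2 (h _ (mem_sup_left (Λ.qb_z 1))).symm) fun a ha => by
    rw [cj_of_comm (h a ha).symm, mul_inv_cancel]; exact one_mem _
  have c : ∀ a ∈ Λ.Q, x * a * x⁻¹ = a := fun a ha => by
    have := cj_of_comm (h a ha).symm
    rwa [← cj_cj, cj_of_comm (Λ.Q_O ha ho).symm] at this
  rcases Λ.mem_Q.1 hx with hx | hx
  · obtain ⟨d, rfl⟩ := (Λ.β_eq_zero hx.1).1 (funext fun i => by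
      obtain ⟨y, hy, e⟩ := Λ.β_surj (ff_sum i)
      have := Λ.comm_β hx.1 hy
      rwa [c y (mem_sup_left ⟨hy, e ▸ ff_sq i⟩), left_eq_mul, Λ.z_eq_one, e, Bf_ff _ (Λ.β_sum x)] at this)
    rcases Λ.qb_fz (c := d) (by
      rw [cj_of_comm (comm_of_cj (c _ (mem_sup_right (mem_zpowers Λ.f)))).symm, Λ.z_sq]) with rfl | rfl
    · exact .inl (by rwa [Λ.z_eq_one.2 rfl, one_mul])
    · exact .inr (by rwa [← mul_assoc, Λ.z_sq, one_mul])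
  · have := cj_of_comm (Co.z_T hx.1 (fr true F4.w))
    rw [← Λ.qb_act.z, cj_cj, mul_assoc x, Λ.f_sq, mul_one, c _ Λ.NI_y.1, Λ.qb_act.z] at this
    exact absurd (Λ.z_inj this) (by decide)

/-- PROOF. Suppose not; `|C_Q(s)| ≤ 8` (`card_le_eight`). The elements `b = a (s a s)⁻¹` are inverted by `s`, so
lie in `⟨z⟩` or have order 4. If `b₁`, `b₂` have order 4 then `s` centralises `b₁ b₂` (`b⁻¹ = b z`), and
`b₁ b₂ ∈ [a₁ a₂, s] ⟨z⟩` is inverted by `s`, so `b₁ b₂ ∈ ⟨z⟩`. So `a ↦ a (s a s)⁻¹` takes at most four values and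
its fibres are cosets of `C_Q(s)`: `128 ≤ 4 * 8`. -/
theorem exists_NI {s : G} (hs : s ∈ normalizer (Λ.Q : Set G)) (hz : s ∈ Λ.H) (s2 : s * s = 1) :
    ∃ x, Λ.NI x ∧ s * x = x * s := by
  classical
  by_contra! n
  have zc : ∀ a ∈ Λ.Q, a * Λ.z 1 = Λ.z 1 * a := fun a ha => Λ.qb_H.1 (Λ.Q_le_H ha)
  have z1 : Λ.z 1 ≠ 1 := mt Λ.z_eq_one.1 one_ne_zero
  have k : ∀ x ∈ Λ.Q, s * x * s⁻¹ = x → x * x = 1 → x = 1 ∨ x = Λ.z 1 := fun x hx e h => by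
    by_contra! m; exact n x ⟨hx, h, m.1, m.2⟩ (comm_of_cj e)
  have c8 := card_le_eight (X := Λ.Q ⊓ centralizer {s}) (Λ.z_sq 1) (fun x hx => zc x hx.1) fun x hx =>
    (Λ.sq_Q hx.1).elim (fun h => (k x hx.1 (cj_of_comm (mem_centralizer_singleton_iff.1 hx.2).symm) h).imp_right .inl)
      fun h => .inr (.inr ⟨h, z1⟩)
  let φ : G → G := fun a => a * (s * a * s⁻¹)⁻¹
  have m : ∀ a ∈ Λ.Q, φ a ∈ Λ.Q := fun a ha => mul_mem ha (inv_mem ((mem_normalizer_iff.1 hs a).1 ha))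
  have i : ∀ a, s * φ a * s⁻¹ = (φ a)⁻¹ := fun a => by
    calc _ = s * a * s⁻¹ * (s * s * a * (s * s)⁻¹)⁻¹ := by simp only [φ]; group
      _ = _ := by rw [s2]; simp only [φ]; group
  have j : ∀ a ∈ Λ.Q, ¬ (φ a = 1 ∨ φ a = Λ.z 1) → (φ a)⁻¹ = φ a * Λ.z 1 := fun a ha h => by
    have := (Λ.sq_Q (m a ha)).resolve_left fun e => h (k _ (m a ha) ((i a).trans (inv_of_sq e)) e)
    rw [inv_eq_iff_mul_eq_one, ← mul_assoc, this, Λ.z_sq]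
  obtain ⟨b, hb⟩ : ∃ b, ∀ a ∈ Λ.Q, φ a = 1 ∨ φ a = Λ.z 1 ∨ φ a = b ∨ φ a = Λ.z 1 * b := by
    by_cases h : ∀ a ∈ Λ.Q, φ a = 1 ∨ φ a = Λ.z 1
    · exact ⟨1, fun a ha => (h a ha).imp_right .inl⟩
    obtain ⟨a', ha', h'⟩ : ∃ a ∈ Λ.Q, ¬ (φ a = 1 ∨ φ a = Λ.z 1) := by simpa only [not_forall, exists_prop] using h
    refine ⟨(φ a')⁻¹, fun a ha => or_assoc.1 ((em _).imp_right fun h => ?_)⟩
    have e1 : s * (φ a * φ a') * s⁻¹ = φ a * φ a' := by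
      rw [cj_mul', i, i, j a ha h, j a' ha' h', mul_assoc, ← mul_assoc (Λ.z 1), ← zc _ (m a' ha'), mul_assoc (φ a'), Λ.z_sq, mul_one]
    have e2 : s * (φ a * φ a') * s⁻¹ = (φ a * φ a')⁻¹ := by
      have e3 : φ (a' * a) = a' * φ a * a'⁻¹ * φ a' := by simp only [φ]; group
      have e4 := i (a' * a)
      rcases Λ.comm_Q ha' (m a ha) with e | e <;> rw [e3, e] at e4
      · exact e4
      · rw [mul_assoc (φ a), ← zc _ (m a' ha'), ← mul_assoc (φ a), cj_mul', cj_of_comm (Λ.qb_H.1 hz), mul_inv_rev, Λ.z_inv,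
          ← zc _ (inv_mem (mul_mem (m a ha) (m a' ha')))] at e4
        exact mul_right_cancel e4
    exact (k _ (mul_mem (m a ha) (m a' ha')) e1 (mul_eq_one_iff_eq_inv.2 (e1.symm.trans e2))).imp
      eq_inv_of_mul_eq_one_left eq_mul_inv_of_mul_eq
  have := RK.card_le_mul (D := Λ.Q) (A := Λ.Q ⊓ centralizer {s}) (ι := Fin 4)
    (fun a => if φ a = 1 then 0 else if φ a = Λ.z 1 then 1 else if φ a = b then 2 else 3) fun a ha a' ha' e => by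
      have e' : φ a = φ a' := by
        have := hb a ha; have := hb a' ha'
        split_ifs at e <;> first | exact absurd e (by decide) | grind
      refine mem_inf.2 ⟨mul_mem (inv_mem ha) ha', mem_centralizer_singleton_iff.2 ?_⟩
      calc _ = a⁻¹ * φ a' * s * a' := by simp only [φ]; group
        _ = _ := by rw [← e']; simp only [φ]; group
  rw [Λ.card_Q, Nat.card_fin] at this
  omega

end Sq

end CL.SZ4
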