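import Cfsg.Agent.INV.SZ4.Qb
import Cfsg.Agent.INV.SZ4.Pq

/-! Conjugates of `Y` in `N(Q)` lie in `Q`. -/

set_option autoImplicit false

namespace CL.SZ4

open Subgroup CL.MSS Equiv

set_option maxRecDepth 100000

namespace SC

theorem ex_even : ∀ i j : Fin 5, ∃ ρ : Perm (Fin 5), Perm.sign ρ = 1 ∧ ρ i = j := by decide +kernel
theorem ex_swap : ∀ π : Perm (Fin 5), π * π = 1 → Perm.sign π = -1 →
    ∃ ρ : Perm (Fin 5), Perm.sign ρ = 1 ∧ ρ * π * ρ⁻¹ = swap 0 1 := by decide +kernel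
theorem Bf_ff : ∀ γ : V5, ∑ i, γ i = 0 → ∀ i, Bf γ (ff i 1) = γ i := by decide +kernel
theorem ff_sum : ∀ i μ, ∑ j, ff i μ j = 0 := by decide +kernel
theorem Qf_ff : ∀ i μ, Qf (ff i μ) = 0 := by decide +kernel
theorem ff_ne : ∀ i, ff i 1 ≠ 0 := by decide +kernel
theorem ff_sq : ∀ i j, ff i 1 j * ff i 1 j = ff i 1 j := by decide +kernel
theorem ff_perm {γ : V5} {π : Perm (Fin 5)} {i : Fin 5} {μ : F4} (h : ∀ j, γ (π j) = ff i μ j) :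
    γ = ff (π i) μ := by
  funext j
  obtain ⟨j, rfl⟩ := π.surjective j
  simp [h, ff]
set_option synthInstance.maxSize 4000 in
theorem fin_c {c2 c3 c4 : F4} (n2 : c2 ≠ 0) (n3 : c3 ≠ 0) (n4 : c4 ≠ 0) (h : c2 + c3 + c4 = 1) {γ : V5}
    (hs : ∑ i, γ i = 0) (h0 : γ 0 = 0) (h1 : γ 1 = 0) (h2 : γ 2 = c2 + c2 * c2) (h3 : γ 3 = c3 + c3 * c3)
    (h4 : γ 4 = c4 + c4 * c4) : (γ = ff 3 1 + ff 4 1 → c3 + c4 = Qf γ) → (γ = ff 2 1 + ff 4 1 → c2 + c4 = Qf γ) →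
    (γ = ff 2 1 + ff 3 1 → c2 + c3 = Qf γ) → c2 = 1 ∧ c3 = 1 ∧ c4 = 1 ∧ γ = 0 := by
  obtain rfl : γ = ![0, 0, c2 + c2 * c2, c3 + c3 * c3, c4 + c4 * c4] := by
    funext i; fin_cases i <;> assumption
  clear h0 h1 h2 h3 h4
  revert c2 c3 c4
  decide +kernel

end SC

universe u
variable {G : Type u} [Group G] [Finite G]

namespace Sq

variable (Λ : Sq G)

omit [Finite G] in
theorem cenY_of {g : G} (h1 : g * Λ.z 1 = Λ.z 1 * g) (h2 : g * Λ.z F4.w = Λ.z F4.w * g) :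
    g ∈ centralizer (Λ.Y : Set G) := by
  rintro _ ⟨c, rfl⟩
  rcases (by decide : ∀ c : F4, c = 0 ∨ c = 1 ∨ c = F4.w ∨ c = 1 + F4.w) c with rfl | rfl | rfl | rfl
  · rw [Lz.z, Λ.u_zero, one_mul, mul_one]
  · exact h1.symm
  · exact h2.symm
  · rw [← Λ.z_mul, mul_assoc, ← h2, ← mul_assoc, ← h1, mul_assoc]

theorem act_of {g : G} (h1 : g * Λ.z 1 = Λ.z 1 * g) (h2 : g * Λ.z F4.w = Λ.z F4.w * g) :
    ∃ π, Λ.Act g π false := by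
  obtain ⟨π, σ, h⟩ := Λ.exists_act (Λ.cenY (Λ.cenY_of h1 h2)) h1
  cases σ
  · exact ⟨π, h⟩
  · exact absurd (Λ.z_inj ((h.z _).symm.trans (cj_of_comm h2))) (by decide)

omit [Finite G] in
theorem Qy_le : Λ.Qy ≤ Λ.Q := le_sup_left
omit [Finite G] in
theorem β_z (c : F4) : Λ.β (Λ.z c) = 0 := (Λ.β_eq_zero (Λ.uT ..)).2 (Λ.z_mem c)
omit [Finite G] in
theorem z_Qy (c : F4) : Λ.z c ∈ Λ.Qy := ⟨Λ.uT .., fun i => by simp [β_z]⟩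
omit [Finite G] in
theorem Ap_z {c : F4} (h : c ≠ 0) : Λ.Ap (Λ.z c) :=
  let ⟨m, _, _, e⟩ := Λ.conj_V (a := 0) (.inr h); isConj_iff.2 ⟨m, e⟩
omit [Finite G] in
theorem mem_H {g : G} : g ∈ Λ.H ↔ g * Λ.z 1 = Λ.z 1 * g := mem_centralizer_singleton_iff
omit [Finite G] in
theorem Act_H {g : G} {π : Perm (Fin 5)} {σ : Bool} (h : Λ.Act g π σ) : g ∈ Λ.H :=
  Λ.mem_H.2 (comm_of_cj ((h.z 1).trans (by rw [Bas.fr_one])))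
theorem Act_N {g : G} {π : Perm (Fin 5)} {σ : Bool} (h : Λ.Act g π σ) : g ∈ normalizer (Λ.Q : Set G) :=
  Λ.norm_Q (Bas.norm_Y_of _ fun c => h.z c ▸ Λ.z_mem _) (Λ.Act_H h)
omit [Finite G] in
theorem NI_of {x : G} (hx : x ∈ Λ.T) {i : Fin 5} (e : Λ.β x = ff i 1) : Λ.NI x :=
  ⟨Λ.Qy_le ⟨hx, fun j => e ▸ SC.ff_sq i j⟩, by rw [Λ.sq_β hx, e, SC.Qf_ff]; exact Λ.u_zero,
    fun k => SC.ff_ne i (by rw [← e, k, Λ.β_one]), fun k => SC.ff_ne i (by rw [← e, k, Λ.β_z])⟩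

/-- PROOF. `s = g (z w) g⁻¹` is `Ap`. If `π` is even and not `1`, `dt` and `not_Ap`. If `π = 1` then `s ∈ T`,
`β s = ff i μ` (`Ap_iff`), `μ ≠ 1` as `s ∉ Q`; move `i` to `0` (`act_even`) and apply `alpha`. -/
theorem odd_of {g : G} (hg : g ∈ Λ.H) {π : Perm (Fin 5)} (h : Λ.Act (g * Λ.z F4.w * g⁻¹) π false)
    (hQ : g * Λ.z F4.w * g⁻¹ ∉ Λ.Q) : Perm.sign π = -1 := by
  refine (Int.units_eq_one_or _).resolve_left fun hs => ?_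
  have s2 := sq_cj g (Λ.z_sq F4.w)
  have ap := (Λ.Ap_z (c := F4.w) (by decide)).cj g
  by_cases h1 : π = 1
  swap
  · exact Λ.not_Ap (Λ.dt h hs h1 (s2 ▸ one_mem _)) ap
  subst h1
  have hT := h.mem_T (k := 1) (by rw [pow_one, sq, s2])
  obtain ⟨i, μ, μ0, e⟩ := (Λ.Ap_iff hT fun ⟨c, e⟩ => hQ (e ▸ Λ.Qy_le (Λ.z_Qy c))).1 ap
  obtain ⟨ρ, hρ, hi⟩ := SC.ex_even i 0
  obtain ⟨n, hn, -⟩ := Λ.act_even hρ
  obtain ⟨c, ec⟩ := Λ.eq_of_β (Λ.uT μ 0 0) (hn.conj_T hT) (by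
    rw [SC.ff_perm (π := ρ) (i := i) (μ := μ) fun j => (hn.act _ hT j).trans (congrFun e j), hi, Λ.β_u]
    funext j; fin_cases j <;> simp [ff])
  refine Λ.alpha Λ.cenY μ0 (fun k => hQ (Λ.NI_of hT (k ▸ e)).1) (x := n * g) (d := 1) (d' := F4.w) (c := 0 + c)
    (cj_of_comm (Λ.mem_H.1 (mul_mem (Λ.Act_H hn) hg))) ?_
  rw [← cj_cj, ec, Λ.u_mul_z]

/-- the sign of the action in the frame `g` -/
theorem exists_chi {g : G} (hg : g ∈ Λ.H) (hQ : g * Λ.z F4.w * g⁻¹ ∉ Λ.Q) :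
    ∃ χ : ↥(Λ.Q ⊓ centralizer {g * Λ.z F4.w * g⁻¹}) →* ℤˣ, ∀ x, Λ.NI x.1 → χ x = -1 := by
  obtain ⟨Φ, hΦ⟩ := Λ.exists_hom
  have k : ∀ x ∈ Λ.Q ⊓ centralizer {g * Λ.z F4.w * g⁻¹}, g⁻¹ * x * g⁻¹⁻¹ * Λ.z 1 = Λ.z 1 * (g⁻¹ * x * g⁻¹⁻¹) ∧
      g⁻¹ * x * g⁻¹⁻¹ * Λ.z F4.w = Λ.z F4.w * (g⁻¹ * x * g⁻¹⁻¹) := fun x hx =>
    ⟨Λ.mem_H.1 (mul_mem (mul_mem (inv_mem hg) (Λ.Q_le_H hx.1)) (inv_mem (inv_mem hg))), by
      have := cm_cj g⁻¹ (mem_centralizer_singleton_iff.1 hx.2)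
      rwa [cj_cj, inv_mul_cancel, one_mul, inv_one, mul_one] at this⟩
  let ψ := ((MulAut.conj g⁻¹).toMonoidHom.comp (Λ.Q ⊓ centralizer {g * Λ.z F4.w * g⁻¹}).subtype).codRestrict
    (normalizer (Λ.T : Set G) ⊓ centralizer {Λ.z 1}) fun x =>
      ⟨Λ.cenY (Λ.cenY_of (k x x.2).1 (k x x.2).2), Λ.mem_H.2 (k x x.2).1⟩
  refine ⟨Perm.sign.comp (Φ.comp ψ), fun x hx => ?_⟩
  obtain ⟨n, -, hn, -, e⟩ := Λ.trans hx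
  obtain ⟨σ, h⟩ := hΦ (ψ x)
  obtain ⟨π, h'⟩ := Λ.act_of (k x x.2).1 (k x x.2).2
  have e' : g⁻¹ * x * g⁻¹⁻¹ = g⁻¹ * n * Λ.z F4.w * (g⁻¹ * n)⁻¹ := by rw [← e, cj_cj]
  show Perm.sign (Φ (ψ x)) = -1
  rw [(h.unique h').1]
  refine Λ.odd_of (mul_mem (inv_mem hg) hn) (e' ▸ h') fun m => hQ ?_
  rw [← e', inv_inv] at m
  exact (mem_normalizer_iff.1 (Λ.TIQ hg hx (mem_cj.2 m)) _).1 Λ.NI_y.1

theorem card_C {g : G} (hg : g ∈ Λ.H) (hQ : g * Λ.z F4.w * g⁻¹ ∉ Λ.Q) :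
    Nat.card ↥(Λ.Q ⊓ centralizer {g * Λ.z F4.w * g⁻¹}) ≤ 16 := by
  obtain ⟨χ, h⟩ := Λ.exists_chi hg hQ
  have k1 : Nat.card (χ.ker.map (Subgroup.subtype _)) ≤ 8 := card_le_eight (Λ.z_sq 1)
    (by rintro _ ⟨x, -, rfl⟩; exact Λ.mem_H.1 (Λ.Q_le_H x.2.1)) (by
      rintro _ ⟨x, hx, rfl⟩
      by_contra hn
      push Not at hn
      rcases Λ.sq_Q x.2.1 with e | e
      · exact absurd ((h x ⟨x.2.1, e, hn.1, hn.2.1⟩).symm.trans hx) (by decide)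
      · exact one_ne_zero (Λ.z_eq_one.1 (hn.2.2 e)))
  rw [card_map_of_injective (Subgroup.subtype_injective _)] at k1
  have k2 : χ.ker.index ≤ 2 := by
    rw [index_ker]
    exact (Nat.card_le_card_of_injective _ Subtype.val_injective).trans (by simp)
  rw [← χ.ker.card_mul_index]
  exact Nat.mul_le_mul k1 k2

theorem sc1 {g : G} (hg : g ∈ Λ.H) (h : Λ.Act (g * Λ.z F4.w * g⁻¹) (swap 0 1) false) :
    g * Λ.z F4.w * g⁻¹ ∈ Λ.Q := by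
  by_contra hQ
  have hc := Λ.card_C hg hQ
  obtain ⟨χ, hχ⟩ := Λ.exists_chi hg hQ
  have s2 := sq_cj g (Λ.z_sq F4.w)
  generalize g * Λ.z F4.w * g⁻¹ = s at *
  have si := inv_of_sq s2
  have hz : ∀ c, s * Λ.z c * s⁻¹ = Λ.z c := h.z
  have mC : ∀ {x}, x ∈ Λ.Q → s * x * s⁻¹ = x → x ∈ Λ.Q ⊓ centralizer {s} := fun hx e =>
    ⟨hx, mem_centralizer_singleton_iff.2 (comm_of_cj e).symm⟩
  have ss : ∀ x, s * (s * x * s⁻¹) * s⁻¹ = x := fun x => by rw [cj_cj, s2]; simp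
  -- the additive function `c`
  have add : ∀ {x x' : G} {c c' : F4}, x' ∈ Λ.T → s * x * s⁻¹ = x * Λ.z c → s * x' * s⁻¹ = x' * Λ.z c' →
      s * (x * x') * s⁻¹ = x * x' * Λ.z (c + c') := fun hx' e e' => by
    rw [cj_mul', e, e', mul_assoc, ← mul_assoc (Λ.z _), ← Co.z_T hx', ← Λ.z_mul]; simp only [mul_assoc]
  have dep : ∀ {x x' : G} {c c' : F4}, x ∈ Λ.T → x' ∈ Λ.T → Λ.β x = Λ.β x' → s * x * s⁻¹ = x * Λ.z c →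
      s * x' * s⁻¹ = x' * Λ.z c' → c = c' := fun hx hx' e e1 e2 => by
    obtain ⟨d, rfl⟩ := Λ.eq_of_β hx hx' e
    rw [add (c' := 0) (Λ.uT ..) e1 ((hz d).trans (by rw [Lz.z, Lz.z, Λ.u_zero, mul_one])), add_zero,
      mul_right_inj] at e2
    exact Λ.z_inj e2
  have inv : ∀ {x : G}, x ∈ Λ.T → s * x * s⁻¹ = x⁻¹ → s * x * s⁻¹ = x * Λ.z (Qf (Λ.β x)) := fun {x} hx e => by
    rw [e, inv_eq_iff_mul_eq_one, ← mul_assoc, Λ.sq_β hx, Λ.z_sq]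
  have ex : ∀ i : Fin 5, i ≠ 0 → i ≠ 1 → ∃ x ∈ Λ.T, Λ.β x = ff i 1 ∧ ∃ c ≠ 0, s * x * s⁻¹ = x * Λ.z c :=
    fun i i0 i1 => by
      obtain ⟨x, hx, e⟩ := Λ.β_surj (SC.ff_sum i 1)
      obtain ⟨c, ec⟩ := Λ.eq_of_β hx (h.conj_T hx) (by
        rw [SC.ff_perm (π := swap 0 1) (i := i) (μ := 1) fun j => (h.act _ hx j).trans (congrFun e j),
          swap_apply_of_ne_of_ne i0 i1, e])
      refine ⟨x, hx, e, c, ?_, ec⟩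
      rintro rfl
      rw [Lz.z, Λ.u_zero, mul_one] at ec
      have n1 := Λ.NI_of hx e
      have := map_mul χ ⟨x, mC n1.1 ec⟩ ⟨_, mC Λ.NI_y.1 (hz _)⟩
      rw [hχ _ (Λ.NI_of (i := i) (mul_mem hx (Λ.uT ..)) (by
        show Λ.β (x * _) = _
        rw [Λ.β_mul hx (Λ.uT ..), Λ.β_z, add_zero, e])), hχ _ n1, hχ _ Λ.NI_y] at this
      exact absurd this (by decide)
  obtain ⟨x2, m2, b2, c2, n2, e2⟩ := ex 2 (by decide) (by decide)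
  obtain ⟨x3, m3, b3, c3, n3, e3⟩ := ex 3 (by decide) (by decide)
  obtain ⟨x4, m4, b4, c4, n4, e4⟩ := ex 4 (by decide) (by decide)
  have bu : Λ.β (Λ.u 1 0 0) = ff 0 1 := by rw [Λ.β_u]; decide
  have mu := h.conj_T (Λ.uT 1 0 0)
  have bs : Λ.β (s * Λ.u 1 0 0 * s⁻¹) = ff 1 1 :=
    SC.ff_perm (π := swap 0 1) (i := 0) fun j => by rw [h.act _ (Λ.uT ..), bu]; rfl
  have mb := mul_mem mu (inv_mem (Λ.uT 1 0 0))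
  have bb : Λ.β (s * Λ.u 1 0 0 * s⁻¹ * (Λ.u 1 0 0)⁻¹) = ff 1 1 + ff 0 1 := by
    rw [Λ.β_mul mu (inv_mem (Λ.uT ..)), Λ.β_inv (Λ.uT ..), bu, bs]
  have ic : ∀ x : G, s * (s * x * s⁻¹ * x⁻¹) * s⁻¹ = (s * x * s⁻¹ * x⁻¹)⁻¹ := fun x => by
    rw [cj_mul', ss]; group
  have sum : c2 + c3 + c4 = 1 := by
    rw [dep (mul_mem (mul_mem m2 m3) m4) mb (by
      rw [Λ.β_mul (mul_mem m2 m3) m4, Λ.β_mul m2 m3, b2, b3, b4, bb]; decide) (add m4 (add m3 e2 e3) e4)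
      (inv mb (ic _)), bb]
    decide
  -- the element `f'`
  obtain ⟨f, fQ, af, m0, b0⟩ : ∃ f ∈ Λ.Q, Λ.Act f 1 true ∧ s * f * s⁻¹ * f⁻¹ ∈ Λ.T ∧
      Λ.β (s * f * s⁻¹ * f⁻¹) 0 = 0 := by
    have af : Λ.Act Λ.f 1 true := Λ.act
    have fQ : Λ.f ∈ Λ.Q := mem_sup_right (mem_zpowers _)
    have a1 : Λ.Act (s * Λ.f * s⁻¹) 1 true := by simpa using (h.mul af).mul h.inv
    have q1 := Λ.mem_Q_of a1 (by rw [sq_cj s Λ.f_sq]; exact one_mem _)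
    have m0 : s * Λ.f * s⁻¹ * Λ.f⁻¹ ∈ Λ.Qy := by
      rw [inv_of_sq Λ.f_sq]
      exact (Λ.mem_Q.1 q1).resolve_left fun k => absurd (a1.unique (Λ.act_T k.1)).2 (by decide)
    by_cases k : Λ.β (s * Λ.f * s⁻¹ * Λ.f⁻¹) 0 = 0
    · exact ⟨_, fQ, af, m0.1, k⟩
    have e : s * (Λ.f * Λ.u 1 0 0) * s⁻¹ * (Λ.f * Λ.u 1 0 0)⁻¹ = s * Λ.f * s⁻¹ * Λ.f⁻¹ *
      (Λ.f * (s * Λ.u 1 0 0 * s⁻¹ * (Λ.u 1 0 0)⁻¹) * Λ.f⁻¹) := by group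
    refine ⟨Λ.f * Λ.u 1 0 0, mul_mem fQ (Λ.NI_of (Λ.uT ..) bu).1, by simpa using af.mul (Λ.act_T (Λ.uT 1 0 0)),
      e ▸ mul_mem m0.1 (af.conj_T mb), ?_⟩
    have := af.act _ mb 0
    rw [Perm.one_apply, bb] at this
    rw [e, Λ.β_mul m0.1 (af.conj_T mb), Pi.add_apply, this, mul_left_cancel₀ k ((m0.2 0).trans (mul_one _).symm)]
    decide
  have i0 := inv m0 (ic f)
  have ef : s * f * s⁻¹ = s * f * s⁻¹ * f⁻¹ * f := by group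
  generalize s * f * s⁻¹ * f⁻¹ = x0 at m0 b0 i0 ef
  have b1 : Λ.β x0 1 = 0 := by
    have := h.act _ m0 0
    rwa [i0, Λ.β_mul m0 (Λ.uT ..), Λ.β_z, add_zero, swap_apply_left, b0] at this
  have rel : ∀ {x : G} {i : Fin 5} {c : F4}, x ∈ Λ.T → Λ.β x = ff i 1 → s * x * s⁻¹ = x * Λ.z c →
      Λ.β x0 i = c + c * c := fun {x i c} hx b e => by
    obtain ⟨ε, eε⟩ : ∃ ε, f * x * f⁻¹ = x * Λ.z ε :=
      (Λ.comm_Q fQ (Λ.NI_of hx b).1).elim (fun k => ⟨0, by rw [k, Lz.z, Λ.u_zero, mul_one]⟩) fun k => ⟨1, k⟩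
    have := congrArg (fun t => s * t * s⁻¹) eε
    simp only [cj_mul' s, hz, e] at this
    rw [show s * f⁻¹ * s⁻¹ = (s * f * s⁻¹)⁻¹ by group, ef, ← cj_cj, cj_mul' f, eε, af.z, mul_assoc x, Λ.z_mul,
      cj_mul' x0, Λ.comm_β m0 hx, cj_of_comm (Co.z_T m0 _), b, SC.Bf_ff _ (Λ.β_sum _), mul_assoc, mul_assoc,
      mul_right_inj, Λ.z_mul, Λ.z_mul] at this
    have k : Λ.β x0 i + (ε + c * c) = c + ε := Λ.z_inj this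
    linear_combination k - add_self (c * c)
  have two : ∀ {x x' : G} {c c' : F4} {i j : Fin 5}, x ∈ Λ.T → x' ∈ Λ.T → Λ.β x = ff i 1 → Λ.β x' = ff j 1 →
      s * x * s⁻¹ = x * Λ.z c → s * x' * s⁻¹ = x' * Λ.z c' → Λ.β x0 = ff i 1 + ff j 1 →
      c + c' = Qf (Λ.β x0) := fun hx hx' b b' e e' k =>
    dep (mul_mem hx hx') m0 (by rw [Λ.β_mul hx hx', b, b', k]) (add hx' e e') i0
  obtain ⟨rfl, rfl, rfl, z0⟩ := SC.fin_c n2 n3 n4 sum (Λ.β_sum x0) b0 b1 (rel m2 b2 e2) (rel m3 b3 e3)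
    (rel m4 b4 e4) (two m3 m4 b3 b4 e3 e4) (two m2 m4 b2 b4 e2 e4) (two m2 m3 b2 b3 e2 e3)
  obtain ⟨d, rfl⟩ := (Λ.β_eq_zero m0).1 z0
  have hd : d = 0 ∨ d = 1 := by
    have k : s * (f * f) * s⁻¹ = f * f := (Λ.sq_Q fQ).elim (fun k => by simp [k]) fun k => by rw [k, hz]
    rw [cj_mul', ef, show Λ.z d * f * (Λ.z d * f) = Λ.z d * (f * Λ.z d * f⁻¹) * (f * f) by group, af.z, Λ.z_mul,
      mul_eq_right, Λ.z_eq_one] at k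
    exact (by decide : ∀ d : F4, d + fr true d = 0 → d = 0 ∨ d = 1) d k
  obtain ⟨f', fC, af'⟩ : ∃ f' ∈ Λ.Q ⊓ centralizer {s}, Λ.Act f' 1 true := by
    rcases hd with rfl | rfl
    · exact ⟨f, mC fQ (by rw [ef, Lz.z, Λ.u_zero, one_mul]), af⟩
    · refine ⟨f * x2, mC (mul_mem fQ (Λ.NI_of m2 b2).1) ?_, by simpa using af.mul (Λ.act_T m2)⟩
      rw [cj_mul', ef, e2, ← Λ.mem_H.1 (Λ.Act_H af), Co.z_T m2, mul_assoc, ← mul_assoc (Λ.z 1), Λ.z_sq, one_mul]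
  have mq : ∀ {x x' : G} {i j : Fin 5}, x ∈ Λ.T → x' ∈ Λ.T → Λ.β x = ff i 1 → Λ.β x' = ff j 1 →
      s * x * s⁻¹ = x * Λ.z 1 → s * x' * s⁻¹ = x' * Λ.z 1 → x * x' ∈ (Λ.Q ⊓ centralizer {s}) ⊓ Λ.T :=
    fun hx hx' b b' e e' => ⟨mC (mul_mem (Λ.NI_of hx b).1 (Λ.NI_of hx' b').1) (by
      rw [add hx' e e', add_self, Lz.z, Λ.u_zero, mul_one]), mul_mem hx hx'⟩
  have k1 : ∀ p : F4, ∃ x ∈ (Λ.Q ⊓ centralizer {s}) ⊓ Λ.T, Λ.β x 2 + F4.w * Λ.β x 4 = p := fun p => by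
    rcases (by decide : ∀ c : F4, c = 0 ∨ c = 1 ∨ c = F4.w ∨ c = F4.v) p with rfl | rfl | rfl | rfl
    · exact ⟨1, one_mem _, by simp [Λ.β_one]⟩
    · exact ⟨_, mq m2 m3 b2 b3 e2 e3, by rw [Λ.β_mul m2 m3, b2, b3]; decide⟩
    · exact ⟨_, mq m3 m4 b3 b4 e3 e4, by rw [Λ.β_mul m3 m4, b3, b4]; decide⟩
    · exact ⟨_, mq m2 m4 b2 b4 e2 e4, by rw [Λ.β_mul m2 m4, b2, b4]; decide⟩
  choose a ma ba using k1
  have mz : ∀ p c, a p * Λ.z c ∈ (Λ.Q ⊓ centralizer {s}) ⊓ Λ.T := fun p c =>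
    mul_mem (ma p) ⟨mC (Λ.Qy_le (Λ.z_Qy c)) (hz c), Λ.uT ..⟩
  have k2 := Nat.card_le_card_of_injective (β := ↥((Λ.Q ⊓ centralizer {s}) ⊓ Λ.T))
    (fun p : F4 × F4 => ⟨_, mz p.1 p.2⟩) fun p q e => by
      have e := congrArg Subtype.val e
      have e' := congrArg Λ.β e
      rw [Λ.β_mul (ma _).2 (Λ.uT ..), Λ.β_mul (ma _).2 (Λ.uT ..), Λ.β_z, Λ.β_z, add_zero, add_zero] at e'
      have e1 : p.1 = q.1 := by rw [← ba p.1, e', ba]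
      exact Prod.ext e1 (Λ.z_inj (by simpa [e1] using e))
  have k3 := Subgroup.eq_of_le_of_card_ge (inf_le_left (a := Λ.Q ⊓ centralizer {s}) (b := Λ.T))
    (hc.trans (by simpa [F4.card_eq] using k2))
  exact absurd (af'.unique (Λ.act_T (k3.ge fC).2)).2 (by decide)

/-- PROOF. Let `s = g (z w) g⁻¹ ∉ Q`. `C = Q ⊓ C(s)`; `g⁻¹ C g ≤ C(Y) ≤ N(T)`, so `χ x = sign Φ (g⁻¹ x g)` is a
homomorphism `C → ±1` (`exists_hom`), and `χ x = -1` for `NI x`, `x ∈ C` (`trans`, `odd_of` for `g⁻¹ n`;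
`g⁻¹ x g ∉ Q` by `TIQ`). So `ker χ` contains no `NI` element, `|ker χ| ≤ 8` (`card_le_eight`), and there are no
`NI` elements `x`, `x'`, `x x'` in `C` (*). By `exists_NI`, `trans` we may assume that `s` centralises `Y`; by
`odd_of` it acts as a transposition, and after `act_even` as `swap 0 1`. Choose `x i ∈ Qy`, `β (x i) = ff i 1`,
`s (x i) s = x i * z (c i)` for `i = 2, 3, 4`; `c i ≠ 0` by (*) (`x i`, `z w`, `x i * z w`).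
`b = u 1 0 0 * s (u 1 0 0) s` is inverted by `s`, `b² = z 1`, `β b = β (x 2 x 3 x 4)`: `c 2 + c 3 + c 4 = 1`.
`s f s = x₀ f` with `x₀ ∈ Qy` (`mem_Q_of`), `x₀` inverted by `s`; replacing `f` by `f' = f` or `f * u 1 0 0` we get
`β x₀ 0 = β x₀ 1 = 0`. Conjugating `f' (x i) f'⁻¹ ∈ x i ⟨z 1⟩` by `s` gives `β x₀ i = c i + (c i)²`. If two of these
are `1`, say `i = 3, 4`, then `x₀ ∈ x 3 x 4 Y`, `x₀² = z 1`, so `c 3 + c 4 = 1`, `c 2 = 0`. So all vanish: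
`c i = 1`, `x₀ ∈ Y`, `x₀ ∈ ⟨z 1⟩` (squares). Then `C` contains `Y`, `x 2 x 3`, `x 3 x 4` and `f'` or `f' x 2`:
`|C| ≥ 32`, but `|C| ≤ 2 * 8`. -/
theorem sc0 {g : G} (hg : g ∈ Λ.H) (h : g * Λ.z F4.w * g⁻¹ ∈ normalizer (Λ.Q : Set G)) :
    g * Λ.z F4.w * g⁻¹ ∈ Λ.Q := by
  have s2 := sq_cj g (Λ.z_sq F4.w)
  have sH := mul_mem (mul_mem hg (Λ.Q_le_H Λ.NI_y.1)) (inv_mem hg)
  obtain ⟨x, hx, e⟩ := Λ.exists_NI h sH s2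
  obtain ⟨n, nQ, nH, -, rfl⟩ := Λ.trans hx
  have k : ∀ {m : G}, m ∈ normalizer (Λ.Q : Set G) → m * g * Λ.z F4.w * (m * g)⁻¹ ∈ Λ.Q →
      g * Λ.z F4.w * g⁻¹ ∈ Λ.Q := fun hm e => (mem_normalizer_iff.1 hm _).2 (cj_cj _ g _ ▸ e)
  have gH := mul_mem (inv_mem nH) hg
  obtain ⟨π, a⟩ := Λ.act_of (g := n⁻¹ * g * Λ.z F4.w * (n⁻¹ * g)⁻¹)
    (Λ.mem_H.1 (mul_mem (mul_mem gH (Λ.Q_le_H Λ.NI_y.1)) (inv_mem gH))) (by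
      have := cm_cj n⁻¹ e
      rwa [cj_cj, cj_cj, inv_mul_cancel, one_mul, inv_one, mul_one] at this)
  by_contra hQ
  obtain ⟨ρ, hρ, e'⟩ := SC.ex_swap π ((a.mul a).unique (sq_cj _ (Λ.z_sq F4.w) ▸ Λ.act_T (one_mem _))).1
    (Λ.odd_of gH a fun m => hQ (k (inv_mem nQ) m))
  obtain ⟨m, hm, -⟩ := Λ.act_even hρ
  refine hQ (k (mul_mem (Λ.Act_N hm) (inv_mem nQ)) (Λ.sc1 (mul_assoc m _ g ▸ mul_mem (Λ.Act_H hm) gH) ?_))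
  rw [mul_assoc m, ← cj_cj, ← e']
  exact (hm.mul a).mul hm.inv

end Sq

end CL.SZ4
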