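import Cfsg.Agent.INV.SZ4.SC0

/-! `Q` is normal in `C(z)`. -/

set_option autoImplicit false

namespace CL.SZ4

open Subgroup CL.MSS Equiv

set_option maxRecDepth 100000

namespace S3

theorem wt : ∀ γ : V5, ∑ i, γ i = 0 → (∀ i, γ i * γ i = γ i) ∨
    (∃ i, ∀ j, (γ j + ff i F4.w j) * (γ j + ff i F4.w j) = γ j + ff i F4.w j) ∨ ∃ k : Fin 5, ∃ i, ∀ j,
      (γ (j - k) + γ j + ff i F4.w j) * (γ (j - k) + γ j + ff i F4.w j) = γ (j - k) + γ j + ff i F4.w j := by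
  decide +kernel
theorem sing : ∀ γ : V5, ∑ i, γ i = 0 → (∀ i, γ i * γ i = γ i) → Qf γ = 0 → γ = 0 ∨ ∃ i, γ = ff i 1 := by
  decide +kernel
theorem sgn : ∀ k : Fin 5, Perm.sign (Equiv.addRight k) = 1 := by decide +kernel
theorem pair : ∀ i : Fin 5, ∃ j k l : Fin 5, let γ : V5 := ff j F4.w + ff k F4.w; let δ : V5 := ff j 1 + ff l 1
    ∑ m, γ m = 0 ∧ ∑ m, δ m = 0 ∧ γ i = 0 ∧ δ i = 0 ∧ (∀ m, δ m * δ m = δ m) ∧ Bf γ δ = F4.w := by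
  decide +kernel

end S3

universe u
variable {G : Type u} [Group G] [Finite G]

namespace Sq

variable (Λ : Sq G)

/-- trivial action on `Q / ⟨z⟩` -/
def Tv (n : G) : Prop := ∀ a ∈ Λ.Q, n * a * n⁻¹ * a⁻¹ ∈ zpowers (Λ.z 1)

omit [Finite G] in
theorem cj_z {n x : G} (hn : n ∈ Λ.H) (hx : x ∈ zpowers (Λ.z 1)) : n * x * n⁻¹ = x := by
  obtain ⟨k, rfl⟩ := hx
  exact cj_of_comm (Commute.zpow_right (Λ.mem_H.1 hn) k)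

omit [Finite G] in
theorem Tv.mul {Λ : Sq G} {n m : G} (hn : n ∈ Λ.H) (h : Λ.Tv n) (h' : Λ.Tv m) : Λ.Tv (n * m) := fun a ha => by
  rw [show n * m * a * (n * m)⁻¹ * a⁻¹ = n * (m * a * m⁻¹ * a⁻¹) * n⁻¹ * (n * a * n⁻¹ * a⁻¹) by group,
    Λ.cj_z hn (h' a ha)]
  exact mul_mem (h' a ha) (h a ha)

theorem Tv_Q {q : G} (hq : q ∈ Λ.Q) : Λ.Tv q := fun a ha => by
  rcases Λ.comm_Q hq ha with e | e <;> rw [e]
  · simp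
  · rw [Λ.mem_H.1 (Λ.Q_le_H ha)]; simp

theorem Tv_O {o : G} (ho : o ∈ Λ.O) : Λ.Tv o := fun a ha => by rw [← Λ.Q_O ha ho]; simp

omit [Finite G] in
theorem fQ : Λ.f ∈ Λ.Q := mem_sup_right (mem_zpowers _)

theorem act_Q {x : G} (hx : x ∈ Λ.Q) (h : x ∉ Λ.Qy) : Λ.Act x 1 true := by
  simpa using (Λ.act_T ((Λ.mem_Q.1 hx).resolve_left h).1).mul (show Λ.Act Λ.f 1 true from Λ.act).inv

theorem mem_Qy_of {x : G} (hx : x ∈ Λ.Q) (e : x * Λ.z F4.w = Λ.z F4.w * x) : x ∈ Λ.Qy := by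
  by_contra h
  exact absurd (Λ.z_inj (((Λ.act_Q hx h).z _).symm.trans (cj_of_comm e))) (by decide)

omit [Finite G] in
theorem NI.cj {Λ : Sq G} {x n : G} (h : Λ.NI x) (hn : n ∈ Λ.H) (hN : n ∈ normalizer (Λ.Q : Set G)) :
    Λ.NI (n * x * n⁻¹) :=
  ⟨(mem_normalizer_iff.1 hN x).1 h.1, sq_cj n h.2.1, cj_ne n h.2.2.1, fun e => h.2.2.2 (by
    rwa [← cj_of_comm (Λ.mem_H.1 hn), mul_left_inj, mul_right_inj] at e)⟩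

section
variable {K : Subgroup G} (hK : ∀ n ∈ Λ.H, n ∈ normalizer (Λ.Q : Set G) → n ∈ normalizer (K : Set G))
  (hQ : Λ.Q ≤ K)
include hK

theorem cjK {n x : G} {π : Perm (Fin 5)} {σ : Bool} (h : Λ.Act n π σ) (hx : x ∈ K) : n * x * n⁻¹ ∈ K :=
  (mem_normalizer_iff.1 (hK n (Λ.Act_H h) (Λ.Act_N h)) x).1 hx

include hQ

theorem nrm1 {x : G} (hx : x ∈ K) (hT : x ∈ Λ.T) (h : x ∉ Λ.Qy) : Λ.u 0 F4.w 0 ∈ K := by
  have key : ∀ x ∈ K, x ∈ Λ.T → ∀ i, (∀ j, (Λ.β x j + ff i F4.w j) * (Λ.β x j + ff i F4.w j) =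
      Λ.β x j + ff i F4.w j) → Λ.u 0 F4.w 0 ∈ K := fun x hx hT i e => by
    obtain ⟨ρ, hρ, hi⟩ := SC.ex_even i 1
    obtain ⟨n, hn, -⟩ := Λ.act_even hρ
    have m := hn.conj_T hT
    refine (mul_mem_cancel_left (Λ.cjK hK hn hx)).1 (hQ (Λ.Qy_le ⟨mul_mem m (Λ.uT ..), fun j => ?_⟩))
    obtain ⟨j, rfl⟩ := ρ.surjective j
    have : Λ.β (Λ.u 0 F4.w 0) (ρ j) = ff i F4.w j := by
      rw [show Λ.β (Λ.u 0 F4.w 0) = ff (ρ i) F4.w by rw [Λ.β_u, hi]; decide]; simp [ff]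
    rw [Λ.β_mul m (Λ.uT ..), Pi.add_apply, hn.act x hT, this]
    exact e j
  rcases S3.wt _ (Λ.β_sum x) with e | ⟨i, e⟩ | ⟨k, i, e⟩
  · exact absurd ⟨hT, e⟩ h
  · exact key x hx hT i e
  · obtain ⟨n, hn, -⟩ := Λ.act_even (S3.sgn k)
    refine key _ (mul_mem (Λ.cjK hK hn hx) hx) (mul_mem (hn.conj_T hT) hT) i fun j => ?_
    have : Λ.β _ (j - k + k) = _ := hn.act x hT (j - k)
    rw [sub_add_cancel] at this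
    rw [Λ.β_mul (hn.conj_T hT) hT, Pi.add_apply, this]
    exact e j

theorem nrm2 {n : G} (hn : n ∈ K) {π : Perm (Fin 5)} (h : Λ.Act n π false) (h1 : π ≠ 1) :
    Λ.u 0 F4.w 0 ∈ K := by
  obtain ⟨i, hi⟩ : ∃ i, π i ≠ i := by by_contra e; push Not at e; exact h1 (Equiv.ext e)
  obtain ⟨x, hx, e⟩ := Λ.β_surj (SC.ff_sum i F4.w)
  refine Λ.nrm1 hK hQ (x := n * x * n⁻¹ * x⁻¹) (by
    simpa [mul_assoc] using mul_mem hn (Λ.cjK hK (Λ.act_T hx) (inv_mem hn)))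
    (mul_mem (h.conj_T hx) (inv_mem hx)) fun m => ?_
  have := m.2 (π i)
  rw [Λ.β_mul (h.conj_T hx) (inv_mem hx), Pi.add_apply, h.act x hx, Λ.β_inv hx, e] at this
  simp only [ff, if_pos, if_neg hi] at this
  exact absurd this (by decide)

theorem nrm3 {n : G} (hn : n ∈ K) {π : Perm (Fin 5)} {σ : Bool} (h : Λ.Act n π σ) (h1 : ¬ Λ.Tv n) :
    Λ.u 0 F4.w 0 ∈ K := by
  wlog hσ : σ = false generalizing n σ
  · obtain rfl : σ = true := by simpa using hσ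
    refine this (mul_mem hn (hQ Λ.fQ)) (by simpa using h.mul (show Λ.Act Λ.f 1 true from Λ.act)) (fun e => h1 ?_) rfl
    simpa using e.mul (mul_mem (Λ.Act_H h) (Λ.Q_le_H Λ.fQ)) (Λ.Tv_Q (inv_mem Λ.fQ))
  subst hσ
  by_cases e : π = 1
  swap
  · exact Λ.nrm2 hK hQ hn h e
  subst e
  obtain ⟨x, hx, o, ho, rfl⟩ := h.ker
  refine Λ.nrm1 hK hQ ?_ hx fun m =>
    h1 ((Λ.Tv_Q (Λ.Qy_le m)).mul (Λ.Q_le_H (Λ.Qy_le m)) (Λ.Tv_O ho))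
  obtain ⟨k, hk⟩ := Λ.Oodd
  have e : o ^ (2 * k + 1) = 1 := hk ▸ orderOf_dvd_iff_pow_eq_one.1 (orderOf_dvd_natCard _ ho)
  have := pow_mem hn ((2 * k + 1) * (2 * k + 1))
  rwa [Commute.mul_pow (Co.T_O hx ho), pow_mul o, e, one_pow, mul_one,
    show (2 * k + 1) * (2 * k + 1) = 2 * (2 * (k * k + k)) + 1 by ring, pow_succ, pow_mul, pow_mul, sq, sq,
    Co.sq_T hx, Λ.z_sq, one_pow, one_mul] at this

theorem nrm4 {k : G} (hk : k ∈ K) (hH : k ∈ Λ.H) (hN : k ∈ normalizer (Λ.Q : Set G))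
    (h : k * Λ.z F4.w * k⁻¹ ∈ Λ.Qy) (hY : k * Λ.z F4.w * k⁻¹ ∉ Λ.Y) : Λ.u 0 F4.w 0 ∈ K := by
  obtain ⟨i, e⟩ := (S3.sing _ (Λ.β_sum _) h.2 (Λ.z_eq_one.1 ((Λ.sq_β h.1).symm.trans
    (sq_cj k (Λ.z_sq _))))).resolve_left fun e => hY ((Λ.β_eq_zero h.1).1 e)
  obtain ⟨j, l, m, s1, s2, g0, d0, d2, hb⟩ := S3.pair i
  obtain ⟨t, ht, bt⟩ := Λ.β_surj s1
  obtain ⟨q, hq, bq⟩ := Λ.β_surj s2
  have cm : ∀ {a}, a ∈ Λ.T → Λ.β a i = 0 → k⁻¹ * a * k⁻¹⁻¹ * Λ.z F4.w = Λ.z F4.w * (k⁻¹ * a * k⁻¹⁻¹) :=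
    fun {a} ha e0 => by
      have := Λ.comm_β ha h.1
      rw [e, SC.Bf_ff _ (Λ.β_sum _), e0, Λ.z_eq_one.2 rfl, mul_one] at this
      have := cm_cj k⁻¹ (comm_of_cj this)
      rwa [cj_cj, inv_mul_cancel, one_mul, inv_one, mul_one] at this
  obtain ⟨π, a⟩ := Λ.act_of (Λ.mem_H.1 (mul_mem (mul_mem (inv_mem hH) (Λ.Act_H (Λ.act_T ht)))
    (inv_mem (inv_mem hH)))) (cm ht (bt ▸ g0))
  by_cases h1 : π = 1
  swap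
  · refine Λ.nrm2 hK hQ (n := k⁻¹ * t * k⁻¹⁻¹ * t⁻¹) ?_ (by simpa using a.mul (Λ.act_T (inv_mem ht))) h1
    simpa [mul_assoc] using mul_mem (inv_mem hk) (Λ.cjK hK (Λ.act_T ht) hk)
  subst h1
  obtain ⟨r, hr⟩ := pow_two_of_mem Co.pT ht
  have := Λ.comm_β (a.mem_T (k := r) (by rw [conj_pow, hr]; simp)) (Λ.mem_Qy_of ((mem_normalizer_iff.1
    (inv_mem hN) q).1 (Λ.Qy_le ⟨hq, bq ▸ d2⟩)) (cm hq (bq ▸ d0))).1
  generalize Bf _ _ = d at this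
  have e2 : k * Λ.z d * k⁻¹ = Λ.z F4.w := by
    have e1 := Λ.comm_β ht hq
    rw [bt, bq, hb] at e1
    rw [← mul_right_inj q, ← e1]
    calc _ = k * (k⁻¹ * q * k⁻¹⁻¹ * Λ.z d) * k⁻¹ := by group
      _ = _ := by rw [← this]; group
  rcases (by decide : ∀ c : F4, c = 0 ∨ c = 1 ∨ c = F4.w ∨ c = F4.w + 1) d with rfl | rfl | rfl | rfl
  · rw [Lz.z, Λ.u_zero, mul_one, mul_inv_cancel] at e2
    exact absurd (Λ.z_eq_one.1 e2.symm) (by decide)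
  · exact absurd (Λ.z_inj ((cj_of_comm (Λ.mem_H.1 hH)).symm.trans e2)) (by decide)
  · exact absurd (e2.symm ▸ Λ.z_mem F4.w :) hY
  · rw [← Λ.z_mul, cj_mul', cj_of_comm (Λ.mem_H.1 hH), ← eq_mul_inv_iff_mul_eq] at e2
    exact absurd (e2 ▸ mul_mem (Λ.z_mem _) (inv_mem (Λ.z_mem _))) hY

end

/-- PROOF. `N₀ = N(Q) ⊓ H`, `K₀ = K ⊓ N₀`.
(1) Suppose `n ∈ K ⊓ N(Y)` acts non-trivially on `Q / ⟨z⟩`; multiplying by `f` it has an action `(π, false)`. If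
`π ≠ 1`, `π i ≠ i`, the commutator with `τ`, `β τ = ff i w`, lies in `K ⊓ T ∖ Qy`. If `π = 1`, `n = τ o`, `τ ∈ K` (a
power of `n`), `τ ∉ Qy`. Let `ι = β τ + (β τ)² ≠ 0`, a vector over `F2` of weight 2 or 4; multiplying `τ` by a
conjugate under an even permutation we get weight 4, then `ι = ff 1 1`, `β τ + ff 1 w ∈ F2⁵`: `u 0 w 0 ∈ τ Qy`.
(2) `Q` is generated by its `NI` elements, so `n` moves some `⟨z, x⟩`, and by `trans` some `k ∈ K₀` has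
`x = k (z w) k⁻¹ ∉ Y`. The set `Ω` of the `k (z w) k⁻¹`, `k ∈ K₀`, is invariant under `C(Y) ⊓ N₀ ≥ T` and under
multiplication by `z 1`. If `x = x₀ f ∉ Qy` then `x` is `T`-conjugate to `f` or `f z`, so `f ∈ Ω` and
`f' = τ f τ⁻¹ ∈ Ω` with `β τ = ff 0 w`; `f' f ∈ Qy` has `β = ff 0 1`, is an involution, so `f`, `f'` commute and
`f' ∉ ⟨z, f⟩`; with `f = k₁ (z w) k₁⁻¹` replace `x` by `k₁⁻¹ f' k₁ ∈ Ω`. So we may assume `x ∈ Qy ∖ Y`, and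
(`act_even`) `β x = ff 0 1`.
Take `t ∈ T` with `β t = w (e₁ + e₂)`: `t` centralises `x`, so `k⁻¹ t k ∈ C(Y)` has an action `(π, false)`, and
`n' = k⁻¹ t k t⁻¹ ∈ K`. If `π = 1` then `k⁻¹ t k ∈ T`, so `[t, C_Q(x)] ≤ k Y k⁻¹ = ⟨z, x⟩`; but `q ∈ Qy` with
`β q = e₁ + e₃` centralises `x` and `[t, q] = z w`. So `π ≠ 1` and (1) applies to `n'`. -/
theorem nrmQ {K : Subgroup G} (hK : ∀ n ∈ Λ.H, n ∈ normalizer (Λ.Q : Set G) → n ∈ normalizer (K : Set G))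
    (hQ : Λ.Q ≤ K) {n : G} (hn : n ∈ K) (hH : n ∈ Λ.H) (hN : n ∈ normalizer (Λ.Q : Set G))
    (h : ∃ a ∈ Λ.Q, n * a * n⁻¹ * a⁻¹ ∉ zpowers (Λ.z 1)) : Λ.u 0 F4.w 0 ∈ K := by
  have nx := Λ.NI_y.cj hH hN
  by_cases hY : n * Λ.z F4.w * n⁻¹ ∈ Λ.Y
  · suffices k : ∀ c, n * Λ.z c * n⁻¹ ∈ Λ.Y by
      obtain ⟨π, σ, a⟩ := Λ.exists_act (Λ.normY (Bas.norm_Y_of _ k)) (Λ.mem_H.1 hH)
      exact Λ.nrm3 hK hQ hn a fun e => let ⟨a, ha, k⟩ := h; k (e a ha)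
    intro c
    have z1 : n * Λ.z 1 * n⁻¹ ∈ Λ.Y := (cj_of_comm (Λ.mem_H.1 hH)).symm ▸ Λ.z_mem 1
    rcases (by decide : ∀ c : F4, c = 0 ∨ c = 1 ∨ c = F4.w ∨ c = F4.w + 1) c with rfl | rfl | rfl | rfl
    · rw [Lz.z, Λ.u_zero, mul_one, mul_inv_cancel]; exact one_mem _
    exacts [z1, hY, by rw [← Λ.z_mul, cj_mul']; exact mul_mem hY z1]
  by_cases hq : n * Λ.z F4.w * n⁻¹ ∈ Λ.Qy
  · exact Λ.nrm4 hK hQ hn hH hN hq hY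
  have ax := Λ.act_Q nx.1 hq
  obtain ⟨t, ht, bt⟩ := Λ.β_surj (SC.ff_sum 0 F4.w)
  have at' := Λ.act_T ht
  have e0 : n⁻¹ * (t * n * t⁻¹) * Λ.z F4.w * (n⁻¹ * (t * n * t⁻¹))⁻¹ =
      n⁻¹ * (t * (n * Λ.z F4.w * n⁻¹) * t⁻¹) * n⁻¹⁻¹ :=
    calc _ = n⁻¹ * (t * (n * (t⁻¹ * Λ.z F4.w * t⁻¹⁻¹) * n⁻¹) * t⁻¹) * n⁻¹⁻¹ := by group
      _ = _ := by rw [cj_of_comm (Co.z_T (inv_mem ht) _)]
  have e1 : ∀ d, n * Λ.z d * n⁻¹ = t * (n * Λ.z F4.w * n⁻¹) * t⁻¹ → d = 0 ∨ d = 1 ∨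
      t * (n * Λ.z F4.w * n⁻¹) * t⁻¹ * (n * Λ.z F4.w * n⁻¹) ∈ Λ.Y := fun d e => by
    rcases (by decide : ∀ c : F4, c = 0 ∨ c = 1 ∨ c = F4.w ∨ c = 1 + F4.w) d with rfl | rfl | rfl | rfl
    · exact .inl rfl
    · exact .inr (.inl rfl)
    · exact .inr (.inr (by rw [← e, nx.2.1]; exact one_mem _))
    · exact .inr (.inr (by
        rw [← e, ← Λ.z_mul, cj_mul', mul_assoc, nx.2.1, mul_one, cj_of_comm (Λ.mem_H.1 hH)]; exact Λ.z_mem 1))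
  have e2 : n⁻¹ * (n * Λ.z F4.w * n⁻¹) * n⁻¹⁻¹ = Λ.z F4.w := by group
  generalize n * Λ.z F4.w * n⁻¹ = x at *
  have e3 : t * x * t⁻¹ * x = t * (x * t⁻¹ * x⁻¹) := by rw [inv_of_sq nx.2.1]; group
  have m3 := mul_mem ht (ax.conj_T (inv_mem ht))
  have b3 : Λ.β (t * (x * t⁻¹ * x⁻¹)) = ff 0 1 := by
    funext j
    have := ax.act _ (inv_mem ht) j
    rw [Perm.one_apply, Λ.β_inv ht, bt] at this
    rw [Λ.β_mul ht (ax.conj_T (inv_mem ht)), Pi.add_apply, this, bt]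
    clear this; revert j; decide
  have nx' := nx.cj (Λ.Act_H at') (Λ.Act_N at')
  have cm : t * x * t⁻¹ * x = x * (t * x * t⁻¹) := by
    have := (Λ.NI_of m3 b3).2.1
    rw [← e3] at this
    rw [← inv_of_sq this, mul_inv_rev, inv_of_sq nx.2.1, inv_of_sq nx'.2.1]
  refine Λ.nrm4 hK hQ (k := n⁻¹ * (t * n * t⁻¹)) (mul_mem (inv_mem hn) (Λ.cjK hK at' hn))
    (mul_mem (inv_mem hH) (mul_mem (mul_mem (Λ.Act_H at') hH) (inv_mem (Λ.Act_H at'))))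
    (mul_mem (inv_mem hN) (mul_mem (mul_mem (Λ.Act_N at') hN) (inv_mem (Λ.Act_N at')))) ?_ ?_
  · rw [e0]
    exact Λ.mem_Qy_of (nx'.cj (inv_mem hH) (inv_mem hN)).1 (e2 ▸ cm_cj n⁻¹ cm)
  · rw [e0]
    rintro ⟨d, e⟩
    have e' : n * Λ.z d * n⁻¹ = t * x * t⁻¹ := by rw [← e]; group
    rcases e1 d e' with rfl | rfl | k
    · exact nx'.2.2.1 (by rw [← e', Lz.z, Λ.u_zero]; group)
    · exact nx'.2.2.2 (by rw [← e', cj_of_comm (Λ.mem_H.1 hH)])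
    · exact SC.ff_ne 0 (b3 ▸ (Λ.β_eq_zero m3).2 (e3 ▸ k))

omit [Finite G] in
theorem eq_one_of {o : G} (ho : o ∈ Λ.O) {k : ℕ} (e : o ^ 2 ^ k = 1) : o = 1 :=
  orderOf_eq_one_iff.1 (Nat.eq_one_of_dvd_coprimes ((Nat.coprime_two_right.2 Λ.Oodd).pow_right k)
    (orderOf_dvd_natCard _ ho) (orderOf_dvd_of_pow_eq_one e))

theorem fixQ' {s : G} (hs : s ∈ Λ.H) {k : ℕ} (e : s ^ 2 ^ k = 1) (h : Λ.Tv s) : s ∈ Λ.Q := by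
  obtain ⟨x, hx, o, ho, rfl⟩ := Λ.fixQ hs h
  obtain ⟨m, hm⟩ := pow_two_of_mem Λ.pQ hx
  have : (x * o) ^ (2 ^ k * 2 ^ m) = 1 := by rw [pow_mul, e, one_pow]
  rw [Commute.mul_pow (Λ.Q_O hx ho), mul_comm (2 ^ k), pow_mul x, hm, one_pow, one_mul, ← pow_add] at this
  rwa [Λ.eq_one_of ho this, mul_one]

/-- PROOF. `gs` with `Z = ⟨z 1⟩`, `A = Q`, `e = z w`, `e' = u 1 0 0` (`four`: `TIQ`). `cnt`: `D = Q^g ⊓ N(Q)`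
contains no non-central involution of `Q^g` (`trans`, `sc0`, `TIQ`), so `|D| ≤ 8` (`card_le_eight`); for `d ∈ D`
the map `b ↦ [b, d]` is a homomorphism `Q / Z → Q / Z` with image inside its kernel (`d² ∈ Z`), so the preimage
of the kernel has at least 16 elements. -/
theorem H_le : Λ.H ≤ normalizer (Λ.Q : Set G) := by
  have zQ : zpowers (Λ.z 1) ≤ Λ.Q := zpowers_le.2 (Λ.Qy_le (Λ.z_Qy 1))
  have sq : ∀ a ∈ Λ.Q, a * a ∈ zpowers (Λ.z 1) := fun a ha =>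
    (Λ.sq_Q ha).elim (fun e => e ▸ one_mem _) fun e => e ▸ mem_zpowers _
  have bu : ∀ c, Λ.β (Λ.u 1 0 c) = ff 0 1 := fun c => by rw [Λ.β_u]; decide
  have od : ∀ {x}, Λ.NI x → orderOf x = 2 := fun h => orderOf_eq_prime (by rw [pow_two, h.2.1]) h.2.2.1
  have n1 := Λ.NI_of (Λ.uT ..) (bu 0)
  have ti : ∀ {x a}, x ∈ Λ.H → Λ.NI a → x * a = a * x → x ∈ normalizer (Λ.Q : Set G) := fun hx ha e =>
    Λ.TIQ hx ha (cj_of_comm e ▸ conj_mem_cj ha.1)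
  refine gs Λ.pQ Λ.Q_le_H zQ (fun z hz g hg => comm_of_cj (Λ.cj_z hg hz)) sq (fun g hg hn => ?_)
    (fun s hs _ ⟨k, e⟩ h => Λ.fixQ' hs e h)
    (fun K _ h2 h3 n hn hN h => ⟨_, Λ.nrmQ (fun m hm _ => h2 hm) h3 hn (‹K ≤ Λ.H› hn) hN h,
      Λ.Act_N (Λ.act_T (Λ.uT ..)), fun m => ?_, by rw [Λ.u_sq, zero_mul, Λ.z_eq_one.2 rfl]; exact one_mem _⟩)
    Λ.NI_y.1 n1.1 (od Λ.NI_y) (od n1) (Λ.z_comm ..).symm (fun e => absurd (Λ.u_inj e).1 (by decide))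
    fun x hx e => e.elim (ti hx Λ.NI_y) fun e => e.elim (ti hx n1)
      (ti hx (by rw [Λ.u_mul_z]; exact Λ.NI_of (Λ.uT ..) (bu _)))
  swap
  · have := (Λ.mem_Qy_of m (Λ.z_comm ..).symm).2 0
    rw [Λ.β_u] at this
    exact absurd this (by decide)
  obtain ⟨d, hd, dQ⟩ := SetLike.not_le_iff_exists.1 hn
  have gH : g •ᶜ Λ.Q ≤ Λ.H := cj_le_of_mem Λ.Q_le_H hg
  have sq' : ∀ x ∈ g •ᶜ Λ.Q, x * x = 1 ∨ x * x = Λ.z 1 := fun x hx => by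
    obtain ⟨a, ha, rfl⟩ := mem_cj'.1 hx
    exact (Λ.sq_Q ha).imp (sq_cj g) fun e => by rw [← cj_mul', e, cj_of_comm (Λ.mem_H.1 hg)]
  refine ⟨d, hd, dQ, lt_of_le_of_lt (card_le_eight (Λ.z_sq 1) (fun x hx => Λ.mem_H.1 (gH hx.1)) fun x hx => ?_) ?_⟩
  · by_contra k
    push Not at k
    have x2 := (sq' x hx.1).resolve_right fun e => one_ne_zero (Λ.z_eq_one.1 (k.2.2 e))
    obtain ⟨a, ha, rfl⟩ := mem_cj'.1 hx.1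
    obtain ⟨n, -, nH, -, rfl⟩ := Λ.trans ⟨ha, by simpa [← cj_mul'] using x2, fun e => k.1 (by simp [e]),
      fun e => k.2.1 (by rw [e, cj_of_comm (Λ.mem_H.1 hg)])⟩
    have := Λ.TIQ hg ⟨cj_cj g n _ ▸ Λ.sc0 (mul_mem hg nH) (cj_cj g n _ ▸ hx.2), x2, k.1, k.2.1⟩ hx.1
    exact hn (inf_le_left.trans (cj_eq_of_mem_normalizer this).le)
  let W : Subgroup G :=
    { carrier := {b | b ∈ Λ.Q ∧ b * d * b⁻¹ * d⁻¹ ∈ zpowers (Λ.z 1)}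
      one_mem' := ⟨one_mem _, by simp⟩
      mul_mem' := fun {a b} ha hb => ⟨mul_mem ha.1 hb.1, by
        rw [show a * b * d * (a * b)⁻¹ * d⁻¹ = a * (b * d * b⁻¹ * d⁻¹) * a⁻¹ * (a * d * a⁻¹ * d⁻¹) by group,
          Λ.cj_z (Λ.Q_le_H ha.1) hb.2]
        exact mul_mem hb.2 ha.2⟩
      inv_mem' := fun {a} ha => ⟨inv_mem ha.1, by
        rw [show a⁻¹ * d * a⁻¹⁻¹ * d⁻¹ = a⁻¹ * (a * d * a⁻¹ * d⁻¹)⁻¹ * a⁻¹⁻¹ by group,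
          Λ.cj_z (Λ.Q_le_H (inv_mem ha.1)) (inv_mem ha.2)]
        exact inv_mem ha.2⟩ }
  have d2 : d * d ∈ zpowers (Λ.z 1) := (sq' d hd.1).elim (fun e => e ▸ one_mem _) fun e => e ▸ mem_zpowers _
  have k := CL.VM.cnt (A := zpowers (Λ.z 1)) (W := W) (d := d) le_rfl
    (fun x hx => ⟨zQ hx, by rw [← comm_of_cj (Λ.cj_z (gH hd.1) hx)]; simp⟩) (fun _ h => h.1)
    (fun a ha b hb => Λ.Tv_Q ha b hb) hd.2
    (mem_normalizer_fintype fun x hx => (Λ.cj_z (gH hd.1) hx).symm ▸ hx) fun b hb => by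
      have m : b * d * b⁻¹ * d⁻¹ ∈ Λ.Q := by
        simpa [mul_assoc] using mul_mem hb ((mem_normalizer_iff.1 hd.2 _).1 (inv_mem hb))
      refine ⟨m, ?_⟩
      convert sq _ m using 1
      calc _ = b * d * b⁻¹ * d⁻¹ * (d * d) * b * d⁻¹ * b⁻¹ * d⁻¹ := by group
        _ = b * d * b⁻¹ * d⁻¹ * (b * (b⁻¹ * (d * d) * b⁻¹⁻¹) * (d * d)⁻¹ * d * b⁻¹ * d⁻¹) := by group
        _ = _ := by rw [Λ.cj_z (Λ.Q_le_H (inv_mem hb)) d2]; group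
  rw [Λ.card_Q, Nat.card_zpowers, orderOf_eq_prime (p := 2) (by rw [pow_two, Λ.z_sq])
    (mt Λ.z_eq_one.1 one_ne_zero)] at k
  have k1 : Nat.card W = {b | b ∈ Λ.Q ∧ b * d * b⁻¹ * d⁻¹ ∈ zpowers (Λ.z 1)}.ncard := Nat.card_coe_set_eq _
  have k2 := Set.ncard_le_ncard (s := {b | b ∈ Λ.Q ∧ b * d * b⁻¹ * d⁻¹ ∈ zpowers (Λ.z 1)})
    (t := {b | b ∈ Λ.Q ∧ b * d * b⁻¹ * d⁻¹ ∈ g •ᶜ Λ.Q})
    fun b hb => ⟨hb.1, Λ.cj_z hg hb.2 ▸ conj_mem_cj (zQ hb.2)⟩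
  rw [k1] at k
  nlinarith

/-- `m` moves the coset of `a` to the coset of `b` -/
def Mv (m a b : G) : Prop := m ∈ Λ.H ∧ m * a * m⁻¹ * b⁻¹ ∈ zpowers (Λ.z 1)

omit [Finite G] in
theorem Mv.mul {Λ : Sq G} {m m' a b c : G} (h : Λ.Mv m b c) (h' : Λ.Mv m' a b) : Λ.Mv (m * m') a c :=
  ⟨mul_mem h.1 h'.1, by
    rw [show m * m' * a * (m * m')⁻¹ * c⁻¹ = m * (m' * a * m'⁻¹ * b⁻¹) * m⁻¹ * (m * b * m⁻¹ * c⁻¹) by group,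
      Λ.cj_z h.1 h'.2]
    exact mul_mem h'.2 h.2⟩

omit [Finite G] in
theorem Mv.inv {Λ : Sq G} {m a b : G} (h : Λ.Mv m a b) : Λ.Mv m⁻¹ b a :=
  ⟨inv_mem h.1, by
    rw [show m⁻¹ * b * m⁻¹⁻¹ * a⁻¹ = m⁻¹ * (m * a * m⁻¹ * b⁻¹)⁻¹ * m⁻¹⁻¹ by group, Λ.cj_z (inv_mem h.1) (inv_mem h.2)]
    exact inv_mem h.2⟩

omit [Finite G] in
theorem Mv_of {m a : G} (hm : m ∈ Λ.H) {p c c' : F4} (e : m * a * m⁻¹ = Λ.u p 0 c') (h : c' + c = 0 ∨ c' + c = 1) :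
    Λ.Mv m a (Λ.u p 0 c) := ⟨hm, by
  rw [e, inv_of_sq (Λ.v_sq ..), Λ.v_mul, add_self]
  rcases h with h | h <;> rw [h]
  exacts [Λ.u_zero ▸ one_mem _, mem_zpowers _]⟩

/-- PROOF. Otherwise some element of `X` acts non-trivially (`fixQ`), `ξ = u 0 w 0 ∈ X` (`nrmQ`), and
`ρ = ξ * g ξ g⁻¹ ∈ X` permutes the cosets of `⟨z 1⟩` represented by `z w`, `u 1 0 w`, `u 1 0 0` cyclically. -/
theorem eq_Q {X : Subgroup G} (hX : IsPGroup 2 X) (hQ : Λ.Q ≤ X) (hH : X ≤ Λ.H)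
    (hN : Λ.H ≤ normalizer (X : Set G)) : X = Λ.Q := by
  refine le_antisymm (fun x hx => ?_) hQ
  obtain ⟨k, e⟩ := pow_two_of_mem hX hx
  refine Λ.fixQ' (hH hx) e fun a ha => ?_
  by_contra hn
  have m := Λ.nrmQ (fun n h _ => hN h) hQ hx (hH hx) (Λ.H_le (hH hx)) ⟨a, ha, hn⟩
  have gH : Λ.g ∈ Λ.H := Λ.mem_H.2 (comm_of_cj Λ.gz)
  obtain ⟨j, hj⟩ := pow_two_of_mem hX (mul_mem m ((mem_normalizer_iff.1 (hN gH) _).1 m))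
  have g0 : Λ.Mv Λ.g (Λ.u 0 0 F4.w) (Λ.u 1 0 F4.w) := Λ.Mv_of gH Λ.gy (by decide)
  have g1 : Λ.Mv Λ.g (Λ.u 1 0 F4.w) (Λ.u 0 0 F4.w) :=
    Λ.gv.elim (fun e => Λ.Mv_of gH e (by decide)) fun e => Λ.Mv_of gH e (by decide)
  have g2 : Λ.Mv Λ.g (Λ.u 1 0 0) (Λ.u 1 0 0) := by
    have e : Λ.u 1 0 0 = Λ.u 1 0 F4.w * Λ.u 0 0 F4.w := by rw [Λ.u_mul_z, add_self]
    rcases Λ.gv with k | k
    · exact Λ.Mv_of gH (c' := F4.w + F4.w) (by rw [e, cj_mul', k, Λ.gy, Λ.z_mul_u]) (by decide)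
    · exact Λ.Mv_of gH (c' := F4.w + F4.v) (by rw [e, cj_mul', k, Λ.gy, Λ.z_mul_u]) (by decide)
  have x0 : Λ.Mv (Λ.u 0 F4.w 0) (Λ.u 0 0 F4.w) (Λ.u 0 0 F4.w) := Λ.Mv_of (hH m) (Λ.u_conj ..) (by decide)
  have x1 : Λ.Mv (Λ.u 0 F4.w 0) (Λ.u 1 0 F4.w) (Λ.u 1 0 0) := Λ.Mv_of (hH m) (Λ.u_conj ..) (by decide)
  have x2 : Λ.Mv (Λ.u 0 F4.w 0) (Λ.u 1 0 0) (Λ.u 1 0 F4.w) := Λ.Mv_of (hH m) (Λ.u_conj ..) (by decide)
  have r0 := x2.mul ((g2.mul x1).mul g1.inv)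
  have r1 := x1.mul ((g0.mul x0).mul g0.inv)
  have r2 := x0.mul ((g1.mul x2).mul g2.inv)
  generalize Λ.u 0 F4.w 0 * (Λ.g * Λ.u 0 F4.w 0 * Λ.g⁻¹) = ρ at *
  have key : ∀ j : ℕ, (Λ.Mv (ρ ^ 2 ^ j) (Λ.u 0 0 F4.w) (Λ.u 1 0 F4.w) ∧ Λ.Mv (ρ ^ 2 ^ j) (Λ.u 1 0 F4.w) (Λ.u 1 0 0) ∧
      Λ.Mv (ρ ^ 2 ^ j) (Λ.u 1 0 0) (Λ.u 0 0 F4.w)) ∨ (Λ.Mv (ρ ^ 2 ^ j) (Λ.u 0 0 F4.w) (Λ.u 1 0 0) ∧
      Λ.Mv (ρ ^ 2 ^ j) (Λ.u 1 0 F4.w) (Λ.u 0 0 F4.w) ∧ Λ.Mv (ρ ^ 2 ^ j) (Λ.u 1 0 0) (Λ.u 1 0 F4.w)) := fun j => by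
    induction j with
    | zero => exact .inl (by simpa using ⟨r0, r1, r2⟩)
    | succ j ih =>
      rw [pow_succ, pow_mul, sq]
      exact ih.symm.imp (fun ⟨a, b, c⟩ => ⟨c.mul a, a.mul b, b.mul c⟩) fun ⟨a, b, c⟩ => ⟨b.mul a, c.mul b, a.mul c⟩
  obtain ⟨c, k⟩ : ∃ c, Λ.Mv 1 (Λ.u 0 0 F4.w) (Λ.u 1 0 c) := (hj ▸ key j).elim (fun h => ⟨_, h.1⟩) fun h => ⟨_, h.1⟩
  obtain ⟨d, e'⟩ := zpowers_le.2 (Λ.z_mem 1) k.2
  rw [one_mul, inv_one, mul_one, inv_of_sq (Λ.v_sq ..), Λ.v_mul] at e'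
  exact absurd (Λ.u_inj e').1 (by decide)

theorem H_le_O : Λ.H ≤ normalizer (Λ.O : Set G) := fun a ha => mem_normalizer_fintype fun o ho => by
  have m : a * o * a⁻¹ ∈ centralizer (Λ.Q : Set G) := (mem_normalizer_iff.1
    (normalizer_le_normalizer_centralizer _ (Λ.H_le ha)) o).1 fun q hq => Λ.Q_O hq ho
  refine (Λ.cenQ m).resolve_right fun k => ?_
  obtain ⟨j, hj⟩ := Λ.Oodd
  have e : ∀ o ∈ Λ.O, o ^ (2 * j + 1) = 1 := fun o ho =>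
    hj ▸ orderOf_dvd_iff_pow_eq_one.1 (orderOf_dvd_natCard _ ho)
  have := e _ k
  rw [Commute.mul_pow (m _ (Λ.Qy_le (Λ.z_Qy 1))), conj_pow, e o ho, pow_succ, pow_mul, sq, Λ.z_sq] at this
  simp [Λ.z_eq_one] at this

/-- PROOF. By `H_le`, `trans`, an element `a ∈ H` is `n a'` with `n ∈ C(O) ⊓ H` and `a' ∈ C(Y)`; if `a'` acts by an
even permutation then `a' ∈ C(O) O` (`act_even`, `Act.ker`). `H` normalises `O` (`cenQ`), so `C(O) O ⊓ H` is a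
normal subgroup of `H` of index at most 2, and its involutions centralise `O`. -/
theorem cenO {a b : G} (ha : a ∈ Λ.H) (hb : b ∈ Λ.H) (a2 : a * a = 1) (b2 : b * b = 1) (e : a * b = b * a) :
    a ∈ centralizer (Λ.O : Set G) ∨ b ∈ centralizer (Λ.O : Set G) ∨ a * b ∈ centralizer (Λ.O : Set G) := by
  have dec : ∀ a ∈ Λ.H, ∃ n ∈ centralizer (Λ.O : Set G), ∃ a' π, Λ.Act a' π false ∧ a = n * a' := fun a ha => by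
    obtain ⟨n, -, nH, nO, e⟩ := Λ.trans (Λ.NI_y.cj ha (Λ.H_le ha))
    obtain ⟨π, h⟩ := Λ.act_of (Λ.mem_H.1 (mul_mem (inv_mem nH) ha)) (comm_of_cj (by rw [← cj_cj, ← e]; group))
    exact ⟨n, fun o ho => (nO o ho).symm, _, π, h, by group⟩
  have ev : ∀ {a π}, Λ.Act a π false → Perm.sign π = 1 → a ∈ centralizer (Λ.O : Set G) ⊔ Λ.O := fun {a π} h hs => by
    obtain ⟨n, hn, nO⟩ := Λ.act_even hs
    obtain ⟨x, hx, o, ho, e⟩ := Sz.Act.ker (g := n⁻¹ * a) (by simpa using hn.inv.mul h)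
    rw [eq_mul_of_inv_mul_eq e]
    exact mul_mem (mem_sup_left fun o ho => (nO o ho).symm)
      (mul_mem (mem_sup_left fun o ho => (Co.T_O hx ho).symm) (mem_sup_right ho))
  have fin : ∀ {a}, a * a = 1 → a ∈ centralizer (Λ.O : Set G) ⊔ Λ.O → a ∈ centralizer (Λ.O : Set G) :=
    fun {a} a2 h => by
      obtain ⟨c, hc, o, ho, rfl⟩ := (mem_sup_of_normalizes_right (centralizer_le_normalizer _)).1 h
      rw [mul_assoc, ← mul_assoc o, hc o ho, mul_assoc, ← mul_assoc] at a2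
      obtain ⟨j, hj⟩ := Λ.Oodd
      have e : o ^ (2 * j + 1) = 1 := hj ▸ orderOf_dvd_iff_pow_eq_one.1 (orderOf_dvd_natCard _ ho)
      rw [pow_succ, pow_mul, sq, eq_inv_of_mul_eq_one_right a2] at e
      exact mul_mem hc (eq_inv_of_mul_eq_one_right e ▸ inv_mem (pow_mem (inv_mem (mul_mem hc hc)) j))
  obtain ⟨n, hn, a', π, h, rfl⟩ := dec a ha
  obtain ⟨n', hn', b', π', h', rfl⟩ := dec b hb
  rcases Int.units_eq_one_or (Perm.sign π) with s | s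
  · exact .inl (fin a2 (mul_mem (mem_sup_left hn) (ev h s)))
  rcases Int.units_eq_one_or (Perm.sign π') with s' | s'
  · exact .inr (.inl (fin b2 (mul_mem (mem_sup_left hn') (ev h' s'))))
  refine .inr (.inr (fin (by rw [Commute.mul_mul_mul_comm e.symm, a2, b2, mul_one]) ?_))
  rw [show n * a' * (n' * b') = n * (a' * n' * a'⁻¹) * (a' * b') by group]
  exact mul_mem (mem_sup_left (mul_mem hn ((mem_normalizer_iff.1 (normalizer_le_normalizer_centralizer _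
    (Λ.H_le_O (Λ.Act_H h))) _).1 hn'))) (ev (h.mul h') (by simp [s, s']))

end Sq

end CL.SZ4
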