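import Cfsg.Agent.INV.SZ4.Df2
import Cfsg.Agent.INV.SZ4.Bas

/-! The action of `P₁`, `P₂` on `T / Y`; the dichotomy. -/

set_option autoImplicit false
set_option linter.unusedSectionVars false

namespace CL.SZ4

open Subgroup CL.MSS

universe u
variable {G : Type u} [Group G] [Finite G]

omit [Finite G] in
theorem Sd.sc {Λ Λ' : El G} {lam : G → F4} {y : F4 → G} {k : F4} {P : Subgroup G} (h : Sd Λ lam y k P) {α : F4}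
    (hα : α ≠ 0) (eR : Λ'.R = Λ.R) (eu : ∀ a b c, Λ'.u a b c = Λ.u (α * a) (α * α * b) c)
    (ew : ∀ a, Λ'.w y a = Λ.w y (α * a)) : Sd Λ' lam y (α * k) P := by
  have s : ∀ a : F4, α * (α⁻¹ * a) = a := mul_inv_cancel_left₀ hα
  have t : α * α * α = 1 := by clear * - hα; decide +revert
  refine ⟨h.pg, fun x => (h.mem x).trans ?_, fun a η => ?_, fun a b => ?_, fun m h1 h2 h3 => h.max m h1
    (fun a c => ?_) fun r hr => ?_⟩ <;> simp only [eR, eu, ew, mul_zero] at *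
  · exact ⟨fun ⟨r, hr, a, c, a', c', e⟩ => ⟨r, hr, α⁻¹ * a, c, α⁻¹ * a', c', by rw [s, s, e]⟩,
      fun ⟨r, hr, _, _, _, _, e⟩ => ⟨r, hr, _, _, _, _, e⟩⟩
  · rw [h.wy]; congr 2 <;> ring
  · obtain ⟨r, hr, e, c, e'⟩ := h.wu (α * a) (α * α * b)
    refine ⟨r, hr, by rw [e]; linear_combination (α * k * a * a * b) * t, c, ?_⟩
    rw [e']
    congr 2
    · congr 1; linear_combination (α * α * k * a * a * a * b) * t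
    · linear_combination (a * b) * t
  · simpa only [s] using h2 (α⁻¹ * a) c
  · exact let ⟨_, _, e⟩ := h3 r hr; ⟨_, _, e⟩

/-- rescale -/
def Lz.sc (Γ : Lz G) : Lz G where
  L := Γ.L
  u a b c := Γ.u (F4.w * a) (F4.w * F4.w * b) c
  h := Γ.h
  n i := cond i (Γ.n true * Γ.h * Γ.h) (Γ.n false * Γ.h)
  uL _ _ _ := Γ.uL ..
  hL := Γ.hL
  nL i := by cases i; exacts [mul_mem (Γ.nL _) Γ.hL, mul_mem (mul_mem (Γ.nL _) Γ.hL) Γ.hL]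
  u_mul a b c a' b' c' := by rw [Γ.u_mul]; exact Γ.u_congr (by ring) (by ring) (by congr 1; (clear * -; decide +revert))
  u_inj e := let ⟨h1, h2, h3⟩ := Γ.u_inj e
    ⟨mul_left_cancel₀ (by decide) h1, mul_left_cancel₀ (by decide) h2, h3⟩
  hu a b c := by rw [Γ.hu]; exact Γ.u_congr (by ring) (by ring) rfl
  h3 := Γ.h3
  n0 a c := by
    rw [cond_false, ← cj_cj, Γ.hu, mul_zero, mul_zero, Γ.n0]; exact Γ.u_congr rfl rfl (by (clear * -; decide +revert))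
  n1 a c := by
    rw [cond_true, ← cj_cj, ← cj_cj, Γ.hu, Γ.hu, mul_zero, mul_zero, mul_zero, Γ.n1]
    exact Γ.u_congr rfl (by ring) (by (clear * -; decide +revert))
  nh i := by
    cases i
    · rw [cond_false, ← Γ.nh false]; group
    · rw [cond_true, ← Γ.nh true]; group
  gen X h1 h2 := Γ.gen X (fun a b c => by
      convert h1 (F4.v * a) (F4.w * b) c using 2 <;> (clear * -; decide +revert)) fun i a b c => by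
    cases i
    · have := h2 false a (F4.v * b) (F4.v * c)
      rw [cond_false, ← cj_cj, Γ.hu] at this
      convert this using 4 <;> (clear * -; decide +revert)
    · have := h2 true (F4.w * a) b (F4.w * c)
      rw [cond_true, ← cj_cj, ← cj_cj, Γ.hu, Γ.hu] at this
      convert this using 4 <;> (clear * -; decide +revert)
  cenL g hg c hc e := by
    obtain ⟨a, b, d, rfl⟩ := Γ.cenL g hg c hc (by simpa using e)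
    exact ⟨F4.v * a, F4.w * b, d, Γ.u_congr (by (clear * -; decide +revert)) (by (clear * -; decide +revert)) rfl⟩
  syl P h1 h2 h3 g hg := by
    obtain ⟨a, b, d, rfl⟩ := Γ.syl P h1 h2 (fun a b c => by
      convert h3 (F4.v * a) (F4.w * b) c using 2 <;> (clear * -; decide +revert)) g hg
    exact ⟨F4.v * a, F4.w * b, d, Γ.u_congr (by (clear * -; decide +revert)) (by (clear * -; decide +revert)) rfl⟩
  LK := Γ.LK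

omit [Finite G] in
theorem Lz.sc_U (Γ : Lz G) : Γ.sc.U = Γ.U := Subgroup.ext fun _ =>
  ⟨fun ⟨_, _, _, e⟩ => ⟨_, _, _, e⟩, fun ⟨a, b, c, e⟩ => ⟨F4.v * a, F4.w * b, c,
    e.trans (Γ.u_congr (by (clear * -; decide +revert)) (by (clear * -; decide +revert)) rfl)⟩⟩

/-- rescale -/
def El.sc (Λ : El G) : El G :=
  { Λ.toLz.sc with
    tight := Λ.tight, ncm := Λ.ncm, ex := Λ.ex
    R := Λ.R, O := Λ.O, RK := Λ.RK, Rsq := Λ.Rsq, R1 := Λ.R1, noA := Λ.noA, Oodd := Λ.Oodd, OK := Λ.OK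
    OR := Λ.OR, cenR := Λ.cenR, x := Λ.x, xN := Λ.xN
    xJ := (congrArg (fun U : Subgroup G => Λ.x ∈ normalizer ((Λ.R ⊔ U : Subgroup G) : Set G))
      Λ.toLz.sc_U).mpr Λ.xJ }

namespace Co

variable (Λ : Co G)

omit [Finite G] in
theorem w1_mul (a a' : F4) : Λ.w1 a * Λ.w1 a' = Λ.w1 (a + a') := by
  rw [w1, w1, w1, Lz.w, Lz.w, Lz.w, ← cj_mul', Λ.y_mul]

omit [Finite G] in
theorem w1_v (a a' c : F4) : Λ.w1 a * Λ.u a' 0 c = Λ.u a' 0 c * Λ.w1 a := by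
  rw [← Λ.n0 c a']; exact cm_cj _ (Λ.yu ..)

omit [Finite G] in
theorem w1_r (a : F4) {r : G} (hr : r ∈ Λ.R) : Λ.w1 a * r * (Λ.w1 a)⁻¹ = r * Λ.u (Λ.lam r * a) 0 0 := by
  have e := Λ.conj_K (Λ.RK' hr) (Λ.nL false)
  calc _ = Λ.w1 a * (Λ.n false * r * (Λ.n false)⁻¹) * (Λ.w1 a)⁻¹ := by rw [e]
    _ = Λ.n false * (Λ.y a * r * (Λ.y a)⁻¹) * (Λ.n false)⁻¹ := by rw [w1, Lz.w]; group
    _ = _ := by rw [Λ.yr a r hr, cj_mul', e, Λ.n0]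

omit [Finite G] in
theorem w1_O (a : F4) {o : G} (ho : o ∈ Λ.O) : Λ.w1 a * o = o * Λ.w1 a := by
  have := cm_cj (Λ.n false) (Λ.yO a o ho)
  rwa [Λ.conj_K (Λ.OK ho) (Λ.nL false)] at this

omit [Finite G] in
theorem h_w1 (a : F4) : Λ.h * Λ.w1 a * Λ.h⁻¹ = Λ.w1 (F4.v * a) := by
  have e : Λ.h = Λ.n false * (Λ.h * Λ.h) * (Λ.n false)⁻¹ := by
    rw [cj_mul', Λ.nh, ← mul_assoc, Λ.h3, one_mul]
  calc _ = Λ.n false * (Λ.h * (Λ.h * Λ.y a * Λ.h⁻¹) * Λ.h⁻¹) * (Λ.n false)⁻¹ := by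
        conv_lhs => rw [e, w1, Lz.w]
        group
    _ = _ := by rw [Λ.hy, Λ.hy, ← mul_assoc F4.w]; rfl

omit [Finite G] in
theorem w1_cl (a₀ : F4) {x : G} (hx : x ∈ Λ.T) : Λ.w1 a₀ * x * (Λ.w1 a₀)⁻¹ ∈ Λ.T ∧
    Λ.cl (Λ.w1 a₀ * x * (Λ.w1 a₀)⁻¹) = ((Λ.cl x).1 + Λ.k1 * a₀ * a₀ * (Λ.cl x).2.2.1,
      (Λ.cl x).2.1 + a₀ * (Λ.cl x).1 + Λ.k1 * a₀ * a₀ * (Λ.cl x).2.2.2 + Λ.k1 * a₀ * a₀ * a₀ * (Λ.cl x).2.2.1,
      (Λ.cl x).2.2.1, (Λ.cl x).2.2.2 + a₀ * (Λ.cl x).2.2.1) := by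
  obtain ⟨r, hr, a, b, c, η, rfl⟩ := hx
  obtain ⟨s, hs, e, d, e'⟩ := Λ.s1.wu a₀ b
  have m1 := mul_mem (Λ.r_mem hr) (Λ.uT (Λ.lam r * a₀) 0 0)
  have m2 := mul_mem (Λ.el_mem hs (Λ.k1 * a₀ * a₀ * a₀ * b) b d (a₀ * b)) (Λ.uT a 0 c)
  have m3 := mul_mem (Λ.yT η) (Λ.uT (Λ.k1 * a₀ * a₀ * η) 0 (Λ.k1 * a₀ * η * η))
  rw [Λ.cl_el hr, el, Bas.u_split, cj_mul', cj_mul', cj_mul', Λ.w1_r a₀ hr, e', cj_of_comm (Λ.w1_v ..), Λ.s1.wy]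
  refine ⟨mul_mem (mul_mem m1 m2) m3, ?_⟩
  rw [← el, cl_mul (mul_mem m1 m2) m3, cl_mul m1 m2, cl_mul (Λ.r_mem hr) (Λ.uT ..), cl_mul (Λ.el_mem hs ..) (Λ.uT ..),
    cl_mul (Λ.yT _) (Λ.uT ..), Λ.cl_el hs, e, Λ.cl_r hr, cl_u, cl_u, cl_u, cl_y]
  simp only [Prod.mk_add_mk, Prod.mk.injEq]
  refine ⟨?_, ?_, ?_, ?_⟩ <;> ring

omit [Finite G] in
theorem w2_cl (b₀ : F4) {x : G} (hx : x ∈ Λ.T) : Λ.w2 b₀ * x * (Λ.w2 b₀)⁻¹ ∈ Λ.T ∧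
    Λ.cl (Λ.w2 b₀ * x * (Λ.w2 b₀)⁻¹) = ((Λ.cl x).1 + Λ.k2 * b₀ * b₀ * (Λ.cl x).2.1, (Λ.cl x).2.1,
      (Λ.cl x).2.2.1 + b₀ * (Λ.cl x).1 + Λ.k2 * b₀ * b₀ * (Λ.cl x).2.2.2 + Λ.k2 * b₀ * b₀ * b₀ * (Λ.cl x).2.1,
      (Λ.cl x).2.2.2 + b₀ * (Λ.cl x).2.1) := by
  obtain ⟨h1, h2⟩ := Λ.sw.w1_cl b₀ (Λ.sw_T.ge hx)
  rw [Λ.sw_T] at h1
  rw [Λ.sw_cl h1, Λ.sw_cl hx] at h2
  simp only [Prod.mk.injEq] at h2
  exact ⟨h1, Prod.ext h2.1 (Prod.ext h2.2.2.1 (Prod.ext h2.2.1 h2.2.2.2))⟩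

theorem w1_norm (a : F4) : Λ.w1 a ∈ normalizer (Λ.T : Set G) :=
  mem_normalizer_fintype fun _ hx => (Λ.w1_cl a hx).1

theorem ker {g : G} (h : ∀ x ∈ Λ.T, g * x * g⁻¹ ∈ Λ.T ∧ Λ.cl (g * x * g⁻¹) = Λ.cl x) :
    ∃ x ∈ Λ.T, ∃ o ∈ Λ.O, g = x * o := by
  have k : ∀ x ∈ Λ.T, ∃ c, g * x * g⁻¹ = x * Λ.z c := fun x hx => eq_of_cl hx (h x hx).1 (h x hx).2.symm
  have k2 : ∀ c, ∀ r ∈ Λ.R, ∀ d, g * r * g⁻¹ = r * Λ.z d →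
      Λ.y c * g * r * (Λ.y c * g)⁻¹ = r * Λ.z (Λ.lam r * c + d) := fun c r hr d e => by
    rw [← cj_cj, e, cj_mul', Λ.yr c r hr, cj_of_comm (Λ.yu ..), mul_assoc, Λ.z_mul]
  obtain ⟨r0, h0, l0⟩ := Λ.lam_one
  obtain ⟨c, e⟩ := k _ (Λ.r_mem h0)
  have e1 := k2 c r0 h0 c e
  rw [l0, one_mul, add_self, Lz.z, Λ.u_zero, mul_one] at e1
  obtain ⟨s, hs, a, b, d, e2⟩ := Λ.aut (Λ.cen_le_N (Λ.RK' h0) (Λ.Rsq _ h0) (fun n => by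
    rw [n, Λ.lam_1] at l0; exact zero_ne_one l0) (comm_of_cj e1)) fun a b d => by
      obtain ⟨d', e⟩ := k _ (Λ.uT a b d)
      exact ⟨_, by rw [← cj_cj, e, Λ.u_mul_z, cj_of_comm (Λ.yu ..)]⟩
  obtain ⟨r, hr, o, ho, rfl⟩ := Λ.cenR s hs fun r hr => by
    obtain ⟨d', e⟩ := k _ (Λ.r_mem hr)
    have := k2 c r hr d' e
    rw [e2, ← cj_cj, cj_of_comm (Λ.ru hr ..).symm, ← mul_one (s * r * s⁻¹)] at this
    exact comm_of_cj (Λ.ext (mul_mem (mul_mem hs (Λ.RK' hr)) (inv_mem hs)) (Λ.RK' hr) (one_mem _) (Λ.uL ..) this).1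
  refine ⟨(Λ.y c)⁻¹ * r * Λ.u a b d, mul_mem (mul_mem (inv_mem (Λ.yT c)) (Λ.r_mem hr)) (Λ.uT ..), o, ho, ?_⟩
  rw [mul_assoc, ← Λ.comm (Λ.OK ho) (Λ.uL ..), mul_assoc, ← mul_assoc r, ← e2, inv_mul_cancel_left]

omit [Finite G] in
theorem wy_r (a c : F4) {r : G} (hr : r ∈ Λ.R) :
    Λ.w1 a * Λ.y c * r * (Λ.w1 a * Λ.y c)⁻¹ = r * Λ.u (Λ.lam r * a) 0 (Λ.lam r * c) := by
  rw [← cj_cj, Λ.yr c r hr, cj_mul', Λ.w1_r a hr, cj_of_comm (Λ.w1_v ..), mul_assoc, Λ.v_mul, add_zero, zero_add]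

omit [Finite G] in
theorem P1_iff {m : G} : m ∈ Λ.P1 ↔ (∃ k : ℕ, m ^ 2 ^ k = 1) ∧ (∀ a c, m * Λ.u a 0 c = Λ.u a 0 c * m) ∧
    ∀ r ∈ Λ.R, ∃ a c, m * r * m⁻¹ = r * Λ.u a 0 c := by
  refine ⟨fun h => ⟨pow_two_of_mem Λ.s1.pg h, ?_⟩, fun h => Λ.s1.max m h.1 h.2.1 h.2.2⟩
  obtain ⟨s, hs, a, c, a', c', rfl⟩ := (Λ.s1.mem m).1 h
  refine ⟨fun p q => (Commute.mul_left (.mul_left (.mul_left (Λ.ru hs ..) (Λ.w1_v ..)) (Λ.yu ..)) (Λ.v_comm ..)).eq,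
    fun r hr => ⟨Λ.lam r * a, Λ.lam r * c, ?_⟩⟩
  rw [← cj_cj, cj_of_comm (Λ.ru hr ..).symm, mul_assoc s, ← cj_cj, Λ.wy_r a c hr, cj_mul',
    cj_of_comm (comm_of_sq Λ.Rsq hs hr), cj_of_comm (Λ.ru hs ..)]

omit [Finite G] in
theorem Kp_rv {r : G} (hr : r ∈ Λ.R) (r1 : r ≠ 1) (a c : F4) : IsConj r (r * Λ.u a 0 c) := by
  have l := mt (Λ.lam_inj r hr) r1
  exact isConj_iff.2 ⟨_, by rw [Λ.wy_r ((Λ.lam r)⁻¹ * a) ((Λ.lam r)⁻¹ * c) hr, mul_inv_cancel_left₀ l,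
    mul_inv_cancel_left₀ l]⟩

omit [Finite G] in
theorem norm_P1 {g : G} (hR : ∀ r ∈ Λ.R, g * r = r * g) (hV : g ∈ normalizer (Λ.V : Set G)) :
    g ∈ normalizer (Λ.P1 : Set G) := by
  have k : ∀ {g}, (∀ r ∈ Λ.R, g * r = r * g) → g ∈ normalizer (Λ.V : Set G) → ∀ m ∈ Λ.P1, g * m * g⁻¹ ∈ Λ.P1 :=
    fun {g} hR hV m hm => by
    obtain ⟨⟨n, e⟩, h2, h3⟩ := Λ.P1_iff.1 hm
    refine Λ.P1_iff.2 ⟨⟨n, by rw [conj_pow, e]; group⟩, fun a c => ?_, fun r hr => ?_⟩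
    · obtain ⟨a', c', e⟩ := (mem_normalizer_iff.1 (inv_mem hV) _).1 (Λ.v_mem a c)
      have := cm_cj g (h2 a' c')
      rwa [← e, show g * (g⁻¹ * Λ.u a 0 c * g⁻¹⁻¹) * g⁻¹ = Λ.u a 0 c by group] at this
    · obtain ⟨a, c, e⟩ := h3 r hr
      obtain ⟨a', c', e'⟩ := (mem_normalizer_iff.1 hV _).1 (Λ.v_mem a c)
      refine ⟨a', c', ?_⟩
      calc _ = g * m * g⁻¹ * (g * r * g⁻¹) * (g * m * g⁻¹)⁻¹ := by rw [cj_of_comm (hR r hr)]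
        _ = g * (m * r * m⁻¹) * g⁻¹ := by group
        _ = _ := by rw [e, cj_mul', cj_of_comm (hR r hr), e']
  exact mem_normalizer_iff.2 fun m => ⟨k hR hV m, fun e => by
    simpa [mul_assoc] using k (fun r hr => (Commute.inv_left (hR r hr)).eq) (inv_mem hV) _ e⟩

theorem k_mul (h : Λ.k1 ≠ 0) : Λ.k1 * Λ.k2 = 1 := by
  obtain ⟨m1, e1⟩ := Λ.w1_cl 1 (Λ.uT 0 1 0)
  obtain ⟨⟨r, hr, a, b, c, η, e⟩, e2⟩ := Λ.w2_cl (Λ.k1 * Λ.k1) m1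
  obtain ⟨m, -, em⟩ := Λ.inv_conj (Λ.uL 0 1 0) (by rw [Λ.u_sq, zero_mul]; exact Λ.u_zero) (by simp [Λ.u_eq_one])
  have ap := ((show Λ.Ap _ from isConj_iff.2 ⟨m, em⟩).cj (Λ.w1 1)).cj (Λ.w2 (Λ.k1 * Λ.k1))
  rw [e1, cl_u, e, Λ.cl_el hr] at e2
  simp only [Prod.mk.injEq] at e2
  have t : ∀ k j : F4, k ≠ 0 → 1 + k * k * (0 + k * 1 * 1 * 1) + j * (k * k) * (k * k) * (0 + 1 * 1) +
      j * (k * k) * (k * k) * (k * k) * (0 + 1 * 0 + k * 1 * 1 * 0 + k * 1 * 1 * 1 * 1) = 0 ∧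
      0 + 1 * 1 + k * k * (0 + 1 * 0 + k * 1 * 1 * 0 + k * 1 * 1 * 1 * 1) = 0 ∧
      (0 = 0 + k * 1 * 1 * 1 + j * (k * k) * (k * k) * (0 + 1 * 0 + k * 1 * 1 * 0 + k * 1 * 1 * 1 * 1) →
        k * j = 1) := by decide
  obtain ⟨t1, t2, t3⟩ := t _ Λ.k2 h
  refine t3 (.trans ?_ e2.1)
  by_contra n
  have r1 : r ≠ 1 := fun k => n (by rw [k, Λ.lam_1])
  obtain ⟨g, k⟩ := isConj_iff.1 (Λ.Kp_rv hr r1 a c)
  rw [e, el, e2.2.2.1, t1, e2.2.2.2, t2, Λ.y_zero, mul_one, ← k] at ap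
  exact Λ.not_Ap (Lz.Kp.cj ⟨Λ.Rsq r hr, r1, 1, by simpa using Λ.RK' hr⟩ g) ap

theorem exists_sc : ∃ Λ' : Co G, Λ'.k1 = F4.w * Λ.k1 ∧ Λ'.k2 = F4.v * Λ.k2 :=
  ⟨{ Λ.toEl.sc with
      lam := Λ.lam, y := Λ.y, k1 := F4.w * Λ.k1, k2 := F4.v * Λ.k2, P1 := Λ.P1, P2 := Λ.P2, lam_mul := Λ.lam_mul
      lam_inj := Λ.lam_inj, lam_one := Λ.lam_one, y_mul := Λ.y_mul, yu := fun _ _ _ _ => Λ.yu ..
      hy := Λ.hy, yO := Λ.yO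
      yr := fun η r hr => (Λ.yr η r hr).trans (congrArg _ (Λ.u_congr (by decide) (by decide) rfl))
      s1 := Λ.s1.sc (by decide) rfl (fun _ _ _ => rfl) fun a => by rw [Lz.w, Lz.w, ← Λ.hy, cj_cj]; rfl
      s2 := Λ.s2.sc (by decide) rfl (fun a b c => Λ.u_congr (by (clear * -; decide +revert)) (by (clear * -; decide +revert))
        (by congr 1; (clear * -; decide +revert))) fun a => by
          rw [Lz.w, Lz.w, show F4.v * a = F4.w * (F4.w * a) by (clear * -; decide +revert), ← Λ.hy, ← Λ.hy, cj_cj, cj_cj]; rfl },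
    rfl, rfl⟩

theorem dich : (Λ.k1 = 0 ∧ Λ.k2 = 0) ∨ Nonempty (Sz G) := by
  by_cases h : Λ.k1 = 0
  · exact .inl ⟨h, by_contra fun n => by simpa [show Λ.sw.k2 = 0 from h] using Λ.sw.k_mul n⟩
  have k : ∀ Λ : Co G, Λ.k1 = 1 → Nonempty (Sz G) := fun Λ e => by
    choose r r1 r2 _ using Λ.s1.wu 1
    exact ⟨⟨Λ, r, r1, by simpa [e] using r2, e, by simpa [e] using Λ.k_mul (by simp [e])⟩⟩
  obtain ⟨Λ1, e1, -⟩ := Λ.exists_sc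
  obtain ⟨Λ2, e2, -⟩ := Λ1.exists_sc
  have t : ∀ k : F4, k ≠ 0 → k = 1 ∨ F4.w * k = 1 ∨ F4.w * (F4.w * k) = 1 := by decide
  rcases t _ h with e | e | e
  exacts [.inr (k Λ e), .inr (k Λ1 (e1.trans e)), .inr (k Λ2 (by rw [e2, e1, e]))]

end Co

end CL.SZ4
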